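import Groth.Agent.ASBunKS.Descent
import Groth.Agent.DevLib.Power

/-!
# Powers of modules and indecomposables of the same type
-/

set_option autoImplicit false
set_option backward.isDefEq.respectTransparency false
set_option linter.style.haveILetI false

universe u

open CategoryTheory CategoryTheory.Limits AlgebraicGeometry
open W4c1astiltbs12

noncomputable section

namespace Groth.Agent.ASBunKS

variable {Y : Scheme.{u}}

/-- Exchanging two indices of a double sum. -/
def powSwap (W : Y.Modules) (r s : ℕ) : pow (pow W r) s ≅ pow (pow W s) r where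
  hom := Sigma.desc fun a => Sigma.desc fun b =>
    Sigma.ι (fun _ : Fin s => W) a ≫ Sigma.ι (fun _ : Fin r => pow W s) b
  inv := Sigma.desc fun b => Sigma.desc fun a =>
    Sigma.ι (fun _ : Fin r => W) b ≫ Sigma.ι (fun _ : Fin s => pow W r) a
  hom_inv_id := by ext a b; simp
  inv_hom_id := by ext b a; simp

/-- Powers of isomorphic modules. -/
def powIso {M N : Y.Modules} (e : M ≅ N) (n : ℕ) : pow M n ≅ pow N n := Sigma.mapIso fun _ => e

theorem isZero_pow_zero (M : Y.Modules) : IsZero (pow M 0) :=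
  (IsZero.iff_id_eq_zero _).2 (Sigma.hom_ext _ _ fun i => i.elim0)

variable {k : Type u} [Field k] {X : Scheme.{u}} (p : X ⟶ Spec (CommRingCat.of k)) (K : Type u) [Field K]
  [Algebra k K]

/-- Base change commutes with powers. -/
def bcPow (M : X.Modules) (n : ℕ) : bcMod p K (pow M n) ≅ pow (bcMod p K M) n :=
  haveI : PreservesColimits (Scheme.Modules.pullback (proj p K)) :=
    (Scheme.Modules.pullbackPushforwardAdjunction (proj p K)).leftAdjoint_preservesColimits
  PreservesCoproduct.iso (Scheme.Modules.pullback (proj p K)) fun _ : Fin n => M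

theorem isCoh_sumL [IsLocallyNoetherian X] : ∀ (l : List X.Modules), (∀ A ∈ l, Coh.IsCoh A) →
    Coh.IsCoh (VBLib.KS.sumL l)
  | [], _ => ShStabLib.isCoh_of_iso ((isZero_cokernel_of_epi (𝟙 (Coh.structureModule X))).iso (isZero_zero _))
      (QCohLib.isCoh_kernel_cokernel (𝟙 (Coh.structureModule X)) (DevLib.isCoh_structureModule X)
        (DevLib.isCoh_structureModule X)).2
  | A :: l, h => DevLib.isCoh_biprod (h A List.mem_cons_self)
      (isCoh_sumL l fun B hB => h B (List.mem_cons_of_mem _ hB))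

theorem isCoh_coprod [IsLocallyNoetherian X] {n : ℕ} {Fs : Fin n → X.Modules} (h : ∀ i, Coh.IsCoh (Fs i)) :
    Coh.IsCoh (∐ Fs) := by
  obtain ⟨e⟩ := nonempty_sumL_ofFn Fs
  refine ShStabLib.isCoh_of_iso e (isCoh_sumL _ fun A hA => ?_)
  obtain ⟨i, rfl⟩ := List.mem_ofFn.1 hA
  exact h i

/-- A finite sum of coherent modules. -/
theorem isCoh_pow [IsLocallyNoetherian X] {M : X.Modules} (hM : Coh.IsCoh M) (n : ℕ) : Coh.IsCoh (pow M n) :=
  isCoh_coprod fun _ => hM

include p in
theorem pos_of_indec [IsProper p] {E : X.Modules} (hE : Coh.IsCoh E) (hEi : Indec E)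
    {W : (W4bk4gw11416.baseChange p K).Modules} {r : ℕ} (e : bcMod p K E ≅ pow W r) : 0 < r := by
  rcases Nat.eq_zero_or_pos r with rfl | h
  · exfalso
    haveI : IsLocallyNoetherian X := LocallyOfFiniteType.isLocallyNoetherian p
    obtain ⟨f⟩ := nonempty_iso_of_iso_bc p K hE (isCoh_pow hE 0)
      (e ≪≫ (isZero_pow_zero W).iso (isZero_pow_zero (bcMod p K E)) ≪≫ (bcPow p K E 0).symm)
    exact hEi.1 ((isZero_pow_zero E).of_iso f)
  · exact h

/-- Indecomposables of the same type are isomorphic. -/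
theorem nonempty_iso_of_type [IsProper p] {E E' : X.Modules} (hE : Coh.IsCoh E) (hE' : Coh.IsCoh E')
    (hEi : Indec E) (hE'i : Indec E') {W : (W4bk4gw11416.baseChange p K).Modules} {r s : ℕ}
    (e : bcMod p K E ≅ pow W r) (e' : bcMod p K E' ≅ pow W s) : Nonempty (E ≅ E') := by
  haveI : IsLocallyNoetherian X := LocallyOfFiniteType.isLocallyNoetherian p
  have hs := pos_of_indec p K hE' hE'i e'
  obtain ⟨f⟩ := nonempty_iso_of_iso_bc p K (isCoh_pow hE s) (isCoh_pow hE' r)
    (bcPow p K E s ≪≫ powIso e s ≪≫ powSwap W r s ≪≫ (powIso e' r).symm ≪≫ (bcPow p K E' r).symm)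
  obtain ⟨σ, hσ⟩ := indec_unique k p (isCoh_pow hE s) (fun _ : Fin s => hEi) (fun _ : Fin r => hE'i)
    (Iso.refl _) f
  exact hσ ⟨0, hs⟩

end Groth.Agent.ASBunKS
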