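import Groth.Agent.ASBunKS.EndBC
import Groth.Agent.ASBunKS.Isotyp
import Groth.Agent.CSALib.Splitting

/-!
# Endomorphism algebras of isotypical modules
-/

set_option autoImplicit false
set_option backward.isDefEq.respectTransparency false
set_option linter.style.haveILetI false
set_option linter.unusedSectionVars false

universe u

open CategoryTheory CategoryTheory.Limits AlgebraicGeometry
open W4c1astiltbs12
open Groth.Agent.VBLib
open scoped TensorProduct

noncomputable section

namespace Groth.Agent.ASBunKS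

theorem ι_prj {Y : Scheme.{u}} {L : Y.Modules} {r : ℕ} (a b : Fin r) :
    Sigma.ι (fun _ : Fin r => L) a ≫ prj L b = if a = b then 𝟙 L else 0 := by
  simp [prj]

section Scalars

variable {K : Type u} [Field K] [IsAlgClosed K] {Y : Scheme.{u}} (q : Y ⟶ Spec (CommRingCat.of K)) [IsProper q]
  [IsIntegral Y] {L : Y.Modules} (hL : PicF.IsInvertible L)

include hL in
theorem bijective_cE : Function.Bijective (cE q L) := by
  refine ⟨fun a b h => by_contra fun hne => ?_, fun f => ?_⟩
  · letI : Y.Over (Spec (CommRingCat.of K)) := ⟨q⟩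
    haveI : IsIso (cst K L (a - b) : L ⟶ L) := isIso_cst K L (sub_ne_zero.2 hne)
    have h0 : (cst K L (a - b) : End L) = 0 := by
      have h1 : (cEHom q L) (a - b) = 0 := by
        rw [map_sub, sub_eq_zero]
        exact h
      exact h1
    refine id_ne_zero_of_invertible hL ?_
    rw [← IsIso.hom_inv_id (cst K L (a - b) : L ⟶ L)]
    exact (congrArg (· ≫ inv (cst K L (a - b) : L ⟶ L)) h0).trans zero_comp
  · letI : Y.Over (Spec (CommRingCat.of K)) := ⟨q⟩
    haveI : IsProper (Y ↘ Spec (CommRingCat.of K)) := ‹IsProper q›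
    haveI : IsLocallyNoetherian Y := LocallyOfFiniteType.isLocallyNoetherian q
    have hne : ¬ IsZero L := fun h => id_ne_zero_of_invertible hL ((IsZero.iff_id_eq_zero L).1 h)
    obtain ⟨c, hc⟩ := VBLib.exists_scalar K (CurveLib.isCoh_of_isInvertible hL) hne
      (fun g hg => isIso_of_ne_zero K q hL hg) (f : L ⟶ L)
    exact ⟨c, ((cst_eq_iff K).2 hc).symm⟩

end Scalars

section Bijective

variable {K : Type u} [Field K] {Y : Scheme.{u}} (q : Y ⟶ Spec (CommRingCat.of K)) {L : Y.Modules}
  (hb : Function.Bijective (cE q L))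

/-- The endomorphisms of an invertible module are the constants. -/
def cEEquiv : K ≃+* End L := RingEquiv.ofBijective (cEHom q L) hb

theorem cEEquiv_apply (c : K) : cEEquiv q hb c = cE q L c := rfl

/-- The coefficient of an endomorphism of a power. -/
def coef {r : ℕ} (f : End (pow L r)) (b a : Fin r) : K :=
  (cEEquiv q hb).symm (Sigma.ι (fun _ : Fin r => L) a ≫ (f : pow L r ⟶ pow L r) ≫ prj L b)

theorem cE_coef {r : ℕ} (f : End (pow L r)) (b a : Fin r) :
    cE q L (coef q hb f b a) = Sigma.ι (fun _ : Fin r => L) a ≫ (f : pow L r ⟶ pow L r) ≫ prj L b := by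
  rw [← cEEquiv_apply q hb, coef, RingEquiv.apply_symm_apply]

include hb in
theorem cE_injective : Function.Injective (cE q L) := hb.1

include hb in
/-- The endomorphisms of a power of an invertible module are matrices. -/
theorem nonempty_endPow_of_bijective (r : ℕ) :
    letI := endAlg q (pow L r)
    Nonempty (End (pow L r) ≃ₐ[K] Matrix (Fin r) (Fin r) K) := by
  classical
  letI := endAlg q (pow L r)
  let M : End (pow L r) → Matrix (Fin r) (Fin r) K := fun f => Matrix.of fun b a => coef q hb f b a
  have hM : ∀ f g, M (g * f) = M g * M f := fun f g => by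
    refine Matrix.ext fun c a => cE_injective q hb ?_
    rw [Matrix.mul_apply]
    show cE q L (coef q hb (g * f) c a) = cEHom q L (∑ b, coef q hb g c b * coef q hb f b a)
    rw [map_sum, cE_coef]
    calc Sigma.ι (fun _ : Fin r => L) a ≫ ((f : pow L r ⟶ pow L r) ≫ (g : pow L r ⟶ pow L r)) ≫ prj L c
        = Sigma.ι (fun _ : Fin r => L) a ≫ (f : pow L r ⟶ pow L r) ≫ (∑ b, prj L b ≫ Sigma.ι (fun _ : Fin r => L) b) ≫
            (g : pow L r ⟶ pow L r) ≫ prj L c := by rw [prj_total, Category.id_comp, Category.assoc]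
      _ = _ := by
        simp only [Preadditive.sum_comp, Preadditive.comp_sum, Category.assoc]
        refine Finset.sum_congr rfl fun b _ => ?_
        show _ = cE q L (coef q hb g c b * coef q hb f b a)
        rw [cE_mul, cE_coef, cE_coef]
        simp only [Category.assoc, End.mul_def]
  have hadd : ∀ f g, M (f + g) = M f + M g := fun f g => by
    refine Matrix.ext fun c a => cE_injective q hb ?_
    show cE q L (coef q hb (f + g) c a) = cE q L (coef q hb f c a + coef q hb g c a)
    rw [cE_add, cE_coef, cE_coef, cE_coef]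
    show Sigma.ι (fun _ : Fin r => L) a ≫ ((f : pow L r ⟶ pow L r) + (g : pow L r ⟶ pow L r)) ≫ prj L c = _
    rw [Preadditive.add_comp, Preadditive.comp_add]
  have hc : ∀ c : K, M (cE q (pow L r) c) = algebraMap K _ c := fun c => by
    refine Matrix.ext fun b a => cE_injective q hb ?_
    show cE q L (coef q hb (cE q (pow L r) c) b a) = _
    rw [cE_coef, cE_natural q (prj L b) c, ← Category.assoc, ι_prj, Matrix.algebraMap_matrix_apply]
    rcases eq_or_ne a b with rfl | h
    · rw [if_pos rfl, if_pos rfl, Category.id_comp]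
      rfl
    · rw [if_neg h, if_neg (Ne.symm h), zero_comp, cE_zero]
  let φ : End (pow L r) →ₐ[K] Matrix (Fin r) (Fin r) K :=
    { toFun := M
      map_one' := (congrArg M (cE_one q (pow L r)).symm).trans ((hc 1).trans (map_one _))
      map_mul' := fun g f => hM f g
      map_zero' := (congrArg M (cE_zero q (pow L r)).symm).trans ((hc 0).trans (map_zero _))
      map_add' := hadd
      commutes' := hc }
  refine ⟨AlgEquiv.ofBijective φ ⟨fun f g h => ?_, fun N => ?_⟩⟩
  · refine Sigma.hom_ext _ _ fun a => ?_
    rw [← Category.comp_id (f : pow L r ⟶ pow L r), ← Category.comp_id (g : pow L r ⟶ pow L r), ← prj_total L,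
      Preadditive.comp_sum, Preadditive.comp_sum, Preadditive.comp_sum, Preadditive.comp_sum]
    refine Finset.sum_congr rfl fun b _ => ?_
    have h1 := congrFun (congrFun h b) a
    have h2 := congrArg (cE q L) (show coef q hb f b a = coef q hb g b a from h1)
    rw [cE_coef, cE_coef] at h2
    simp only [← Category.assoc] at h2 ⊢
    exact congrArg (· ≫ Sigma.ι (fun _ : Fin r => L) b) h2
  · refine ⟨Sigma.desc fun a => ∑ b, (cE q L (N b a) : L ⟶ L) ≫ Sigma.ι (fun _ : Fin r => L) b, ?_⟩
    refine Matrix.ext fun b a => cE_injective q hb ?_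
    show cE q L (coef q hb _ b a) = _
    rw [cE_coef, Sigma.ι_desc_assoc, Preadditive.sum_comp, Finset.sum_eq_single b]
    · rw [Category.assoc, ι_prj, if_pos rfl, Category.comp_id]
    · intro c _ hcb
      rw [Category.assoc, ι_prj, if_neg hcb, comp_zero]
    · simp

end Bijective


theorem nonempty_endPow {K : Type u} [Field K] [IsAlgClosed K] {Y : Scheme.{u}} (q : Y ⟶ Spec (CommRingCat.of K))
    [IsProper q] [IsIntegral Y] {L : Y.Modules} (hL : PicF.IsInvertible L) (r : ℕ) :
    letI := endAlg q (pow L r)
    Nonempty (End (pow L r) ≃ₐ[K] Matrix (Fin r) (Fin r) K) :=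
  nonempty_endPow_of_bijective q (bijective_cE q hL) r

/-- Conjugation of endomorphism algebras along an isomorphism. -/
theorem nonempty_endCongr {k : Type u} [Field k] {X : Scheme.{u}} (p : X ⟶ Spec (CommRingCat.of k))
    {M N : X.Modules} (e : M ≅ N) :
    letI := endAlg p M
    letI := endAlg p N
    Nonempty (End M ≃ₐ[k] End N) := by
  letI := endAlg p M
  letI := endAlg p N
  exact ⟨{ toFun := fun f => e.inv ≫ (f : M ⟶ M) ≫ e.hom
           invFun := fun g => e.hom ≫ (g : N ⟶ N) ≫ e.inv
           left_inv := fun f => by simp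
           right_inv := fun g => by simp
           map_mul' := fun f g => by simp [End.mul_def]
           map_add' := fun f g => by
             show e.inv ≫ ((f : M ⟶ M) + (g : M ⟶ M)) ≫ e.hom = _
             rw [Preadditive.add_comp, Preadditive.comp_add]
           commutes' := fun c => by
             show e.inv ≫ (cE p M c : M ⟶ M) ≫ e.hom = (cE p N c : N ⟶ N)
             rw [cE_natural p e.hom c, Iso.inv_hom_id_assoc] }⟩

variable {k : Type u} [Field k] {X : Scheme.{u}} (p : X ⟶ Spec (CommRingCat.of k)) (K : Type u) [Field K]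
  [Algebra k K]

/-- The endomorphisms of an isotypical module are split by the algebraic closure. -/
theorem nonempty_splitEnd_of_bijective [IsProper p] {M : X.Modules}
    (hM : Coh.IsCoh M) {L : (W4bk4gw11416.baseChange p K).Modules} (hb : Function.Bijective (cE (snd p K) L)) {r : ℕ}
    (e : bcMod p K M ≅ pow L r) :
    letI := endAlg p M
    Nonempty (K ⊗[k] End M ≃ₐ[K] Matrix (Fin r) (Fin r) K) := by
  haveI : Coh.IsQCoh M := hM.1
  letI := endAlg p M
  letI := endAlg (snd p K) (bcMod p K M)
  letI := endAlg (snd p K) (pow L r)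
  obtain ⟨a⟩ := nonempty_endCongr (snd p K) e
  obtain ⟨b⟩ := nonempty_endPow_of_bijective (snd p K) hb r
  exact ⟨(AlgEquiv.ofBijective (endBC p K M) (bijective_endBC p K M hM)).trans (a.trans b)⟩

/-- The endomorphisms of an isotypical module form a central simple algebra. -/
theorem csa_end_of_bijective [IsProper p] {M : X.Modules}
    (hM : Coh.IsCoh M) {L : (W4bk4gw11416.baseChange p K).Modules} (hb : Function.Bijective (cE (snd p K) L)) {r : ℕ} (hr : 0 < r)
    (e : bcMod p K M ≅ pow L r) :
    letI := endAlg p M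
    Algebra.IsCentral k (End M) ∧ IsSimpleRing (End M) ∧ Module.Finite k (End M) ∧
      Module.finrank k (End M) = r ^ 2 := by
  letI := endAlg p M
  obtain ⟨φ⟩ := nonempty_splitEnd_of_bijective p K hM hb e
  obtain ⟨h1, h2, h3⟩ := CSALib.csa_of_splits (k := k) (A := End M) (L := K) ⟨r, hr.ne', ⟨φ⟩⟩
  exact ⟨h1, h2, h3, (CSALib.finrank_of_splits φ).trans (sq r).symm⟩

/-- An indecomposable isotypical module has a division algebra of endomorphisms. -/
theorem exists_div_end_of_bijective [IsProper p] {M : X.Modules}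
    (hM : Coh.IsCoh M) (hMi : Indec M) {L : (W4bk4gw11416.baseChange p K).Modules}
    (hb : Function.Bijective (cE (snd p K) L))
    {r : ℕ} (hr : 0 < r) (e : bcMod p K M ≅ pow L r) :
    ∀ f : M ⟶ M, f ≠ 0 → IsIso f := by
  classical
  letI := endAlg p M
  obtain ⟨h1, h2, h3, -⟩ := csa_end_of_bijective p K hM hb hr e
  intro f hf
  have hidem : ∀ x : End M, x * x = x → x = 0 ∨ x = 1 := fun x hx => by
    haveI := (ind_of_indec' k p hM hMi).2
    rcases IsLocalRing.isUnit_or_isUnit_of_add_one (a := x) (b := 1 - x) (add_sub_cancel x 1) with h | h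
    · exact Or.inr (h.mul_left_cancel (hx.trans (mul_one x).symm))
    · refine Or.inl ?_
      have h0 : (1 - x) * x = 0 := by rw [sub_mul, one_mul, hx, sub_self]
      exact h.mul_left_cancel (h0.trans (mul_zero _).symm)
  haveI : IsArtinianRing (End M) := IsArtinianRing.of_finite k (End M)
  obtain ⟨m, hm, D, _, _, -, ⟨φ⟩⟩ := IsSimpleRing.exists_algEquiv_matrix_divisionRing_finite k (End M)
  have hm1 : ∀ i j : Fin m, i = j := fun i j => by
    by_contra hne
    have hi : (Matrix.single i i (1 : D)) * Matrix.single i i 1 = Matrix.single i i 1 := by simp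
    rcases hidem (φ.symm (Matrix.single i i 1)) (by rw [← map_mul, hi]) with h | h
    · have := congrFun (congrFun (φ.symm.injective (h.trans (map_zero _).symm)) i) i
      simp at this
    · have := congrFun (congrFun (φ.symm.injective (h.trans (map_one _).symm)) j) j
      simp [Matrix.single_apply, hne] at this
  haveI : NeZero m := hm
  haveI : Subsingleton (Fin m) := ⟨hm1⟩
  refine (isUnit_iff_isIso f).1 ?_
  have h00 : φ (f : End M) 0 0 ≠ 0 := fun h0 => hf (φ.injective (Matrix.ext fun i j => by
    rw [hm1 i 0, hm1 j 0, h0, map_zero]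
    rfl))
  have hu : IsUnit (φ (f : End M)) :=
    ⟨⟨φ (f : End M), Matrix.of (fun _ _ => (φ (f : End M) 0 0)⁻¹),
      Matrix.ext fun i j => by
        rw [Matrix.mul_apply, Finset.sum_eq_single 0 (fun b _ hb => absurd (hm1 b 0) hb) (by simp), hm1 i 0, hm1 j 0,
          Matrix.of_apply, mul_inv_cancel₀ h00, Matrix.one_apply_eq],
      Matrix.ext fun i j => by
        rw [Matrix.mul_apply, Finset.sum_eq_single 0 (fun b _ hb => absurd (hm1 b 0) hb) (by simp), hm1 i 0, hm1 j 0,
          Matrix.of_apply, inv_mul_cancel₀ h00, Matrix.one_apply_eq]⟩, rfl⟩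
  simpa using hu.map φ.symm

theorem nonempty_splitEnd [IsProper p] [IsAlgClosed K] [IsIntegral (W4bk4gw11416.baseChange p K)] {M : X.Modules}
    (hM : Coh.IsCoh M) {L : (W4bk4gw11416.baseChange p K).Modules} (hL : PicF.IsInvertible L) {r : ℕ}
    (e : bcMod p K M ≅ pow L r) :
    letI := endAlg p M
    Nonempty (K ⊗[k] End M ≃ₐ[K] Matrix (Fin r) (Fin r) K) :=
  nonempty_splitEnd_of_bijective p K hM (bijective_cE (snd p K) hL) e

theorem csa_end [IsProper p] [IsAlgClosed K] [IsIntegral (W4bk4gw11416.baseChange p K)] {M : X.Modules}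
    (hM : Coh.IsCoh M) {L : (W4bk4gw11416.baseChange p K).Modules} (hL : PicF.IsInvertible L) {r : ℕ} (hr : 0 < r)
    (e : bcMod p K M ≅ pow L r) :
    letI := endAlg p M
    Algebra.IsCentral k (End M) ∧ IsSimpleRing (End M) ∧ Module.Finite k (End M) ∧
      Module.finrank k (End M) = r ^ 2 :=
  csa_end_of_bijective p K hM (bijective_cE (snd p K) hL) hr e

theorem exists_div_end [IsProper p] [IsAlgClosed K] [IsIntegral (W4bk4gw11416.baseChange p K)] {M : X.Modules}
    (hM : Coh.IsCoh M) (hMi : Indec M) {L : (W4bk4gw11416.baseChange p K).Modules} (hL : PicF.IsInvertible L)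
    {r : ℕ} (hr : 0 < r) (e : bcMod p K M ≅ pow L r) :
    ∀ f : M ⟶ M, f ≠ 0 → IsIso f :=
  exists_div_end_of_bijective p K hM hMi (bijective_cE (snd p K) hL) hr e

end Groth.Agent.ASBunKS
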