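import Groth.Agent.ASBunKS.Isotyp
import Groth.Agent.VBLib.Scalar
import Groth.Agent.CurveLib.Inv
import Mathlib.RingTheory.TwoSidedIdeal.Operations
import Mathlib.RingTheory.SimpleRing.Defs

/-!
# Endomorphisms of isotypical modules
-/

set_option autoImplicit false
set_option backward.isDefEq.respectTransparency false
set_option linter.style.haveILetI false

universe u

open CategoryTheory CategoryTheory.Limits AlgebraicGeometry
open W4c1astiltbs12 Groth.Agent.VBLib

noncomputable section

namespace Groth.Agent.ASBunKS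

section Invertible

variable (k : Type u) [Field k] {Y : Scheme.{u}} (q : Y ⟶ Spec (CommRingCat.of k)) [IsProper q] [IsIntegral Y]
  {L : Y.Modules} (hL : PicF.IsInvertible L)

include hL in
theorem id_ne_zero_of_invertible : 𝟙 L ≠ 0 := by
  intro h
  obtain ⟨e, he⟩ := ParaFLib.exists_stalk_gen hL (genericPoint Y)
  have h0 := (PullbackMod.eq_zero_iff_stalk (𝟙 L)).1 h (genericPoint Y)
  rw [PullbackMod.stalkLin_id] at h0
  have he0 : e = 0 := LinearMap.congr_fun h0 e
  have := he.1 (a₁ := 1) (a₂ := 0) (by simp [he0])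
  exact one_ne_zero this

include hL in
theorem comp_ne_zero {f g : L ⟶ L} (hf : f ≠ 0) (hg : g ≠ 0) : f ≫ g ≠ 0 := by
  intro h
  have bf := CurveLib.bijective_stalkLin_generic hL hL hf
  have bg := CurveLib.bijective_stalkLin_generic hL hL hg
  have h0 := (PullbackMod.eq_zero_iff_stalk (f ≫ g)).1 h (genericPoint Y)
  rw [PullbackMod.stalkLin_comp] at h0
  obtain ⟨e, he⟩ := ParaFLib.exists_stalk_gen hL (genericPoint Y)
  have he0 : e = 0 := bf.1 (bg.1 (by simpa using LinearMap.congr_fun h0 e))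
  have := he.1 (a₁ := 1) (a₂ := 0) (by simp [he0])
  exact one_ne_zero this

include k q hL in
theorem isIso_of_ne_zero {f : L ⟶ L} (hf : f ≠ 0) : IsIso f := by
  letI : Y.Over (Spec (CommRingCat.of k)) := ⟨q⟩
  letI := linMod k (X := Y)
  haveI : IsLocallyNoetherian Y := LocallyOfFiniteType.isLocallyNoetherian q
  haveI : FiniteDimensional k (End L) := finite_end k q (CurveLib.isCoh_of_isInvertible hL)
  have hidem : ∀ e : End L, e * e = e → e = 0 ∨ e = 1 := fun e he => by
    by_contra hne
    push Not at hne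
    refine comp_ne_zero hL (f := (e : L ⟶ L)) (g := (e - 1 : End L)) hne.1 (sub_ne_zero.2 hne.2) ?_
    show (e - 1) * e = (0 : End L)
    rw [sub_mul, he, one_mul, sub_self]
  rcases isNilpotent_or_isUnit (k := k) hidem (f : End L) with ⟨n, hn⟩ | h
  · exfalso
    have : ∀ m : ℕ, (show End L from f) ^ m ≠ 0 := by
      intro m
      induction m with
      | zero => exact id_ne_zero_of_invertible hL
      | succ m ih => rw [pow_succ', End.mul_def]; exact comp_ne_zero hL ih hf
    exact this n hn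
  · exact (isUnit_iff_isIso _).1 h

end Invertible

section Pow

variable {Y : Scheme.{u}} (L : Y.Modules) {r : ℕ}

/-- A projection of a power. -/
def prj (b : Fin r) : pow L r ⟶ L := Sigma.desc fun i => if i = b then 𝟙 L else 0

theorem prj_total : ∑ b : Fin r, prj L b ≫ Sigma.ι (fun _ : Fin r => L) b = 𝟙 (pow L r) := by
  classical
  refine Sigma.hom_ext _ _ fun i => ?_
  rw [Preadditive.comp_sum, Category.comp_id, Finset.sum_eq_single i]
  · simp [prj]
  · intro b _ hb; simp [prj, Ne.symm hb]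
  · simp

theorem exists_sum_through (hL : ∀ f : L ⟶ L, f ≠ 0 → IsIso f) {g : pow L r ⟶ pow L r} (hg : g ≠ 0) :
    ∃ (u v : Fin r → (pow L r ⟶ pow L r)), 𝟙 (pow L r) = ∑ i, u i ≫ g ≫ v i := by
  classical
  obtain ⟨a, b, hab⟩ : ∃ a b, Sigma.ι (fun _ : Fin r => L) a ≫ g ≫ prj L b ≠ 0 := by
    by_contra hc
    push Not at hc
    refine hg ?_
    rw [← Category.comp_id g, ← prj_total L, Preadditive.comp_sum]
    refine Finset.sum_eq_zero fun b _ => Sigma.hom_ext _ _ fun a => ?_
    rw [comp_zero, reassoc_of% (hc a b), zero_comp]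
  haveI := hL _ hab
  refine ⟨fun i => prj L i ≫ inv (Sigma.ι (fun _ : Fin r => L) a ≫ g ≫ prj L b) ≫ Sigma.ι (fun _ : Fin r => L) a,
    fun i => prj L b ≫ Sigma.ι (fun _ : Fin r => L) i, ?_⟩
  rw [← prj_total L]
  refine Finset.sum_congr rfl fun i _ => ?_
  have h1 : inv (Sigma.ι (fun _ : Fin r => L) a ≫ g ≫ prj L b) ≫ Sigma.ι (fun _ : Fin r => L) a ≫ g ≫ prj L b = 𝟙 L :=
    IsIso.inv_hom_id _
  simp only [Category.assoc]
  rw [reassoc_of% h1]

end Pow

variable {k : Type u} [Field k] {X : Scheme.{u}} (p : X ⟶ Spec (CommRingCat.of k)) (K : Type u) [Field K]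
  [Algebra k K]

theorem isIntegral_bc [GeometricallyIntegral p] : IsIntegral (W4bk4gw11416.baseChange p K) :=
  GeometricallyIntegral.geometrically_isIntegral _ _ _ (.of_hasPullback _ _)

/-- A two-sided ideal of endomorphisms of an isotypical module is trivial. -/
theorem one_mem_of_isotypical [IsProper p] [GeometricallyIntegral p] {E : X.Modules} (hE : Coh.IsCoh E)
    {L : (W4bk4gw11416.baseChange p K).Modules} (hL : PicF.IsInvertible L) {r : ℕ} (e : bcMod p K E ≅ pow L r)
    {f : E ⟶ E} (hf : f ≠ 0) (I : TwoSidedIdeal (End E)) (hfI : (f : End E) ∈ I) : (1 : End E) ∈ I := by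
  haveI := isIntegral_bc p K
  haveI : Coh.IsQCoh E := hE.1
  let F := (Scheme.Modules.pullback (proj p K)).map f
  have hF : e.inv ≫ F ≫ e.hom ≠ 0 := fun h => hf (bc_faithful p K f (by
    have h2 := congrArg (fun t => e.hom ≫ t ≫ e.inv) h
    simpa [F] using h2))
  obtain ⟨u, v, huv⟩ := exists_sum_through L (fun g hg => isIso_of_ne_zero K (snd p K) hL hg) hF
  have h : 𝟙 (bcMod p K E) = ∑ i ∈ Finset.univ, (e.hom ≫ u i ≫ e.inv) ≫
      (Scheme.Modules.pullback (proj p K)).map f ≫ (e.hom ≫ v i ≫ e.inv) := by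
    calc 𝟙 (bcMod p K E) = e.hom ≫ (∑ i, u i ≫ (e.inv ≫ F ≫ e.hom) ≫ v i) ≫ e.inv := by
          rw [← huv, Category.id_comp, e.hom_inv_id]
      _ = _ := by simp only [Preadditive.sum_comp, Preadditive.comp_sum, Category.assoc, F]
  obtain ⟨κ, s, φ, ψ, hs⟩ := exists_sum_of_bc p K hE hE f Finset.univ _ _ h
  rw [show (1 : End E) = ∑ i ∈ Finset.univ, ∑ a ∈ s i, (show End E from ψ i a) * (show End E from f) * (show End E from φ i a) from
    hs.trans (Finset.sum_congr rfl fun i _ => Finset.sum_congr rfl fun a _ => rfl)]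
  exact sum_mem fun i _ => sum_mem fun a _ => I.mul_mem_right _ _ (I.mul_mem_left _ _ hfI)

theorem isSimpleRing_end [IsProper p] [GeometricallyIntegral p] {E : X.Modules} (hE : Coh.IsCoh E)
    (hE0 : ¬ IsZero E) {L : (W4bk4gw11416.baseChange p K).Modules} (hL : PicF.IsInvertible L) {r : ℕ}
    (e : bcMod p K E ≅ pow L r) : IsSimpleRing (End E) := by
  haveI : Nontrivial (End E) := ⟨⟨0, 1, fun h => hE0 ((IsZero.iff_id_eq_zero E).2 h.symm)⟩⟩
  refine IsSimpleRing.of_eq_bot_or_eq_top fun I => ?_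
  by_cases h : ∃ f : End E, f ∈ I ∧ f ≠ 0
  · obtain ⟨f, hfI, hf⟩ := h
    exact Or.inr ((TwoSidedIdeal.one_mem_iff I).1 (one_mem_of_isotypical p K hE hL e hf I hfI))
  · push Not at h
    exact Or.inl (eq_bot_iff.2 fun x hx => (TwoSidedIdeal.mem_bot _).2 (h x hx))

/-- An indecomposable isotypical module has a division ring of endomorphisms. -/
theorem isIso_of_isotypical [IsProper p] [GeometricallyIntegral p] {E : X.Modules} (hE : Coh.IsCoh E) (hEi : Indec E)
    {L : (W4bk4gw11416.baseChange p K).Modules} (hL : PicF.IsInvertible L) {r : ℕ} (e : bcMod p K E ≅ pow L r)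
    {f : E ⟶ E} (hf : f ≠ 0) : IsIso f := by
  by_contra hfu
  haveI := (ind_of_indec' k p hE hEi).2
  letI : X.Over (Spec (CommRingCat.of k)) := ⟨p⟩
  letI := linMod k (X := X)
  haveI : FiniteDimensional k (End E) := finite_end k p hE
  have hnl : ∀ (a x : End E), ¬ IsUnit x → ¬ IsUnit (a * x) ∧ ¬ IsUnit (x * a) := by
    have hid : ∀ e : End E, e * e = e → e = 0 ∨ e = 1 := fun e he => by
      rcases IsLocalRing.isUnit_or_isUnit_of_add_one (a := e) (b := 1 - e) (add_sub_cancel e 1) with h | h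
      · exact Or.inr (h.mul_left_cancel (he.trans (mul_one e).symm))
      · refine Or.inl ?_
        have h0 : (1 - e) * e = 0 := by rw [sub_mul, one_mul, he, sub_self]
        exact h.mul_left_cancel (h0.trans (mul_zero _).symm)
    intro a x hx
    obtain ⟨n, hn⟩ := (isNilpotent_or_isUnit (k := k) hid x).resolve_right hx
    have hnot : ∀ {y : End E}, y ^ n = 0 → (∀ z, z * y ≠ 1) ∧ (∀ z, y * z ≠ 1) := fun {y} hy => by
      refine ⟨fun z hz => one_ne_zero (α := End E) ?_, fun z hz => one_ne_zero (α := End E) ?_⟩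
      · have : ∀ m : ℕ, z ^ m * y ^ m = 1 := by
          intro m
          induction m with
          | zero => simp
          | succ m ih => rw [pow_succ, pow_succ', mul_assoc, ← mul_assoc z y, hz, one_mul, ih]
        rw [← this n, hy, mul_zero]
      · have : ∀ m : ℕ, y ^ m * z ^ m = 1 := by
          intro m
          induction m with
          | zero => simp
          | succ m ih => rw [pow_succ, pow_succ', mul_assoc, ← mul_assoc y z, hz, one_mul, ih]
        rw [← this n, hy, zero_mul]
    refine ⟨fun h => ?_, fun h => ?_⟩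
    · obtain ⟨w, hw⟩ := h.exists_left_inv
      exact (hnot hn).1 (w * a) (by rw [mul_assoc, hw])
    · obtain ⟨w, hw⟩ := h.exists_right_inv
      exact (hnot hn).2 (a * w) (by rw [← mul_assoc, hw])
  let I : TwoSidedIdeal (End E) := TwoSidedIdeal.mk' {x | ¬ IsUnit x} not_isUnit_zero
    (fun {x y} hx hy h => (IsLocalRing.isUnit_or_isUnit_of_isUnit_add h).elim hx hy)
    (fun {x} hx h => hx (IsUnit.neg_iff x |>.1 h))
    (fun {a x} hx => (hnl a x hx).1) (fun {x a} hx => (hnl a x hx).2)
  have h1 := one_mem_of_isotypical p K hE hL e hf I (show (show End E from f) ∈ I by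
    rw [TwoSidedIdeal.mem_mk']
    exact fun h => hfu ((isUnit_iff_isIso _).1 h))
  rw [TwoSidedIdeal.mem_mk'] at h1
  exact h1 isUnit_one

end Groth.Agent.ASBunKS
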