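import Groth.Agent.ASBunKS.Types
import Groth.Agent.ASBunKS.Simple

/-!
# Indecomposable summands over the ground field and over an extension
-/

set_option autoImplicit false
set_option backward.isDefEq.respectTransparency false
set_option linter.style.haveILetI false

universe u

open CategoryTheory CategoryTheory.Limits AlgebraicGeometry
open W4c1astiltbs12 Groth.Agent.VBLib

noncomputable section

namespace Groth.Agent.ASBunKS

/-- An invertible module on a proper integral scheme over a field is indecomposable. -/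
theorem indec_of_invertible (k : Type u) [Field k] {Y : Scheme.{u}} (q : Y ⟶ Spec (CommRingCat.of k)) [IsProper q]
    [IsIntegral Y] {L : Y.Modules} (hL : PicF.IsInvertible L) : Indec L := by
  refine ⟨fun h => id_ne_zero_of_invertible hL ((IsZero.iff_id_eq_zero L).1 h), fun A B ⟨e⟩ => ?_⟩
  by_cases hu : e.hom ≫ biprod.fst ≫ biprod.inl ≫ e.inv = 0
  · refine Or.inl ((IsZero.iff_id_eq_zero A).2 ?_)
    have h1 := congrArg (fun t => biprod.inl ≫ e.inv ≫ t ≫ e.hom ≫ biprod.fst) hu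
    simpa using h1
  · haveI := isIso_of_ne_zero k q hL hu
    refine Or.inr ((IsZero.iff_id_eq_zero B).2 ?_)
    have hidem : (e.hom ≫ biprod.fst ≫ biprod.inl ≫ e.inv) ≫ (e.hom ≫ biprod.fst ≫ biprod.inl ≫ e.inv) =
        (e.hom ≫ biprod.fst ≫ biprod.inl ≫ e.inv) ≫ 𝟙 L := by simp
    rw [cancel_epi] at hidem
    have h1 := congrArg (fun t => biprod.inr ≫ e.inv ≫ t ≫ e.hom ≫ biprod.snd) hidem
    simpa using h1.symm

variable {k : Type u} [Field k] {X : Scheme.{u}} (p : X ⟶ Spec (CommRingCat.of k)) [IsProper p]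
  (K : Type u) [Field K] [Algebra k K]

/-- An indecomposable whose type occurs in the base change of another indecomposable is isomorphic to it. -/
theorem nonempty_iso_of_bc_retract {W E : X.Modules} (hW : Coh.IsCoh W) (hE : Coh.IsCoh E) (hWi : Indec W)
    (hEi : Indec E) {L : (W4bk4gw11416.baseChange p K).Modules} {r : ℕ} (eW : bcMod p K W ≅ pow L r)
    (a : L ⟶ bcMod p K E) (b : bcMod p K E ⟶ L) (hab : a ≫ b = 𝟙 L) : Nonempty (W ≅ E) := by
  haveI : IsLocallyNoetherian X := LocallyOfFiniteType.isLocallyNoetherian p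
  let P := Scheme.Modules.pullback (proj p K)
  let u : bcMod p K W ⟶ bcMod p K (pow E r) :=
    eW.hom ≫ Limits.Sigma.map (fun _ => a) ≫ (bcPow p K E r).inv
  let v : bcMod p K (pow E r) ⟶ bcMod p K W :=
    (bcPow p K E r).hom ≫ Limits.Sigma.map (fun _ => b) ≫ eW.inv
  have hm : Limits.Sigma.map (fun _ : Fin r => a) ≫ Limits.Sigma.map (fun _ : Fin r => b) = 𝟙 (pow L r) := by
    refine Sigma.hom_ext _ _ fun i => ?_
    simp [reassoc_of% hab]
  have h : 𝟙 (bcMod p K W) = ∑ i ∈ (Finset.univ : Finset Unit), u ≫ P.map (𝟙 (pow E r)) ≫ v := by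
    simp [u, v, P, reassoc_of% hm]
  obtain ⟨κ, s, φ, ψ, hs⟩ := exists_sum_of_bc p K hW (isCoh_pow hE r) (𝟙 (pow E r)) Finset.univ _ _ h
  simp only [Finset.univ_unique, Finset.sum_singleton, Category.id_comp] at hs
  obtain ⟨i, j, hij⟩ := retract_of_sum (ind_of_indec' k p hW hWi) (𝟙 W) (𝟙 W) (Category.comp_id _) _ _ _ hs
  obtain ⟨m, σ, ⟨g⟩⟩ := exists_retract_sum p (Ls := fun _ : Fin r => E) (fun _ => ⟨hE, hEi⟩) i j hij
  obtain ⟨τ, hτ⟩ := indec_unique k p hW (fun _ : Fin 1 => hWi) (fun _ : Fin m => hEi)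
    { hom := Sigma.ι (fun _ : Fin 1 => W) 0
      inv := Sigma.desc fun _ => 𝟙 W
      hom_inv_id := by simp
      inv_hom_id := Sigma.hom_ext _ _ fun i => by obtain rfl := Subsingleton.elim i 0; simp } g
  exact hτ 0

/-- An indecomposable with a sum of indecomposables as base change, one of which is a type. -/
theorem type_of_split {E : X.Modules} (hE : Coh.IsCoh E) (hEi : Indec E) {s : ℕ}
    {Ls : Fin s → (W4bk4gw11416.baseChange p K).Modules}
    (e : bcMod p K E ≅ ∐ Ls)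
    (hW : ∀ i, ∃ (W : X.Modules) (r : ℕ), Coh.IsCoh W ∧ Indec W ∧ Nonempty (bcMod p K W ≅ pow (Ls i) r)) :
    ∃ (i : Fin s) (r : ℕ), 0 < r ∧ Nonempty (bcMod p K E ≅ pow (Ls i) r) := by
  classical
  rcases Nat.eq_zero_or_pos s with rfl | hs
  · refine absurd ?_ hEi.1
    obtain ⟨f⟩ := nonempty_iso_of_iso_bc p K hE (haveI : IsLocallyNoetherian X := LocallyOfFiniteType.isLocallyNoetherian p; isCoh_pow hE 0)
      (e ≪≫ ((IsZero.iff_id_eq_zero _).2 (Sigma.hom_ext _ _ fun i => i.elim0)).iso (isZero_pow_zero (bcMod p K E)) ≪≫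
        (bcPow p K E 0).symm)
    exact (isZero_pow_zero E).of_iso f
  obtain ⟨W, r, hWc, hWi, ⟨eW⟩⟩ := hW ⟨0, hs⟩
  obtain ⟨f⟩ := nonempty_iso_of_bc_retract p K hWc hE hWi hEi eW (Sigma.ι Ls ⟨0, hs⟩ ≫ e.inv)
    (e.hom ≫ Sigma.desc fun i => if h : i = ⟨0, hs⟩ then eqToHom (congrArg Ls h) else 0) (by simp)
  let eE := ((Scheme.Modules.pullback (proj p K)).mapIso f).symm ≪≫ eW
  exact ⟨⟨0, hs⟩, r, pos_of_indec p K hE hEi eE, ⟨eE⟩⟩

theorem exists_type_decomposition {E : X.Modules} (hE : FlatMod.IsFinLocFree E) {s : ℕ}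
    {Ls : Fin s → (W4bk4gw11416.baseChange p K).Modules} (hLs : ∀ i, Coh.IsCoh (Ls i) ∧ Indec (Ls i))
    (e : bcMod p K E ≅ ∐ Ls)
    (hW : ∀ i, ∃ (W : X.Modules) (r : ℕ), Coh.IsCoh W ∧ Indec W ∧ Nonempty (bcMod p K W ≅ pow (Ls i) r)) :
    ∃ (t : ℕ) (Ms : Fin t → X.Modules) (is : Fin t → Fin s) (rs : Fin t → ℕ),
      (∀ a, FlatMod.IsFinLocFree (Ms a) ∧ Indec (Ms a) ∧ 0 < rs a ∧
        Nonempty (bcMod p K (Ms a) ≅ pow (Ls (is a)) (rs a))) ∧ Nonempty (E ≅ ∐ Ms) := by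
  classical
  haveI : IsLocallyNoetherian X := LocallyOfFiniteType.isLocallyNoetherian p
  obtain ⟨t, Ms, hMs, ⟨f⟩⟩ := exists_indec_coprod k p (DCohLib.isCoh_of_isFinLocFree hE)
  let v : ∀ a, E ⟶ Ms a := fun a => f.hom ≫ Sigma.desc fun i => if h : i = a then eqToHom (congrArg Ms h) else 0
  have huv : ∀ a, (Sigma.ι Ms a ≫ f.inv) ≫ v a = 𝟙 (Ms a) := fun a => by simp [v]
  have hflf : ∀ a, FlatMod.IsFinLocFree (Ms a) := fun a => DCohLib.isFinLocFree_of_retract _ _ (huv a) hE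
  have key : ∀ a, ∃ (i : Fin s) (r : ℕ), 0 < r ∧ Nonempty (bcMod p K (Ms a) ≅ pow (Ls i) r) := fun a => by
    let P := Scheme.Modules.pullback (proj p K)
    obtain ⟨m, σ, ⟨g⟩⟩ := exists_retract_sum (snd p K) hLs (P.map (Sigma.ι Ms a ≫ f.inv) ≫ e.hom)
      (e.inv ≫ P.map (v a)) (by
        rw [Category.assoc, e.hom_inv_id_assoc, ← P.map_comp, huv, CategoryTheory.Functor.map_id])
    obtain ⟨i, r, hr, ⟨g'⟩⟩ := type_of_split p K (DCohLib.isCoh_of_isFinLocFree (hflf a)) (hMs a)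
      (Ls := fun j => Ls (σ j)) g fun j => hW (σ j)
    exact ⟨σ i, r, hr, ⟨g'⟩⟩
  choose is rs hr hiso using key
  exact ⟨t, Ms, is, rs, fun a => ⟨hflf a, hMs a, hr a, hiso a⟩, ⟨f⟩⟩

end Groth.Agent.ASBunKS
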