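import Groth.Agent.PicProjLib.Pic
import Groth.Agent.GenSeesawLib.TwistBC
import Groth.Agent.ProjTwist.Vanish
import Groth.Agent.CurveLib.SmulPow

/-!
# Inverse images of twists along cartesian maps of projective spaces
-/

set_option autoImplicit false
set_option backward.isDefEq.respectTransparency false
set_option linter.style.haveILetI false

universe u

open CategoryTheory CategoryTheory.Limits AlgebraicGeometry TopologicalSpace
open Groth.Agent.PicLib Groth.Agent.PicProjLib

noncomputable section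

namespace Groth.Agent.ASBunKS

variable {n : ℕ}

theorem cls_twist_eq_zpow (R : Type u) [CommRing R] [IsDomain R] [UniqueFactorizationMonoid R] (j : ℤ) :
    cls (isInvertible_twist (n := n) (R := R) j) = cls (isInvertible_twist (n := n) (R := R) 1) ^ j := by
  induction j using Int.induction_on with
  | zero => rw [zpow_zero, cls_twist_zero]
  | succ i ih => rw [zpow_add, zpow_one, ← ih, cls_twist_mul]
  | pred i ih =>
    rw [zpow_sub, zpow_one, ← ih, eq_mul_inv_iff_mul_eq, cls_twist_mul]
    simp

theorem twist_injective (hn : n ≠ 0) (R : Type u) [CommRing R] [IsDomain R] [UniqueFactorizationMonoid R] {d d' : ℤ}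
    (e : Twist.twistProjSpace n R d ≅ Twist.twistProjSpace n R d') : d = d' := by
  obtain ⟨φ⟩ := (cls_eq_one (AmpleLib.isInvertible_tensor (isInvertible_twist (n := n) (R := R) d')
    (isInvertible_twist (-d')))).1 ((cls_twist_mul d' (-d')).trans (by simp only [add_neg_cancel]; exact cls_twist_zero))
  have := eq_zero_of_hasDeg_structureModule hn
    ((((hasDeg_twist hn d).of_iso e).tensor (hasDeg_twist hn (-d'))).of_iso φ)
  omega

theorem eq_zero_of_neg (hn : n ≠ 0) (R : Type u) [CommRing R] {d : ℤ} (hd : d < 0)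
    (s : Coh.structureModule (CohB1.ProjSpace n R) ⟶ Twist.twistProjSpace n R d) : s = 0 := by
  haveI : Subsingleton (Coh.HH (CohB1.ProjSpace n R) (Twist.twistProjSpace n R d) 0) :=
    ProjTwist.subsingleton_HH n R d 0 (by omega) (by omega)
  haveI : Subsingleton Γ(Twist.twistProjSpace n R d, ⊤) := (CurveLib.secOf _).symm.injective.subsingleton
  refine Scheme.Modules.hom_ext _ _ fun O => AddCommGrpCat.hom_ext (AddMonoidHom.ext fun r => ?_)
  rw [AmpleLib.app_eq s O r, Subsingleton.elim (AmpleLib.sec s) 0, AmpleLib.resT, map_zero, smul_zero]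
  rfl

theorem coordSec_ne_zero (R : Type u) [CommRing R] [IsDomain R] [UniqueFactorizationMonoid R] (i : Fin (n + 1)) :
    AmpleEmb.coordSec n R i ≠ 0 := by
  intro h
  haveI : Nonempty (AmpleEmb.stdOpen n R i) := ⟨⟨gen n R, gen_mem n R⟩⟩
  have hg := (AmpleEmb.gen_coordSec n R i (AmpleEmb.stdOpen n R i) le_rfl).1 (a₁ := 1) (a₂ := 0) (by
    simp [h, AmpleLib.sec])
  exact one_ne_zero hg

theorem mapIso_twist_eq {K : Type u} [Field K] (hn : n ≠ 0) (α : CohB1.ProjSpace n K ⟶ CohB1.ProjSpace n K) [IsIso α] :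
    pull α (cls (isInvertible_twist (n := n) (R := K) 1)) = cls (isInvertible_twist 1) := by
  obtain ⟨d, ⟨φ⟩⟩ := exists_iso_twist (AmpleLib.isInvertible_pullback α (isInvertible_twist (n := n) (R := K) 1))
  obtain ⟨d', ⟨φ'⟩⟩ := exists_iso_twist (AmpleLib.isInvertible_pullback (inv α) (isInvertible_twist (n := n) (R := K) 1))
  have h1 : pull α (cls (isInvertible_twist (n := n) (R := K) 1)) = cls (isInvertible_twist d) :=
    (cls_eq_cls _ _).2 ⟨φ⟩
  have h2 : pull (inv α) (cls (isInvertible_twist (n := n) (R := K) 1)) = cls (isInvertible_twist d') :=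
    (cls_eq_cls _ _).2 ⟨φ'⟩
  have h3 := pull_comp α (inv α) (cls (isInvertible_twist (n := n) (R := K) 1))
  rw [IsIso.hom_inv_id, pull_id, h2, cls_twist_eq_zpow K d', map_zpow, h1, cls_twist_eq_zpow K d, ← zpow_mul,
    ← cls_twist_eq_zpow] at h3
  obtain ⟨ψ⟩ := (cls_eq_cls _ _).1 h3
  have hdd : d * d' = 1 := (twist_injective hn K ψ).symm
  rcases Int.eq_one_or_neg_one_of_mul_eq_one hdd with rfl | rfl
  · exact h1
  · exfalso
    let P := Scheme.Modules.pullback α
    haveI : IsIso α := inferInstance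
    have hz : P.map (AmpleEmb.coordSec n K 0) = 0 := by
      have := eq_zero_of_neg hn K (by norm_num : (-1 : ℤ) < 0)
        ((AmpleLib.pullO α).inv ≫ P.map (AmpleEmb.coordSec n K 0) ≫ φ.hom)
      rw [← cancel_epi (AmpleLib.pullO α).inv, ← cancel_mono φ.hom]
      simpa using this
    let ν := Scheme.Modules.pullbackComp (inv α) α ≪≫ Scheme.Modules.pullbackCongr (IsIso.inv_hom_id α) ≪≫
      Scheme.Modules.pullbackId (CohB1.ProjSpace n K)
    refine coordSec_ne_zero (n := n) K 0 ?_
    have h4 := ν.hom.naturality (AmpleEmb.coordSec n K 0)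
    rw [Functor.comp_map, hz, Functor.map_zero, zero_comp] at h4
    rw [← cancel_epi (ν.hom.app _), comp_zero]
    exact h4.symm

theorem nonempty_pullback_twist {E K : Type u} [Field E] [Field K] [Algebra E K] (hn : n ≠ 0)
    (φ : CohB1.ProjSpace n K ⟶ CohB1.ProjSpace n E)
    (hφ : IsPullback φ (CohB1.ProjSpace.toSpec n K) (CohB1.ProjSpace.toSpec n E)
      (Spec.map (CommRingCat.ofHom (algebraMap E K)))) (j : ℤ) :
    Nonempty ((Scheme.Modules.pullback φ).obj (Twist.twistProjSpace n E j) ≅ Twist.twistProjSpace n K j) := by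
  have hbc := GenSeesawLib.isPullback_bcMap n E K
  let α := hφ.isoIsPullback _ _ hbc
  have hα : α.hom ≫ GenSeesawLib.bcMap n E K = φ := hφ.isoIsPullback_hom_fst _ _ hbc
  have hb : pull (GenSeesawLib.bcMap n E K) (cls (isInvertible_twist (n := n) (R := E) 1)) =
      cls (isInvertible_twist 1) :=
    (cls_eq_cls _ _).2 ((GenSeesawLib.nonempty_iso_pullback_twistOne n E K).map Iso.symm)
  have h : pull φ (cls (isInvertible_twist (n := n) (R := E) j)) = cls (isInvertible_twist j) := by
    rw [cls_twist_eq_zpow E j, map_zpow, ← hα, pull_comp, hb, mapIso_twist_eq hn α.hom, ← cls_twist_eq_zpow]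
  exact (cls_eq_cls _ _).1 h

end Groth.Agent.ASBunKS
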