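import Groth.Agent.ASBunKS.GalPush
import Groth.Agent.ASBunKS.TwistPull
import Groth.Agent.ASBunKS.Split
import Groth.Prelude.Def_BrSev

/-!
# Indecomposables of twisting type
-/

set_option autoImplicit false
set_option backward.isDefEq.respectTransparency false
set_option linter.style.haveILetI false

universe u

open CategoryTheory CategoryTheory.Limits AlgebraicGeometry
open Groth.Agent.PicLib Groth.Agent.PicProjLib

noncomputable section

namespace Groth.Agent.ASBunKS

theorem nonempty_iso_twist_zero {R : Type u} [CommRing R] [IsDomain R] [UniqueFactorizationMonoid R]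
    {L : (CohB1.ProjSpace 0 R).Modules} (hL : PicF.IsInvertible L) :
    Nonempty (L ≅ Coh.structureModule (CohB1.ProjSpace 0 R)) := by
  obtain ⟨d, γ₀, h1, h2⟩ := exists_deg hL
  refine triv_of_hasDeg_zero ⟨γ₀, h1, fun i => ?_⟩
  obtain rfl : i = 0 := Subsingleton.elim (α := Fin 1) i 0
  obtain ⟨r, hr⟩ := h2 0
  exact ⟨r, by simpa [t_self] using hr⟩

variable {k : Type u} [Field k] {X : Scheme.{u}} (f : X ⟶ Spec (CommRingCat.of k)) {n : ℕ}
  {K : Type u} [Field K] [Algebra k K] (e : BrSev.Splitting f K n)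

theorem isInvertible_twistK (j : ℤ) : PicF.IsInvertible (e.twist j) :=
  AmpleLib.isInvertible_pullback _ (isInvertible_twist j)

include e in
theorem isIntegral_bcK : IsIntegral (BrSev.bc f K) := by
  haveI : IsIntegral (CohB1.ProjSpace n K) := inferInstance
  haveI : Nonempty (BrSev.bc f K) := ⟨e.iso.inv (gen n K)⟩
  exact isIntegral_of_isOpenImmersion e.iso.hom

theorem nonempty_conjugate {E : Type u} [Field E] [Algebra k E] (eE : BrSev.Splitting f E n) (τ : E →ₐ[k] K)
    (j : ℤ) :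
    Nonempty ((Scheme.Modules.pullback (embMap f E K τ)).obj (eE.twist j) ≅ e.twist j) := by
  rcases eq_or_ne n 0 with rfl | hn
  · let L := (Scheme.Modules.pullback e.iso.inv).obj ((Scheme.Modules.pullback (embMap f E K τ)).obj (eE.twist j))
    obtain ⟨a⟩ := nonempty_iso_twist_zero (L := L) (AmpleLib.isInvertible_pullback _
      (AmpleLib.isInvertible_pullback _ (isInvertible_twistK f eE j)))
    obtain ⟨b⟩ := nonempty_iso_twist_zero (isInvertible_twist (n := 0) (R := K) j)
    exact ⟨(Scheme.Modules.pullbackId _).symm.app _ ≪≫ (Scheme.Modules.pullbackCongr e.iso.hom_inv_id.symm).app _ ≪≫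
      ((Scheme.Modules.pullbackComp e.iso.hom e.iso.inv).app _).symm ≪≫
      (Scheme.Modules.pullback e.iso.hom).mapIso (a ≪≫ b.symm)⟩
  letI := τ.toRingHom.toAlgebra
  let φ := e.iso.inv ≫ embMap f E K τ ≫ eE.iso.hom
  have hφ : IsPullback φ (CohB1.ProjSpace.toSpec n K) (CohB1.ProjSpace.toSpec n E)
      (Spec.map (CommRingCat.ofHom (algebraMap E K))) :=
    (isPullback_embMap f E K τ).of_iso e.iso eE.iso (Iso.refl _) (Iso.refl _) (by simp [φ])
      (by rw [Iso.refl_hom, Category.comp_id]; exact e.comm.symm)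
      (by rw [Iso.refl_hom, Category.comp_id]; exact eE.comm.symm)
      (by simp only [Iso.refl_hom, Category.comp_id, Category.id_comp]; rfl)
  obtain ⟨a⟩ := nonempty_pullback_twist hn φ hφ j
  have hcomp : embMap f E K τ ≫ eE.iso.hom = e.iso.hom ≫ φ := (e.iso.hom_inv_id_assoc _).symm
  exact ⟨(Scheme.Modules.pullbackComp (embMap f E K τ) eE.iso.hom).app _ ≪≫
    (Scheme.Modules.pullbackCongr hcomp).app _ ≪≫ ((Scheme.Modules.pullbackComp e.iso.hom φ).app _).symm ≪≫
    (Scheme.Modules.pullback e.iso.hom).mapIso a⟩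

variable [IsProper f]

include e in
theorem indec_twistK (j : ℤ) : Coh.IsCoh (e.twist j) ∧ Indec (e.twist j) := by
  haveI := isIntegral_bcK f e
  haveI : IsProper (BrSev.bcTo f K) := isProper_snd f K
  haveI : IsLocallyNoetherian (BrSev.bc f K) := LocallyOfFiniteType.isLocallyNoetherian (BrSev.bcTo f K)
  exact ⟨CurveLib.isCoh_of_isInvertible (isInvertible_twistK f e j),
    indec_of_invertible K (BrSev.bcTo f K) (isInvertible_twistK f e j)⟩

/-- With a separable splitting field every twist is the type of an indecomposable. -/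
theorem exists_type_of_separable [IsSepClosed K] {E : Type u} [Field E] [Algebra k E] [FiniteDimensional k E]
    [Algebra.IsSeparable k E] (eE : BrSev.Splitting f E n) (j : ℤ) :
    ∃ (W : X.Modules) (r : ℕ), FlatMod.IsFinLocFree W ∧ Indec W ∧ 0 < r ∧ BrSev.IsTwPow e j r W := by
  classical
  haveI : IsLocallyNoetherian X := LocallyOfFiniteType.isLocallyNoetherian f
  obtain ⟨m, τ, hm, hev⟩ := bijective_evS_of_isSepClosed (k := k) (E := E) (K := K)
  have hW0 : FlatMod.IsFinLocFree (eE.twist j) :=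
    CurveLib.isFinLocFree_of_isInvertible (isInvertible_twistK f eE j)
  haveI : Coh.IsQCoh (eE.twist j) := (PullbackMod.isQCoh_and_isFP_of_isFinLocFree _ hW0).1
  obtain ⟨hM, ⟨φ⟩⟩ := exists_iso_conjugates f E K (eE.twist j) τ hev hW0
  let M0 := pushE f E (eE.twist j)
  let Φ : W4c1astiltbs12.bcMod f K M0 ≅ W4c1astiltbs12.pow (e.twist j) m :=
    φ ≪≫ Sigma.mapIso fun i => (nonempty_conjugate f e eE (τ i) j).some
  obtain ⟨hLc, hLi⟩ := indec_twistK f e j
  obtain ⟨t, Ms, hMs, ⟨g⟩⟩ := exists_indec_coprod k f (DCohLib.isCoh_of_isFinLocFree hM)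
  rcases Nat.eq_zero_or_pos t with rfl | ht
  · exfalso
    have hz : IsZero (W4c1astiltbs12.bcMod f K M0) :=
      (Scheme.Modules.pullback (W4c1astiltbs12.proj f K)).map_isZero
        (((IsZero.iff_id_eq_zero _).2 (Sigma.hom_ext _ _ fun i => i.elim0)).of_iso g)
    have hs := (hz.of_iso Φ.symm).eq_of_tgt (Sigma.ι (fun _ : Fin m => e.twist j) ⟨0, hm⟩) 0
    refine hLi.1 ((IsZero.iff_id_eq_zero _).2 ?_)
    have h1 := congrArg (· ≫ Sigma.desc fun _ : Fin m => 𝟙 (e.twist j)) hs
    simpa using h1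
  let u := Sigma.ι Ms ⟨0, ht⟩ ≫ g.inv
  let v := g.hom ≫ Sigma.desc fun i => if h : i = ⟨0, ht⟩ then eqToHom (congrArg Ms h) else 0
  have huv : u ≫ v = 𝟙 _ := by simp [u, v]
  let P := Scheme.Modules.pullback (W4c1astiltbs12.proj f K)
  obtain ⟨r, ⟨a⟩⟩ := exists_pow_of_retract (snd f K) hLc hLi (P.map u ≫ Φ.hom) (Φ.inv ≫ P.map v) (by
    rw [Category.assoc, Φ.hom_inv_id_assoc, ← P.map_comp, huv, CategoryTheory.Functor.map_id])
  have hflf := DCohLib.isFinLocFree_of_retract u v huv hM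
  exact ⟨Ms ⟨0, ht⟩, r, hflf, hMs _, pos_of_indec f K (DCohLib.isCoh_of_isFinLocFree hflf) (hMs _) a, ⟨a⟩⟩

include e in
theorem exists_twist_iso {L : (BrSev.bc f K).Modules} (hL : PicF.IsInvertible L) :
    ∃ j : ℤ, Nonempty (L ≅ e.twist j) := by
  obtain ⟨d, ⟨a⟩⟩ := exists_iso_twist (AmpleLib.isInvertible_pullback e.iso.inv hL)
  exact ⟨d, ⟨(Scheme.Modules.pullbackId _).symm.app _ ≪≫ (Scheme.Modules.pullbackCongr e.iso.hom_inv_id.symm).app _ ≪≫
      ((Scheme.Modules.pullbackComp e.iso.hom e.iso.inv).app _).symm ≪≫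
      (Scheme.Modules.pullback e.iso.hom).mapIso a⟩⟩

end Groth.Agent.ASBunKS
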