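import Groth.Agent.ASBunKS.SBType
import Groth.Agent.AmpleLib.Pullback
import Groth.Agent.ProjTwistLib.Mul

/-!
# Tensor products of isotypical modules
-/

set_option autoImplicit false
set_option backward.isDefEq.respectTransparency false
set_option linter.style.haveILetI false

universe u

open CategoryTheory CategoryTheory.Limits AlgebraicGeometry

noncomputable section

namespace Groth.Agent.ASBunKS

variable {Y : Scheme.{u}}

/-- An additive functor commutes with powers. -/
def mapPow {Z : Scheme.{u}} (F : Y.Modules ⥤ Z.Modules) [F.Additive] (M : Y.Modules) (r : ℕ) :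
    F.obj (W4c1astiltbs12.pow M r) ≅ W4c1astiltbs12.pow (F.obj M) r where
  hom := ∑ i : Fin r, F.map (prj M i) ≫ Sigma.ι (fun _ : Fin r => F.obj M) i
  inv := Sigma.desc fun i => F.map (Sigma.ι (fun _ : Fin r => M) i)
  hom_inv_id := by
    rw [Preadditive.sum_comp]
    simp only [Category.assoc, Sigma.ι_desc, ← F.map_comp]
    rw [← F.map_sum, prj_total, F.map_id]
  inv_hom_id := by
    refine Sigma.hom_ext _ _ fun i => ?_
    rw [Sigma.ι_desc_assoc, Category.comp_id, Preadditive.comp_sum, Finset.sum_eq_single i]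
    · rw [← Category.assoc, ← F.map_comp]
      simp [prj]
    · intro b _ hb
      rw [← Category.assoc, ← F.map_comp]
      simp [prj, Ne.symm hb]
    · simp

/-- A power of a power. -/
def powPow (M : Y.Modules) (r s : ℕ) :
    W4c1astiltbs12.pow (W4c1astiltbs12.pow M r) s ≅ W4c1astiltbs12.pow M (r * s) where
  hom := Sigma.desc fun b => Sigma.desc fun a =>
    Sigma.ι (fun _ : Fin (r * s) => M) (finProdFinEquiv (a, b))
  inv := Sigma.desc fun c => Sigma.ι (fun _ : Fin r => M) (finProdFinEquiv.symm c).1 ≫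
    Sigma.ι (fun _ : Fin s => W4c1astiltbs12.pow M r) (finProdFinEquiv.symm c).2
  hom_inv_id := by
    refine Sigma.hom_ext _ _ fun b => Sigma.hom_ext _ _ fun a => ?_
    simp only [Sigma.ι_desc_assoc, Category.comp_id, Category.assoc]
    rw [Sigma.ι_desc, Equiv.symm_apply_apply]
  inv_hom_id := by
    refine Sigma.hom_ext _ _ fun c => ?_
    simp only [Sigma.ι_desc_assoc, Category.comp_id, Category.assoc]
    rw [Sigma.ι_desc, Sigma.ι_desc, Prod.mk.eta, Equiv.apply_symm_apply]

variable (L : Y.Modules)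

theorem nonempty_tensor_pow (M : Y.Modules) (r s : ℕ) :
    Nonempty (CohB1.tensorMod (W4c1astiltbs12.pow L r) (W4c1astiltbs12.pow M s) ≅
      W4c1astiltbs12.pow (CohB1.tensorMod L M) (r * s)) := by
  haveI : ∀ N : Y.Modules, ((DCoh.tensorBi (X := Y)).flip.obj N).Additive := fun N =>
    ModTensor.additive_tensorBi_flip Y.sheaf N
  haveI : ∀ N : Y.Modules, ((DCoh.tensorBi (X := Y)).obj N).Additive := fun N =>
    ModTensor.additive_tensorBi_obj Y.sheaf N
  exact ⟨mapPow ((DCoh.tensorBi (X := Y)).obj (W4c1astiltbs12.pow L r)) M s ≪≫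
    powIso (mapPow ((DCoh.tensorBi (X := Y)).flip.obj M) L r) s ≪≫ powPow _ r s⟩

variable {k : Type u} [Field k] {X : Scheme.{u}} (f : X ⟶ Spec (CommRingCat.of k)) {n : ℕ}
  {K : Type u} [Field K] [Algebra k K] (e : BrSev.Splitting f K n)

theorem nonempty_twist_tensor (j l : ℤ) : Nonempty (CohB1.tensorMod (e.twist j) (e.twist l) ≅ e.twist (j + l)) :=
  ⟨(AmpleLib.pullTensor e.iso.hom _ _).symm ≪≫ (Scheme.Modules.pullback e.iso.hom).mapIso
    (ProjTwistLib.mulIso (𝒜 := CohB1.polyGrading n K) (m := j) (n := l) rfl (PicProjLib.hasUnit j))⟩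

theorem isTwPow_tensor {j l : ℤ} {r s : ℕ} {W W' : X.Modules} (hW : BrSev.IsTwPow e j r W)
    (hW' : BrSev.IsTwPow e l s W') : BrSev.IsTwPow e (j + l) (r * s) (CohB1.tensorMod W W') := by
  obtain ⟨a⟩ := hW
  obtain ⟨b⟩ := hW'
  obtain ⟨c⟩ := nonempty_tensor_pow (e.twist j) (e.twist l) r s
  obtain ⟨d⟩ := nonempty_twist_tensor f e j l
  exact ⟨AmpleLib.pullTensor (BrSev.proj f K) W W' ≪≫ AmpleLib.tIso a b ≪≫ c ≪≫ powIso d (r * s)⟩

end Groth.Agent.ASBunKS
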