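import Groth.Agent.ASBunKS.IsoEnd
import Groth.Agent.ASBunKS.TensorPowSum
import Groth.Agent.DCohLib.StalkTensor
import Groth.Agent.BrauerClassLib.Index

/-!
# Endomorphisms of tensor products and of powers
-/

set_option autoImplicit false
set_option backward.isDefEq.respectTransparency false
set_option linter.style.haveILetI false
set_option linter.unusedSectionVars false

universe u

open CategoryTheory CategoryTheory.Limits AlgebraicGeometry
open W4c1astiltbs12
open Groth.Agent.PullbackMod Groth.Agent.DCohLib
open scoped TensorProduct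

noncomputable section

namespace Groth.Agent.ASBunKS

variable {k : Type u} [Field k] {X : Scheme.{u}} (p : X ⟶ Spec (CommRingCat.of k))

theorem stalkLin_cE (M : X.Modules) (c : k) (x : X) (z : M.presheaf.stalk x) :
    stalkLin (cE p M c : M ⟶ M) x z = (X.presheaf.germ ⊤ x trivial).hom (Coh.toGlobal (A := k) p c) • z := by
  obtain ⟨U, hxU, m, rfl⟩ := TopCat.Presheaf.exists_germ_eq M.presheaf z
  rw [stalkLin_germ, cE, FactorOne.mulEnd_app, HomLib.germ_smul', TopCat.Presheaf.germ_res_apply]

variable (W W' : X.Modules)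

/-- An endomorphism of the first factor. -/
def leftEnd (g : End W) : End (CohB1.tensorMod W W') := ((DCoh.tensorBi (X := X)).map g).app W'

/-- An endomorphism of the second factor. -/
def rightEnd (g : End W') : End (CohB1.tensorMod W W') := ((DCoh.tensorBi (X := X)).obj W).map g

theorem leftEnd_cE (c : k) : leftEnd W W' (cE p W c) = cE p (CohB1.tensorMod W W') c := by
  refine hom_ext_stalk fun x => LinearMap.ext fun z => ?_
  obtain ⟨t, rfl⟩ := (stalkTensor x W W').surjective z
  refine (stalkTensor_natural_left x (cE p W c : W ⟶ W) t).trans ?_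
  refine Eq.trans ?_ (stalkLin_cE p (CohB1.tensorMod W W') c x _).symm
  refine (congrArg (stalkTensor x W W') ?_).trans ((stalkTensor x W W').map_smul _ _)
  induction t using TensorProduct.induction_on with
  | zero => simp
  | tmul a b => rw [LinearMap.rTensor_tmul, stalkLin_cE, TensorProduct.smul_tmul']
  | add a b ha hb => rw [map_add, ha, hb, smul_add]

theorem rightEnd_cE (c : k) : rightEnd W W' (cE p W' c) = cE p (CohB1.tensorMod W W') c := by
  refine hom_ext_stalk fun x => LinearMap.ext fun z => ?_
  obtain ⟨t, rfl⟩ := (stalkTensor x W W').surjective z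
  refine (stalkTensor_natural_right x (cE p W' c : W' ⟶ W') t).trans ?_
  refine Eq.trans ?_ (stalkLin_cE p (CohB1.tensorMod W W') c x _).symm
  refine (congrArg (stalkTensor x W W') ?_).trans ((stalkTensor x W W').map_smul _ _)
  induction t using TensorProduct.induction_on with
  | zero => simp
  | tmul a b => rw [LinearMap.lTensor_tmul, stalkLin_cE, TensorProduct.tmul_smul]
  | add a b ha hb => rw [map_add, ha, hb, smul_add]

theorem additive_tensor :
    ((DCoh.tensorBi (X := X)).obj W).Additive ∧ ((DCoh.tensorBi (X := X)).flip.obj W').Additive :=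
  ⟨ModTensor.additive_tensorBi_obj X.sheaf W, ModTensor.additive_tensorBi_flip X.sheaf W'⟩

/-- The action of the endomorphisms of the factors on a tensor product. -/
theorem nonempty_tensorEnd :
    letI := endAlg p W
    letI := endAlg p W'
    letI := endAlg p (CohB1.tensorMod W W')
    Nonempty (End W ⊗[k] End W' →ₐ[k] End (CohB1.tensorMod W W')) := by
  letI := endAlg p W
  letI := endAlg p W'
  letI := endAlg p (CohB1.tensorMod W W')
  haveI := (additive_tensor W W').1
  haveI := (additive_tensor W W').2
  let L : End W →ₐ[k] End (CohB1.tensorMod W W') :=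
    { toFun := leftEnd W W'
      map_one' := ((DCoh.tensorBi (X := X)).flip.obj W').map_id W
      map_mul' := fun f g => ((DCoh.tensorBi (X := X)).flip.obj W').map_comp g f
      map_zero' := ((DCoh.tensorBi (X := X)).flip.obj W').map_zero W W
      map_add' := fun f g => ((DCoh.tensorBi (X := X)).flip.obj W').map_add
      commutes' := leftEnd_cE p W W' }
  let R : End W' →ₐ[k] End (CohB1.tensorMod W W') :=
    { toFun := rightEnd W W'
      map_one' := ((DCoh.tensorBi (X := X)).obj W).map_id W'
      map_mul' := fun f g => ((DCoh.tensorBi (X := X)).obj W).map_comp g f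
      map_zero' := ((DCoh.tensorBi (X := X)).obj W).map_zero W' W'
      map_add' := fun f g => ((DCoh.tensorBi (X := X)).obj W).map_add
      commutes' := rightEnd_cE p W W' }
  refine ⟨Algebra.TensorProduct.lift L R fun f g => ?_⟩
  exact ((DCoh.tensorBi (X := X)).map f).naturality g

/-- The endomorphisms of a power are matrices of endomorphisms. -/
theorem nonempty_endPowMat (M : X.Modules) (r : ℕ) :
    letI := endAlg p M
    letI := endAlg p (pow M r)
    Nonempty (End (pow M r) ≃ₐ[k] Matrix (Fin r) (Fin r) (End M)) := by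
  classical
  letI := endAlg p M
  letI := endAlg p (pow M r)
  let N : End (pow M r) → Matrix (Fin r) (Fin r) (End M) := fun f =>
    Matrix.of fun b a => (Sigma.ι (fun _ : Fin r => M) a ≫ (f : pow M r ⟶ pow M r) ≫ prj M b : M ⟶ M)
  have hadd : ∀ f g, N (f + g) = N f + N g := fun f g => Matrix.ext fun b a => by
    show Sigma.ι (fun _ : Fin r => M) a ≫ ((f : pow M r ⟶ pow M r) + (g : pow M r ⟶ pow M r)) ≫ prj M b = _
    rw [Preadditive.add_comp, Preadditive.comp_add]
    rfl
  have hmul : ∀ f g, N (g * f) = N g * N f := fun f g => Matrix.ext fun c a => by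
    rw [Matrix.mul_apply]
    show Sigma.ι (fun _ : Fin r => M) a ≫ ((f : pow M r ⟶ pow M r) ≫ (g : pow M r ⟶ pow M r)) ≫ prj M c =
      (∑ b : Fin r, (Sigma.ι (fun _ : Fin r => M) a ≫ (f : pow M r ⟶ pow M r) ≫ prj M b) ≫
        (Sigma.ι (fun _ : Fin r => M) b ≫ (g : pow M r ⟶ pow M r) ≫ prj M c) : M ⟶ M)
    conv_lhs => rw [← Category.comp_id (f : pow M r ⟶ pow M r), ← prj_total M]
    simp only [Preadditive.sum_comp, Preadditive.comp_sum, Category.assoc]
  have hc : ∀ c : k, N (cE p (pow M r) c) = algebraMap k _ c := fun c => Matrix.ext fun b a => by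
    show Sigma.ι (fun _ : Fin r => M) a ≫ (cE p (pow M r) c : pow M r ⟶ pow M r) ≫ prj M b = _
    rw [cE_natural p (prj M b) c, ← Category.assoc, ι_prj, Matrix.algebraMap_matrix_apply]
    rcases eq_or_ne a b with rfl | h
    · rw [if_pos rfl, if_pos rfl, Category.id_comp]
      rfl
    · rw [if_neg h, if_neg (Ne.symm h), zero_comp]
  let φ : End (pow M r) →ₐ[k] Matrix (Fin r) (Fin r) (End M) :=
    { toFun := N
      map_one' := (congrArg N (cE_one p (pow M r)).symm).trans ((hc 1).trans (map_one _))
      map_mul' := fun g f => hmul f g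
      map_zero' := (congrArg N (cE_zero p (pow M r)).symm).trans ((hc 0).trans (map_zero _))
      map_add' := hadd
      commutes' := hc }
  refine ⟨AlgEquiv.ofBijective φ ⟨fun f g h => ?_, fun T => ?_⟩⟩
  · refine Sigma.hom_ext _ _ fun a => ?_
    rw [← Category.comp_id (f : pow M r ⟶ pow M r), ← Category.comp_id (g : pow M r ⟶ pow M r), ← prj_total M,
      Preadditive.comp_sum, Preadditive.comp_sum, Preadditive.comp_sum, Preadditive.comp_sum]
    refine Finset.sum_congr rfl fun b _ => ?_
    have h1 : Sigma.ι (fun _ : Fin r => M) a ≫ (f : pow M r ⟶ pow M r) ≫ prj M b =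
        Sigma.ι (fun _ : Fin r => M) a ≫ (g : pow M r ⟶ pow M r) ≫ prj M b := congrFun (congrFun h b) a
    simp only [← Category.assoc] at h1 ⊢
    exact congrArg (· ≫ Sigma.ι (fun _ : Fin r => M) b) h1
  · refine ⟨Sigma.desc fun a => ∑ b, (T b a : M ⟶ M) ≫ Sigma.ι (fun _ : Fin r => M) b, Matrix.ext fun b a => ?_⟩
    show Sigma.ι (fun _ : Fin r => M) a ≫ _ ≫ prj M b = _
    rw [Sigma.ι_desc_assoc, Preadditive.sum_comp, Finset.sum_eq_single b]
    · rw [Category.assoc, ι_prj, if_pos rfl, Category.comp_id]
    · intro c _ hcb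
      rw [Category.assoc, ι_prj, if_neg hcb, comp_zero]
    · simp

end Groth.Agent.ASBunKS
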