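import Groth.Agent.ASBunKS.Split
import Groth.Agent.ASBunKS.SBType
import Groth.Agent.ASBunKS.IsoEnd
import Groth.Agent.ASBunKS.TensorPowSum
import Groth.Agent.ASBunKS.TensorEnd
import Groth.Agent.PicLib.Group
import Groth.Prelude.Def_PicGrp

/-!
# Isotypical modules of invertible type on a scheme with geometrically connected fibre
-/

set_option autoImplicit false
set_option backward.isDefEq.respectTransparency false
set_option linter.style.haveILetI false
set_option linter.unusedSectionVars false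

universe u

open CategoryTheory CategoryTheory.Limits AlgebraicGeometry
open W4c1astiltbs12
open Groth.Agent.PullbackMod
open scoped TensorProduct

noncomputable section

namespace Groth.Agent.ASBunKS

/-- Connected schemes have only the trivial idempotent functions. -/
theorem idempotent_eq' {X : Scheme.{u}} [ConnectedSpace X] {e : Γ(X, ⊤)} (he : e * e = e) : e = 0 ∨ e = 1 := by
  have hor : ∀ (x : X), x ∈ X.basicOpen e ↔ x ∉ X.basicOpen (1 - e) := by
    intro x
    rw [X.mem_basicOpen e x (show x ∈ (⊤ : X.Opens) from trivial), X.mem_basicOpen (1 - e) x (show x ∈ (⊤ : X.Opens) from trivial), map_sub, map_one]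
    have h : X.presheaf.germ ⊤ x trivial e * (1 - X.presheaf.germ ⊤ x trivial e) = 0 := by
      rw [mul_sub, mul_one, ← map_mul, he, sub_self]
    constructor
    · intro hu hu'
      exact not_isUnit_zero (h ▸ hu.mul hu')
    · intro hn
      by_contra hu
      exact hn (IsLocalRing.isUnit_one_sub_self_of_mem_nonunits _ hu)
  have hcl : IsClopen (X.basicOpen e : Set X) := by
    refine ⟨isOpen_compl_iff.1 ?_, (X.basicOpen e).2⟩
    convert (X.basicOpen (1 - e)).2 using 1
    ext x
    exact (not_congr (hor x)).trans not_not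
  rcases isClopen_iff.1 hcl with h | h
  · left
    refine TopCat.Presheaf.section_ext X.sheaf ⊤ _ _ fun x _ => ?_
    show X.presheaf.germ ⊤ x trivial e = X.presheaf.germ ⊤ x trivial 0
    have hx : x ∈ X.basicOpen (1 - e) := not_not.1 fun h' => (h ▸ ((hor x).2 h') : x ∈ (∅ : Set X))
    rw [X.mem_basicOpen (1 - e) x (show x ∈ (⊤ : X.Opens) from trivial), map_sub, map_one] at hx
    rw [map_zero]
    refine hx.mul_left_eq_zero.1 ?_
    rw [mul_sub, mul_one, ← map_mul, he, sub_self]
  · right
    refine TopCat.Presheaf.section_ext X.sheaf ⊤ _ _ fun x _ => ?_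
    show X.presheaf.germ ⊤ x trivial e = X.presheaf.germ ⊤ x trivial 1
    have hx : x ∈ X.basicOpen e := h.ge (Set.mem_univ x)
    rw [X.mem_basicOpen e x (show x ∈ (⊤ : X.Opens) from trivial)] at hx
    rw [map_one]
    refine hx.mul_left_cancel ?_
    rw [← map_mul, he, mul_one]

section EndInv

variable {Y : Scheme.{u}}

theorem mulEnd_section (F : Y.Modules) (g : Γ(Y, ⊤)) (V : Y.Opens) (m : Γ(F, V)) :
    (FactorOne.mulEnd F g).app V m = (Y.presheaf.map (homOfLE (le_top : V ≤ ⊤)).op g : Γ(Y, V)) • m :=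
  FactorOne.mulEnd_app F g V m

/-- Endomorphisms of the structure sheaf are global functions. -/
theorem exists_eq_mulEnd_structure (φ : Coh.structureModule Y ⟶ Coh.structureModule Y) :
    ∃ g : Γ(Y, ⊤), φ = FactorOne.mulEnd (Coh.structureModule Y) g := by
  refine ⟨φ.app ⊤ (1 : Γ(Y, ⊤)), Scheme.Modules.hom_ext _ _ fun V => AddCommGrpCat.hom_ext (AddMonoidHom.ext fun m => ?_)⟩
  have h1 : (1 : Γ(Y, V)) = (Coh.structureModule Y).presheaf.map (homOfLE (le_top : V ≤ ⊤)).op (1 : Γ(Y, ⊤)) :=
    (map_one (Y.presheaf.map (homOfLE (le_top : V ≤ ⊤)).op).hom).symm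
  have h2 := ConcreteCategory.congr_hom (φ.mapPresheaf.naturality (homOfLE (le_top : V ≤ ⊤)).op) (1 : Γ(Y, ⊤))
  refine Eq.trans ?_ (mulEnd_section _ _ V m).symm
  refine Eq.trans (congrArg (φ.app V) (show m = (show Γ(Y, V) from m) • ((Coh.structureModule Y).presheaf.map
    (homOfLE (le_top : V ≤ ⊤)).op (1 : Γ(Y, ⊤))) by rw [← h1]; exact (mul_one (M := Γ(Y, V)) _).symm)) ?_
  rw [Scheme.Modules.Hom.app_smul]
  refine Eq.trans (congrArg ((show Γ(Y, V) from m) • ·) h2) ?_
  exact mul_comm (G := Γ(Y, V)) _ _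

theorem mulEnd_injective_structure : Function.Injective (FactorOne.mulEnd (Coh.structureModule Y)) := fun a b h => by
  have h1 := congrArg (fun φ : Coh.structureModule Y ⟶ Coh.structureModule Y => φ.app ⊤ (1 : Γ(Y, ⊤))) h
  rw [mulEnd_section, mulEnd_section] at h1
  simpa [show (homOfLE (le_top : (⊤ : Y.Opens) ≤ ⊤)) = 𝟙 _ from Subsingleton.elim _ _] using h1

variable {K : Type u} [Field K] (q : Y ⟶ Spec (CommRingCat.of K))

theorem bijective_cE_structure (h : Function.Bijective (Coh.toGlobal (A := K) q)) :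
    Function.Bijective (cE q (Coh.structureModule Y)) :=
  ⟨mulEnd_injective_structure.comp h.1, fun φ => by
    obtain ⟨g, hg⟩ := exists_eq_mulEnd_structure (φ : Coh.structureModule Y ⟶ Coh.structureModule Y)
    obtain ⟨c, rfl⟩ := h.2 g
    exact ⟨c, hg.symm⟩⟩

variable {L : Y.Modules} (hL : PicF.IsInvertible L)

include hL in
theorem nontrivial_end_invertible [Nonempty Y] : 𝟙 L ≠ 0 := by
  intro h
  let x : Y := Classical.arbitrary _
  obtain ⟨e, he⟩ := ParaFLib.exists_stalk_gen hL x
  have h0 := (PullbackMod.eq_zero_iff_stalk (𝟙 L)).1 h x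
  rw [PullbackMod.stalkLin_id] at h0
  have he0 : e = 0 := LinearMap.congr_fun h0 e
  exact one_ne_zero (he.1 (a₁ := 1) (a₂ := 0) (by simp [he0]))

include hL in
theorem rightEnd_eq_zero {M : Y.Modules} {g : End M} (h : rightEnd L M g = 0) : g = 0 := by
  refine (PullbackMod.eq_zero_iff_stalk (g : M ⟶ M)).2 fun x => LinearMap.ext fun z => ?_
  obtain ⟨e, he⟩ := ParaFLib.exists_stalk_gen hL x
  have h1 := (DCohLib.stalkTensor_natural_right x (g : M ⟶ M) (M := L) (e ⊗ₜ z)).symm
  have h0 : stalkLin (((DCoh.tensorBi (X := Y)).obj L).map g) x = 0 :=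
    (PullbackMod.eq_zero_iff_stalk (rightEnd L M g : CohB1.tensorMod L M ⟶ CohB1.tensorMod L M)).1 h x
  rw [h0, LinearMap.zero_apply] at h1
  have h2 : e ⊗ₜ[Y.presheaf.stalk x] stalkLin (g : M ⟶ M) x z = 0 := by
    simpa using (DCohLib.stalkTensor x L M).map_eq_zero_iff.1 h1
  let θ : Y.presheaf.stalk x ≃ₗ[Y.presheaf.stalk x] L.presheaf.stalk x :=
    LinearEquiv.ofBijective (LinearMap.toSpanSingleton _ _ e) he
  have h3 := congrArg ((TensorProduct.congr θ.symm (LinearEquiv.refl _ _)).trans (TensorProduct.lid _ _)) h2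
  simp only [LinearEquiv.trans_apply, TensorProduct.congr_tmul, LinearEquiv.refl_apply, TensorProduct.lid_tmul,
    map_zero] at h3
  rw [show θ.symm e = 1 from θ.symm_apply_eq.2 (by rw [LinearEquiv.ofBijective_apply, LinearMap.toSpanSingleton_apply, one_smul]), one_smul] at h3
  exact h3

include hL in
theorem bijective_cE_invertible [Nonempty Y] (hO : Function.Bijective (cE q (Coh.structureModule Y))) :
    Function.Bijective (cE q L) := by
  haveI : Nontrivial (End L) := ⟨⟨1, 0, nontrivial_end_invertible hL⟩⟩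
  refine ⟨(cEHom q L).injective, fun φ => ?_⟩
  obtain ⟨N, hN, ⟨a⟩⟩ := AmpleEmb.exists_isInverseOf hL
  let b : CohB1.tensorMod N L ≅ Coh.structureModule Y := AmpleLib.comm N L ≪≫ a
  obtain ⟨c, hc⟩ := hO.2 (b.inv ≫ (rightEnd N L φ : _ ⟶ _) ≫ b.hom)
  refine ⟨c, sub_eq_zero.1 (rightEnd_eq_zero (L := N) hN ?_)⟩
  haveI : ((DCoh.tensorBi (X := Y)).obj N).Additive := ModTensor.additive_tensorBi_obj Y.sheaf N
  show ((DCoh.tensorBi (X := Y)).obj N).map ((cE q L c : L ⟶ L) - (φ : L ⟶ L)) = 0
  rw [Functor.map_sub, sub_eq_zero]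
  refine (rightEnd_cE q N L c).trans ?_
  rw [← cancel_mono b.hom, cE_natural q b.hom c, hc]
  simp [rightEnd]

end EndInv

/-- Invertible modules on a connected scheme are indecomposable. -/
theorem indec_of_connected {Y : Scheme.{u}} [ConnectedSpace Y] {L : Y.Modules} (hL : PicF.IsInvertible L) : Indec L := by
  refine ⟨fun h => nontrivial_end_invertible hL ((IsZero.iff_id_eq_zero L).1 h), fun A B ⟨e⟩ => ?_⟩
  obtain ⟨N, hN, ⟨a⟩⟩ := AmpleEmb.exists_isInverseOf hL
  let b : CohB1.tensorMod N L ≅ Coh.structureModule Y := AmpleLib.comm N L ≪≫ a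
  let P : End L := e.hom ≫ biprod.fst ≫ biprod.inl ≫ e.inv
  haveI : ((DCoh.tensorBi (X := Y)).obj N).Additive := ModTensor.additive_tensorBi_obj Y.sheaf N
  have hP : (P : L ⟶ L) ≫ (P : L ⟶ L) = P := by simp [P]
  obtain ⟨g, hg⟩ := exists_eq_mulEnd_structure (b.inv ≫ (rightEnd N L P : _ ⟶ _) ≫ b.hom)
  have hgg : g * g = g := mulEnd_injective_structure (by
    have h : FactorOne.mulEnd (Coh.structureModule Y) g ≫ FactorOne.mulEnd (Coh.structureModule Y) g =
        FactorOne.mulEnd (Coh.structureModule Y) g := by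
      rw [← hg]
      simp only [rightEnd, Category.assoc, Iso.hom_inv_id_assoc]
      rw [← Functor.map_comp_assoc, hP]
    refine Eq.trans ?_ h
    refine Scheme.Modules.hom_ext _ _ fun V => AddCommGrpCat.hom_ext (AddMonoidHom.ext fun m => ?_)
    refine (mulEnd_section _ _ V m).trans ?_
    refine Eq.trans ?_ ((congrArg ((FactorOne.mulEnd (Coh.structureModule Y) g).app V) (mulEnd_section _ g V m)).trans
      (mulEnd_section _ g V _)).symm
    rw [map_mul, mul_smul])
  have hcases : (P : L ⟶ L) = 0 ∨ (P : L ⟶ L) = 𝟙 L := by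
    rcases idempotent_eq' hgg with rfl | rfl
    · left
      refine rightEnd_eq_zero hN ?_
      have h0 : FactorOne.mulEnd (Coh.structureModule Y) 0 = 0 :=
        Scheme.Modules.hom_ext _ _ fun V => AddCommGrpCat.hom_ext (AddMonoidHom.ext fun m => by
          refine (mulEnd_section _ _ V m).trans ?_
          rw [map_zero, zero_smul]
          rfl)
      rw [h0] at hg
      have h1 := congrArg (fun t => b.hom ≫ t ≫ b.inv) hg
      simpa using h1
    · right
      have h1' : FactorOne.mulEnd (Coh.structureModule Y) 1 = 𝟙 _ :=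
        Scheme.Modules.hom_ext _ _ fun V => AddCommGrpCat.hom_ext (AddMonoidHom.ext fun m => by
          refine (mulEnd_section _ _ V m).trans ?_
          rw [map_one, one_smul]
          rfl)
      rw [h1'] at hg
      have h1 := congrArg (fun t => b.hom ≫ t ≫ b.inv) hg
      simp only [Category.assoc, Iso.hom_inv_id, Category.comp_id, Iso.hom_inv_id_assoc] at h1
      refine sub_eq_zero.1 (rightEnd_eq_zero hN (g := P - 1) ?_)
      show ((DCoh.tensorBi (X := Y)).obj N).map _ = 0
      rw [Functor.map_sub, sub_eq_zero]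
      refine Eq.trans ?_ (((DCoh.tensorBi (X := Y)).obj N).map_id L).symm
      refine h1.trans ?_
      simp
      rfl
  rcases hcases with h | h
  · left
    rw [IsZero.iff_id_eq_zero]
    have h1 := congrArg (fun t => biprod.inl ≫ e.inv ≫ t ≫ e.hom ≫ biprod.fst) h
    simpa [P] using h1
  · right
    rw [IsZero.iff_id_eq_zero]
    have h1 := congrArg (fun t => biprod.inr ≫ e.inv ≫ t ≫ e.hom ≫ biprod.snd) h
    simpa [P] using h1.symm

/-- Tensoring with an invertible module preserves indecomposability. -/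
theorem indec_tensor {Y : Scheme.{u}} {M J : Y.Modules} (hM : Indec M) (hJ : PicF.IsInvertible J) :
    Indec (CohB1.tensorMod M J) := by
  obtain ⟨N, hN, ⟨a⟩⟩ := AmpleEmb.exists_isInverseOf hJ
  let F := (DCoh.tensorBi (X := Y)).flip.obj N
  haveI : F.Additive := ModTensor.additive_tensorBi_flip Y.sheaf N
  let u : F.obj (CohB1.tensorMod M J) ≅ M :=
    AmpleLib.assoc M J N ≪≫ AmpleLib.tIso (Iso.refl M) a ≪≫ AmpleLib.unitR M
  have hback : ∀ C : Y.Modules, IsZero (F.obj C) → IsZero C := fun C hC => by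
    haveI : ((DCoh.tensorBi (X := Y)).flip.obj J).Additive := ModTensor.additive_tensorBi_flip Y.sheaf J
    exact (((DCoh.tensorBi (X := Y)).flip.obj J).map_isZero hC).of_iso
      (AmpleLib.assoc C N J ≪≫ AmpleLib.tIso (Iso.refl C) (AmpleLib.comm N J ≪≫ a) ≪≫ AmpleLib.unitR C).symm
  refine ⟨fun h => hM.1 ((F.map_isZero h).of_iso u.symm), fun A B ⟨e⟩ => ?_⟩
  haveI : PreservesBinaryBiproducts F := preservesBinaryBiproducts_of_preservesBiproducts F
  rcases hM.2 (F.obj A) (F.obj B) ⟨u.symm ≪≫ F.mapIso e ≪≫ F.mapBiprod A B⟩ with h | h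
  · exact Or.inl (hback A h)
  · exact Or.inr (hback B h)

variable {k : Type u} [Field k] {X : Scheme.{u}} (p : X ⟶ Spec (CommRingCat.of k)) [IsProper p]
  (K : Type u) [Field K] [Algebra k K]

/-- An isotypical module has an isotypical indecomposable summand. -/
theorem exists_indec_summand {M : X.Modules} (hM : FlatMod.IsFinLocFree M)
    {L : (W4bk4gw11416.baseChange p K).Modules} (hL : Coh.IsCoh L) (hLi : Indec L) {m : ℕ} (hm : 0 < m)
    (Φ : bcMod p K M ≅ pow L m) :
    ∃ (W : X.Modules) (r : ℕ), FlatMod.IsFinLocFree W ∧ Indec W ∧ 0 < r ∧ Nonempty (bcMod p K W ≅ pow L r) := by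
  classical
  haveI : IsLocallyNoetherian X := LocallyOfFiniteType.isLocallyNoetherian p
  obtain ⟨t, Ms, hMs, ⟨g⟩⟩ := exists_indec_coprod k p (DCohLib.isCoh_of_isFinLocFree hM)
  rcases Nat.eq_zero_or_pos t with rfl | ht
  · exfalso
    have hz : IsZero (bcMod p K M) :=
      (Scheme.Modules.pullback (proj p K)).map_isZero
        (((IsZero.iff_id_eq_zero _).2 (Sigma.hom_ext _ _ fun i => i.elim0)).of_iso g)
    have hs := (hz.of_iso Φ.symm).eq_of_tgt (Sigma.ι (fun _ : Fin m => L) ⟨0, hm⟩) 0
    refine hLi.1 ((IsZero.iff_id_eq_zero _).2 ?_)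
    have h1 := congrArg (· ≫ Sigma.desc fun _ : Fin m => 𝟙 L) hs
    simpa using h1
  let u := Sigma.ι Ms ⟨0, ht⟩ ≫ g.inv
  let v := g.hom ≫ Sigma.desc fun i => if h : i = ⟨0, ht⟩ then eqToHom (congrArg Ms h) else 0
  have huv : u ≫ v = 𝟙 _ := by simp [u, v]
  let P := Scheme.Modules.pullback (proj p K)
  obtain ⟨r, ⟨a⟩⟩ := exists_pow_of_retract (snd p K) hL hLi (P.map u ≫ Φ.hom) (Φ.inv ≫ P.map v) (by
    rw [Category.assoc, Φ.hom_inv_id_assoc, ← P.map_comp, huv, CategoryTheory.Functor.map_id])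
  have hflf := DCohLib.isFinLocFree_of_retract u v huv hM
  exact ⟨Ms ⟨0, ht⟩, r, hflf, hMs _, pos_of_indec p K (DCohLib.isCoh_of_isFinLocFree hflf) (hMs _) a, ⟨a⟩⟩

/-- The global functions of the base change. -/
theorem bijective_cE_bc (hO : IsIso p.appTop) :
    Function.Bijective (cE (snd p K) (Coh.structureModule (W4bk4gw11416.baseChange p K))) := by
  haveI : IsLocallyNoetherian X := LocallyOfFiniteType.isLocallyNoetherian p
  have hk : Function.Bijective (cE p (Coh.structureModule X)) := bijective_cE_structure p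
    (((ConcreteCategory.bijective_of_isIso p.appTop).comp
      (Scheme.ΓSpecIso (CommRingCat.of k)).symm.commRingCatIsoToRingEquiv.bijective))
  have hc : Coh.IsCoh (Coh.structureModule X) :=
    DCohLib.isCoh_of_isFinLocFree (CurveLib.isFinLocFree_of_isInvertible ParaFLib.isInvertible_structureModule)
  letI := endAlg p (Coh.structureModule X)
  letI := endAlg (snd p K) (bcMod p K (Coh.structureModule X))
  letI := endAlg (snd p K) (Coh.structureModule (W4bk4gw11416.baseChange p K))
  obtain ⟨c⟩ := nonempty_endCongr (snd p K) (AmpleLib.pullO (proj p K))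
  let ek : k ≃ₐ[k] End (Coh.structureModule X) := AlgEquiv.ofBijective (Algebra.ofId k _) hk
  let t : K ≃ₐ[K] End (Coh.structureModule (W4bk4gw11416.baseChange p K)) :=
    (Algebra.TensorProduct.rid k K K).symm.trans ((Algebra.TensorProduct.congr AlgEquiv.refl ek).trans
      ((AlgEquiv.ofBijective (endBC p K _) (bijective_endBC p K _ hc)).trans c))
  have h : ∀ x, t x = cE (snd p K) _ x := fun x => t.commutes x
  exact (funext h) ▸ t.bijective

/-- Indecomposables of opposite types have the same rank. -/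
theorem rank_dvd_of_inverse (hO : IsIso p.appTop) [Nonempty ↥(W4bk4gw11416.baseChange p K)]
    {W W' : X.Modules} (hW : FlatMod.IsFinLocFree W) (hW' : FlatMod.IsFinLocFree W') (hWi : Indec W)
    {N N' : (W4bk4gw11416.baseChange p K).Modules} (hN : PicF.IsInvertible N)
    (hNN : Nonempty (CohB1.tensorMod N N' ≅ Coh.structureModule (W4bk4gw11416.baseChange p K)))
    {d d' : ℕ} (hd : 0 < d) (eW : bcMod p K W ≅ pow N d) (eW' : bcMod p K W' ≅ pow N' d') (hd' : 0 < d') :
    d ∣ d' := by
  classical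
  haveI : IsLocallyNoetherian X := LocallyOfFiniteType.isLocallyNoetherian p
  have hWc := DCohLib.isCoh_of_isFinLocFree hW
  have hb := bijective_cE_invertible (snd p K) hN (bijective_cE_bc p K hO)
  have hk : Function.Bijective (cE p (Coh.structureModule X)) := bijective_cE_structure p
    (((ConcreteCategory.bijective_of_isIso p.appTop).comp
      (Scheme.ΓSpecIso (CommRingCat.of k)).symm.commRingCatIsoToRingEquiv.bijective))
  have hOc : Coh.IsCoh (Coh.structureModule X) :=
    DCohLib.isCoh_of_isFinLocFree (CurveLib.isFinLocFree_of_isInvertible ParaFLib.isInvertible_structureModule)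
  obtain ⟨n⟩ := hNN
  obtain ⟨t⟩ := nonempty_tensor_pow N N' d d'
  have e1 : bcMod p K (CohB1.tensorMod W W') ≅ pow (Coh.structureModule (W4bk4gw11416.baseChange p K)) (d * d') :=
    AmpleLib.pullTensor (proj p K) W W' ≪≫ AmpleLib.tIso eW eW' ≪≫ t ≪≫ powIso n (d * d')
  obtain ⟨φ⟩ : Nonempty (CohB1.tensorMod W W' ≅ pow (Coh.structureModule X) (d * d')) :=
    nonempty_iso_of_iso_bc p K (CurveLib.isCoh_tmod hWc (DCohLib.isCoh_of_isFinLocFree hW'))
    (isCoh_pow hOc (d * d')) (e1 ≪≫ (powIso (AmpleLib.pullO (proj p K)) (d * d')).symm ≪≫ (bcPow p K _ (d * d')).symm)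
  letI := endAlg p W
  letI := endAlg p (CohB1.tensorMod W W')
  letI := endAlg p (pow (Coh.structureModule X) (d * d'))
  haveI := (additive_tensor W W').2
  obtain ⟨c⟩ := nonempty_endCongr p φ
  obtain ⟨m⟩ := nonempty_endPow_of_bijective p hk (d * d')
  let l : End W →ₐ[k] End (CohB1.tensorMod W W') :=
    { toFun := leftEnd W W'
      map_one' := ((DCoh.tensorBi (X := X)).flip.obj W').map_id W
      map_mul' := fun a b => ((DCoh.tensorBi (X := X)).flip.obj W').map_comp (b : W ⟶ W) (a : W ⟶ W)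
      map_zero' := ((DCoh.tensorBi (X := X)).flip.obj W').map_zero W W
      map_add' := fun a b => ((DCoh.tensorBi (X := X)).flip.obj W').map_add
      commutes' := fun r => leftEnd_cE p W W' r }
  let ρ : End W →ₐ[k] Module.End k (Fin (d * d') → k) :=
    ((Matrix.toLinAlgEquiv' : Matrix (Fin (d * d')) (Fin (d * d')) k ≃ₐ[k] _).toAlgHom.comp
      (m.toAlgHom.comp c.toAlgHom)).comp l
  obtain ⟨-, -, hfin, hrank⟩ := csa_end_of_bijective p K hWc hb hd eW
  have hiso := exists_div_end_of_bijective p K hWc hWi hb hd eW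
  haveI : Nontrivial (End W) := ⟨⟨1, 0, fun h => hWi.1 ((IsZero.iff_id_eq_zero W).2 h)⟩⟩
  letI : DivisionRing (End W) := DivisionRing.ofIsUnitOrEqZero fun a => by
    by_cases ha : a = 0
    · exact Or.inr ha
    · haveI := hiso (a : W ⟶ W) ha
      exact Or.inl ((isUnit_iff_isIso _).2 inferInstance)
  letI : Module (End W) (Fin (d * d') → k) := Module.compHom _ ρ.toRingHom
  haveI : IsScalarTower k (End W) (Fin (d * d') → k) := ⟨fun r a v => by
    exact congrArg (fun T : Module.End k (Fin (d * d') → k) => T v) (ρ.toLinearMap.map_smul r a)⟩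
  have h := Module.finrank_mul_finrank k (End W) (Fin (d * d') → k)
  rw [hrank, Module.finrank_fin_fun] at h
  exact Nat.dvd_of_mul_dvd_mul_left hd ⟨Module.finrank (End W) (Fin (d * d') → k), by rw [← sq, h]⟩

end Groth.Agent.ASBunKS
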