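import Groth.Agent.ASBunKS.Abstract

/-!
# Types on a scheme with cyclic geometric Picard group
-/

set_option autoImplicit false
set_option backward.isDefEq.respectTransparency false
set_option linter.style.haveILetI false
set_option linter.unusedSectionVars false

universe u

open CategoryTheory CategoryTheory.Limits AlgebraicGeometry
open W4c1astiltbs12

noncomputable section

namespace Groth.Agent.ASBunKS

variable {k : Type u} [Field k] {X : Scheme.{u}} (p : X ⟶ Spec (CommRingCat.of k)) [IsProper p]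
  (K : Type u) [Field K] [Algebra k K] [ConnectedSpace ↥(W4bk4gw11416.baseChange p K)]

theorem coh_indec {N : (W4bk4gw11416.baseChange p K).Modules} (hN : PicF.IsInvertible N) :
    Coh.IsCoh N ∧ Indec N := by
  haveI : IsProper (snd p K) := isProper_snd p K
  haveI : IsLocallyNoetherian (W4bk4gw11416.baseChange p K) := LocallyOfFiniteType.isLocallyNoetherian (snd p K)
  exact ⟨CurveLib.isCoh_of_isInvertible hN, indec_of_connected hN⟩

/-- The same type has the same rank and the same invertible module. -/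
theorem eq_of_pow_iso {N N' : (W4bk4gw11416.baseChange p K).Modules} (hN : PicF.IsInvertible N)
    (hN' : PicF.IsInvertible N') {d d' : ℕ} (hd : 0 < d) (φ : pow N d ≅ pow N' d') :
    d = d' ∧ Nonempty (N ≅ N') := by
  haveI : IsProper (snd p K) := isProper_snd p K
  haveI : IsLocallyNoetherian (W4bk4gw11416.baseChange p K) := LocallyOfFiniteType.isLocallyNoetherian (snd p K)
  obtain ⟨e, he⟩ := indec_unique K (snd p K) (isCoh_pow (coh_indec p K hN).1 d) (fun _ => (coh_indec p K hN).2)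
    (fun _ => (coh_indec p K hN').2) (Iso.refl _) φ
  exact ⟨by simpa using Fintype.card_congr e, he ⟨0, hd⟩⟩

/-- Tensoring a type with an invertible module of the ground scheme. -/
theorem nonempty_type_tensor {W J : X.Modules} {N N' : (W4bk4gw11416.baseChange p K).Modules} {d : ℕ}
    (eW : bcMod p K W ≅ pow N d) (a : CohB1.tensorMod N (bcMod p K J) ≅ N') :
    Nonempty (bcMod p K (CohB1.tensorMod W J) ≅ pow N' d) := by
  haveI : ((DCoh.tensorBi (X := W4bk4gw11416.baseChange p K)).flip.obj (bcMod p K J)).Additive :=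
    ModTensor.additive_tensorBi_flip _ _
  exact ⟨AmpleLib.pullTensor (proj p K) W J ≪≫ AmpleLib.tIso eW (Iso.refl _) ≪≫
    mapPow ((DCoh.tensorBi (X := W4bk4gw11416.baseChange p K)).flip.obj (bcMod p K J)) N d ≪≫ powIso a d⟩

variable [PicGrp.Law X] [PicGrp.Law (W4bk4gw11416.baseChange p K)] (hπ : PicGrp.PullMul (proj p K))

include hπ in
theorem exists_zpow (J : X.Modules) (hJ : PicF.IsInvertible J) (a : ℤ) :
    ∃ (Ja : X.Modules) (hJa : PicF.IsInvertible Ja), PicGrp.cls Ja hJa = PicGrp.cls J hJ ^ a ∧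
      PicGrp.cls (bcMod p K Ja) (PicLoc.isInvertible_pullback (proj p K) hJa) =
        PicGrp.cls (bcMod p K J) (PicLoc.isInvertible_pullback (proj p K) hJ) ^ a := by
  obtain ⟨Ja, hJa, h⟩ := PicGrp.exists_eq_cls (PicGrp.cls J hJ ^ a)
  refine ⟨Ja, hJa, h.symm, ?_⟩
  rw [← PicGrp.pullHom_cls (proj p K) hπ Ja hJa, ← h, map_zpow, PicGrp.pullHom_cls]

include hπ in
/-- Ranks are periodic and symmetric. -/
theorem rank_periodic_symm (hO : IsIso p.appTop) {L : (W4bk4gw11416.baseChange p K).Modules} (hL : PicF.IsInvertible L)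
    {r : ℕ} {J : X.Modules} (hJ : PicF.IsInvertible J)
    (hJL : PicGrp.cls (bcMod p K J) (PicLoc.isInvertible_pullback (proj p K) hJ) = PicGrp.cls L hL ^ r)
    {j a j' : ℤ} (hj' : j' = -j ∨ j' = j + a * r)
    {N N' : (W4bk4gw11416.baseChange p K).Modules} (hN : PicF.IsInvertible N) (hN' : PicF.IsInvertible N')
    (hNj : PicGrp.cls N hN = PicGrp.cls L hL ^ j) (hN'j : PicGrp.cls N' hN' = PicGrp.cls L hL ^ j')
    {W W' : X.Modules} (hW : FlatMod.IsFinLocFree W) (hW' : FlatMod.IsFinLocFree W') (hWi : Indec W) (hW'i : Indec W')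
    {d d' : ℕ} (eW : bcMod p K W ≅ pow N d) (eW' : bcMod p K W' ≅ pow N' d') : d = d' := by
  haveI : IsLocallyNoetherian X := LocallyOfFiniteType.isLocallyNoetherian p
  have hd := pos_of_indec p K (DCohLib.isCoh_of_isFinLocFree hW) hWi eW
  have hd' := pos_of_indec p K (DCohLib.isCoh_of_isFinLocFree hW') hW'i eW'
  rcases hj' with rfl | rfl
  · have h : PicGrp.cls N hN * PicGrp.cls N' hN' = 1 := by rw [hNj, hN'j, ← zpow_add, add_neg_cancel, zpow_zero]
    have hn := (PicGrp.cls_mul_cls_eq_one_iff hN hN').1 h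
    exact Nat.dvd_antisymm
      (rank_dvd_of_inverse p K hO hW hW' hWi hN hn hd eW eW' hd')
      (rank_dvd_of_inverse p K hO hW' hW hW'i hN' (hn.map fun t => AmpleLib.comm N' N ≪≫ t) hd' eW' eW hd)
  · obtain ⟨Ja, hJa, -, hbc⟩ := exists_zpow p K hπ J hJ a
    have hJaK := PicLoc.isInvertible_pullback (proj p K) hJa
    obtain ⟨t⟩ : Nonempty (CohB1.tensorMod N (bcMod p K Ja) ≅ N') := by
      refine (PicGrp.cl_eq_cl_iff _ _).1 ?_
      rw [← PicGrp.cls_mul_cls_val hN hJaK, ← PicGrp.cls_val N' hN']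
      refine congrArg Subtype.val ?_
      rw [hbc, hJL, hNj, hN'j, ← zpow_natCast, ← zpow_mul, ← zpow_add, mul_comm a]
    obtain ⟨eT⟩ := nonempty_type_tensor p K eW t
    obtain ⟨φ⟩ := nonempty_iso_of_type p K (DCohLib.isCoh_of_isFinLocFree
      (DCohLib.isFinLocFree_tensor hW (CurveLib.isFinLocFree_of_isInvertible hJa)))
      (DCohLib.isCoh_of_isFinLocFree hW') (indec_tensor hWi hJa) hW'i eT eW'
    exact (eq_of_pow_iso p K hN' hN' hd (eT.symm ≪≫ (Scheme.Modules.pullback (proj p K)).mapIso φ ≪≫ eW')).1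

include hπ in
/-- Absolutely split indecomposables when the geometric Picard group is cyclic. -/
theorem decomposition_cyclic {L : (W4bk4gw11416.baseChange p K).Modules} (hL : PicF.IsInvertible L)
    (e : PicLoc.PicSet (W4bk4gw11416.baseChange p K) ≃* Multiplicative ℤ)
    (he : e (PicGrp.cls L hL) = Multiplicative.ofAdd 1)
    {r : ℕ} (hr : 1 ≤ r) {J : X.Modules} (hJ : PicF.IsInvertible J)
    (hJL : Nonempty (bcMod p K J ≅ CohB1.tensorPow L r))
    {M₁ : X.Modules} {d₁ : ℕ} (hM₁ : FlatMod.IsFinLocFree M₁) (hM₁i : Indec M₁) (eM₁ : bcMod p K M₁ ≅ pow L d₁)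
    {E : X.Modules} (hE : FlatMod.IsFinLocFree E) (hEi : Indec E)
    {n : ℕ} {Ls : Fin n → (W4bk4gw11416.baseChange p K).Modules} (hLs : ∀ i, PicF.IsInvertible (Ls i))
    (hEs : Nonempty (bcMod p K E ≅ ∐ Ls)) :
    (∃ (a : ℤ) (j : ℕ), j < r ∧ ∃ (M : X.Modules) (d : ℕ) (Ja : X.Modules) (hJa : PicF.IsInvertible Ja),
      FlatMod.IsFinLocFree M ∧ Indec M ∧ Nonempty (bcMod p K M ≅ pow (CohB1.tensorPow L j) d) ∧
      PicGrp.cls Ja hJa = PicGrp.cls J hJ ^ a ∧ Nonempty (E ≅ CohB1.tensorMod M Ja)) ∧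
    (∀ (a a' : ℤ) (j j' : ℕ) (M M' : X.Modules) (d d' : ℕ) (Ja Ja' : X.Modules)
      (hJa : PicF.IsInvertible Ja) (hJa' : PicF.IsInvertible Ja'),
      j < r → j' < r → Indec M → Indec M' →
      Nonempty (bcMod p K M ≅ pow (CohB1.tensorPow L j) d) → Nonempty (bcMod p K M' ≅ pow (CohB1.tensorPow L j') d') →
      PicGrp.cls Ja hJa = PicGrp.cls J hJ ^ a → PicGrp.cls Ja' hJa' = PicGrp.cls J hJ ^ a' →
      Nonempty (E ≅ CohB1.tensorMod M Ja) → Nonempty (E ≅ CohB1.tensorMod M' Ja') → a = a' ∧ j = j') := by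
  classical
  haveI : IsLocallyNoetherian X := LocallyOfFiniteType.isLocallyNoetherian p
  haveI : IsProper (snd p K) := isProper_snd p K
  haveI : IsLocallyNoetherian (W4bk4gw11416.baseChange p K) := LocallyOfFiniteType.isLocallyNoetherian (snd p K)
  have hd₁ := pos_of_indec p K (DCohLib.isCoh_of_isFinLocFree hM₁) hM₁i eM₁
  have hLj : ∀ j : ℕ, PicF.IsInvertible (CohB1.tensorPow L j) := AmpleLib.isInvertible_tensorPow hL
  -- a type for every power
  have hex : ∀ j : ℕ, ∃ (M : X.Modules) (d : ℕ), 0 < d ∧ FlatMod.IsFinLocFree M ∧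
      Nonempty (bcMod p K M ≅ pow (CohB1.tensorPow L j) d) := by
    intro j
    induction j with
    | zero =>
      exact ⟨_, 1, one_pos, CurveLib.isFinLocFree_of_isInvertible ParaFLib.isInvertible_structureModule,
        ⟨AmpleLib.pullO (proj p K) ≪≫
          (coproductUniqueIso fun _ : Fin 1 => Coh.structureModule (W4bk4gw11416.baseChange p K)).symm⟩⟩
    | succ j ih =>
      obtain ⟨M, d, hd, hM, ⟨eM⟩⟩ := ih
      obtain ⟨t⟩ := nonempty_tensor_pow (CohB1.tensorPow L j) L d d₁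
      exact ⟨_, d * d₁, Nat.mul_pos hd hd₁, DCohLib.isFinLocFree_tensor hM hM₁,
        ⟨AmpleLib.pullTensor (proj p K) M M₁ ≪≫ AmpleLib.tIso eM eM₁ ≪≫ t⟩⟩
  have hcls : ∀ j : ℕ, PicGrp.cls (CohB1.tensorPow L j) (hLj j) = PicGrp.cls L hL ^ j := fun j =>
    Subtype.ext (PicGrp.cls_pow_val hL j).symm
  have hJr : PicGrp.cls (bcMod p K J) (PicLoc.isInvertible_pullback (proj p K) hJ) = PicGrp.cls L hL ^ r :=
    ((PicGrp.cls_eq_cls_iff _ (hLj r)).2 hJL).trans (hcls r)
  have hinj : ∀ m m' : ℤ, PicGrp.cls L hL ^ m = PicGrp.cls L hL ^ m' → m = m' := fun m m' h => by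
    have h1 := congrArg e h
    rw [map_zpow, map_zpow, he, ← ofAdd_zsmul, ← ofAdd_zsmul] at h1
    simpa using h1
  -- the type of a tensor product
  have htype : ∀ (a : ℤ) (j : ℕ) (M : X.Modules) (d : ℕ) (Ja : X.Modules) (hJa : PicF.IsInvertible Ja),
      PicGrp.cls Ja hJa = PicGrp.cls J hJ ^ a → Nonempty (bcMod p K M ≅ pow (CohB1.tensorPow L j) d) →
      ∃ (N : (W4bk4gw11416.baseChange p K).Modules) (hN : PicF.IsInvertible N),
        PicGrp.cls N hN = PicGrp.cls L hL ^ ((j : ℤ) + r * a) ∧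
          Nonempty (bcMod p K (CohB1.tensorMod M Ja) ≅ pow N d) := by
    rintro a j M d Ja hJa hc ⟨eM⟩
    refine ⟨_, AmpleLib.isInvertible_tensor (hLj j) (PicLoc.isInvertible_pullback (proj p K) hJa), ?_,
      nonempty_type_tensor p K eM (Iso.refl _)⟩
    refine (Subtype.ext (PicGrp.cls_mul_cls_val (hLj j) (PicLoc.isInvertible_pullback (proj p K) hJa)).symm :
      PicGrp.cls _ _ = _).trans ?_
    rw [hcls, ← PicGrp.pullHom_cls (proj p K) hπ Ja hJa, hc, map_zpow, PicGrp.pullHom_cls, hJr, zpow_add, zpow_natCast,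
      zpow_mul, zpow_natCast]
  refine ⟨?_, ?_⟩
  · obtain ⟨φ⟩ := hEs
    have hW : ∀ i, ∃ (a : ℤ) (j : ℕ), j < r ∧ ∃ (M : X.Modules) (d : ℕ) (Ja : X.Modules) (hJa : PicF.IsInvertible Ja),
        FlatMod.IsFinLocFree M ∧ Indec M ∧ Nonempty (bcMod p K M ≅ pow (CohB1.tensorPow L j) d) ∧
        PicGrp.cls Ja hJa = PicGrp.cls J hJ ^ a ∧ Nonempty (bcMod p K (CohB1.tensorMod M Ja) ≅ pow (Ls i) d) := by
      intro i
      let m : ℤ := Multiplicative.toAdd (e (PicGrp.cls (Ls i) (hLs i)))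
      have hm : PicGrp.cls (Ls i) (hLs i) = PicGrp.cls L hL ^ m := e.injective (by
        rw [map_zpow, he, ← ofAdd_zsmul]
        simp [m])
      have h1 : 0 ≤ m % (r : ℤ) := Int.emod_nonneg _ (by omega)
      have h2 : m % (r : ℤ) < r := Int.emod_lt_of_pos _ (by omega)
      obtain ⟨M', d', hd', hM', ⟨eM'⟩⟩ := hex (m % (r : ℤ)).toNat
      obtain ⟨M, d, hM, hMi, -, ⟨eM⟩⟩ := exists_indec_summand p K hM' (coh_indec p K (hLj _)).1 (coh_indec p K (hLj _)).2
        hd' eM'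
      obtain ⟨Ja, hJa, hc, -⟩ := exists_zpow p K hπ J hJ (m / (r : ℤ))
      obtain ⟨N, hN, hNc, ⟨eN⟩⟩ := htype _ _ M d Ja hJa hc ⟨eM⟩
      obtain ⟨t⟩ : Nonempty (N ≅ Ls i) := (PicGrp.cls_eq_cls_iff hN (hLs i)).1 (by
        rw [hNc, hm]
        congr 1
        rw [Int.toNat_of_nonneg h1, Int.emod_add_mul_ediv])
      exact ⟨_, _, by omega, M, d, Ja, hJa, hM, hMi, ⟨eM⟩, hc, ⟨eN ≪≫ powIso t d⟩⟩
    obtain ⟨i, s, hs, ⟨eE⟩⟩ := type_of_split p K (DCohLib.isCoh_of_isFinLocFree hE) hEi φ fun i => by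
      obtain ⟨a, j, -, M, d, Ja, hJa, hM, hMi, -, -, eT⟩ := hW i
      exact ⟨_, d, DCohLib.isCoh_of_isFinLocFree
        (DCohLib.isFinLocFree_tensor hM (CurveLib.isFinLocFree_of_isInvertible hJa)), indec_tensor hMi hJa, eT⟩
    obtain ⟨a, j, hj, M, d, Ja, hJa, hM, hMi, eM, hc, ⟨eT⟩⟩ := hW i
    have hT := DCohLib.isFinLocFree_tensor hM (CurveLib.isFinLocFree_of_isInvertible hJa)
    exact ⟨a, j, hj, M, d, Ja, hJa, hM, hMi, eM, hc,
      nonempty_iso_of_type p K (DCohLib.isCoh_of_isFinLocFree hE) (DCohLib.isCoh_of_isFinLocFree hT) hEi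
        (indec_tensor hMi hJa) eE eT⟩
  · rintro a a' j j' M M' d d' Ja Ja' hJa hJa' hj hj' hMi hM'i eM eM' hc hc' ⟨φ⟩ ⟨φ'⟩
    obtain ⟨N, hN, hNc, ⟨eN⟩⟩ := htype a j M d Ja hJa hc eM
    obtain ⟨N', hN', hN'c, ⟨eN'⟩⟩ := htype a' j' M' d' Ja' hJa' hc' eM'
    let P := Scheme.Modules.pullback (proj p K)
    let eE : bcMod p K E ≅ pow N d := P.mapIso φ ≪≫ eN
    obtain ⟨-, ht⟩ := eq_of_pow_iso p K hN hN' (pos_of_indec p K (DCohLib.isCoh_of_isFinLocFree hE) hEi eE)
      (eE.symm ≪≫ P.mapIso φ' ≪≫ eN')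
    have h := hinj _ _ (hNc.symm.trans (((PicGrp.cls_eq_cls_iff hN hN').2 ht).trans hN'c))
    have h1 : ((j : ℤ) + r * a) % r = ((j' : ℤ) + r * a') % r := by rw [h]
    rw [Int.add_mul_emod_self_left, Int.add_mul_emod_self_left, Int.emod_eq_of_lt (by omega) (by omega),
      Int.emod_eq_of_lt (by omega) (by omega)] at h1
    obtain rfl : j = j' := by exact_mod_cast h1
    refine ⟨?_, rfl⟩
    have h2 : (r : ℤ) * a = r * a' := by linarith
    exact mul_left_cancel₀ (by omega : (r : ℤ) ≠ 0) h2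

end Groth.Agent.ASBunKS
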