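import Groth.Agent.ASBunKS.HomFinite

/-!
# Krull–Schmidt for coherent modules on a proper scheme
-/

set_option autoImplicit false
set_option backward.isDefEq.respectTransparency false
set_option linter.style.haveILetI false

universe u

open CategoryTheory CategoryTheory.Limits AlgebraicGeometry

noncomputable section

namespace Groth.Agent.ASBunKS

variable (k : Type u) [Field k] {X : Scheme.{u}} (p : X ⟶ Spec (CommRingCat.of k)) [IsProper p]

include p in
theorem finite_end {F : X.Modules} (hF : Coh.IsCoh F) :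
    letI : X.Over (Spec (CommRingCat.of k)) := ⟨p⟩
    letI := linMod k (X := X)
    Module.Finite k (F ⟶ F) := by
  letI : X.Over (Spec (CommRingCat.of k)) := ⟨p⟩
  haveI : IsProper (X ↘ Spec (CommRingCat.of k)) := ‹IsProper p›
  exact finite_hom k hF hF

include k p in
theorem exists_indec_coprod {F : X.Modules} (hF : Coh.IsCoh F) :
    ∃ (n : ℕ) (Fs : Fin n → X.Modules), (∀ i, Indec (Fs i)) ∧ Nonempty (F ≅ ∐ Fs) := by
  letI : X.Over (Spec (CommRingCat.of k)) := ⟨p⟩
  letI := linMod k (X := X)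
  haveI := finite_end k p hF
  obtain ⟨n, Fs, h, e⟩ := exists_coprod k F
  exact ⟨n, Fs, fun i => (h i).1, e⟩

include k p in
theorem indec_unique {F : X.Modules} (hF : Coh.IsCoh F) {n m : ℕ} {Fs : Fin n → X.Modules} {Gs : Fin m → X.Modules}
    (hFs : ∀ i, Indec (Fs i)) (hGs : ∀ j, Indec (Gs j)) (eF : F ≅ ∐ Fs) (eG : F ≅ ∐ Gs) :
    ∃ e : Fin n ≃ Fin m, ∀ i, Nonempty (Fs i ≅ Gs (e i)) := by
  letI : X.Over (Spec (CommRingCat.of k)) := ⟨p⟩
  letI := linMod k (X := X)
  haveI := finite_end k p hF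
  exact unique_coprod k Fs Gs hFs hGs eF eG

include k p in
theorem ind_of_indec' {F : X.Modules} (hF : Coh.IsCoh F) (hFi : Indec F) : VBLib.KS.Ind F := by
  letI : X.Over (Spec (CommRingCat.of k)) := ⟨p⟩
  letI := linMod k (X := X)
  haveI := finite_end k p hF
  exact ind_of_indec k hFi

end Groth.Agent.ASBunKS
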