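import Groth.Agent.ASBunKS.TautCls
import Mathlib

/-!
# Index of powers when period and index agree
-/

set_option autoImplicit false

universe u v

open Groth.Agent.BrauerClassLib

namespace Groth.Agent.ASBunKS

theorem not_dvd_choose_pred {q : ℕ} (hq : q.Prime) : ∀ (b P : ℕ), q ^ b ∣ P → 0 < P → ¬ q ∣ (P - 1).choose (q ^ b - 1)
  | 0, P, _, _ => by simpa using hq.ne_one
  | b + 1, P, hd, hP => by
    haveI := Fact.mk hq
    obtain ⟨c, rfl⟩ := hd
    have hc : 0 < c := Nat.pos_of_ne_zero fun h => by simp [h] at hP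
    intro h
    have hL := Choose.choose_modEq_choose_mod_mul_choose_div_nat (p := q) (n := q ^ (b + 1) * c - 1) (k := q ^ (b + 1) - 1)
    have e1 : ∀ x : ℕ, 0 < x → (q * x - 1) % q = q - 1 ∧ (q * x - 1) / q = x - 1 := fun x hx => by
      obtain ⟨y, rfl⟩ : ∃ y, x = y + 1 := ⟨x - 1, by omega⟩
      have hq1 := hq.two_le
      have : q * (y + 1) - 1 = (q - 1) + q * y := by rw [mul_add, mul_one]; omega
      rw [this]
      refine ⟨?_, ?_⟩
      · rw [Nat.add_mul_mod_self_left, Nat.mod_eq_of_lt (by omega)]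
      · rw [Nat.add_mul_div_left _ _ hq.pos, Nat.div_eq_of_lt (by omega)]
        omega
    rw [pow_succ', mul_assoc] at hL h
    rw [(e1 _ (mul_pos (pow_pos hq.pos b) hc)).1, (e1 _ (mul_pos (pow_pos hq.pos b) hc)).2,
      (e1 _ (pow_pos hq.pos b)).1, (e1 _ (pow_pos hq.pos b)).2, Nat.choose_self, one_mul] at hL
    exact not_dvd_choose_pred hq b _ (Dvd.intro c rfl) (mul_pos (pow_pos hq.pos b) hc)
      ((Nat.ModEq.dvd_iff hL dvd_rfl).1 h)

theorem factorization_choose_pow {q : ℕ} (hq : q.Prime) {b P : ℕ} (hd : q ^ b ∣ P) (hP : 0 < P) :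
    (P.choose (q ^ b)).factorization q + b = P.factorization q := by
  have h := Nat.add_one_mul_choose_eq (P - 1) (q ^ b - 1)
  rw [Nat.sub_add_cancel hP, Nat.sub_add_cancel (pow_pos hq.pos b)] at h
  have hle : q ^ b ≤ P := Nat.le_of_dvd hP hd
  have hne : (P - 1).choose (q ^ b - 1) ≠ 0 := (Nat.choose_pos (by omega)).ne'
  have h2 := congrArg (fun x => x.factorization q) h
  simp only [Nat.factorization_mul hP.ne' hne, Nat.factorization_mul (Nat.choose_pos hle).ne' (pow_pos hq.pos b).ne',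
    Finsupp.add_apply, Nat.factorization_eq_zero_of_not_dvd (not_dvd_choose_pred hq b P hd hP),
    hq.factorization_pow, Finsupp.single_eq_same, add_zero] at h2
  exact h2.symm

variable {k : Type u} [Field k] {A : Type v} [Ring A] [Algebra k A] [Algebra.IsCentral k A] [IsSimpleRing A]
  [Module.Finite k A]

/-- The index of a power of an algebra whose period equals its index. -/
theorem index_tpow_eq {p : ℕ} (hp : orderOf (cls (k := k) A) = p) (hi : CSAGal.IsIndex k A p) {m r : ℕ}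
    (hr : CSAGal.IsIndex k (CSAGal.tpow k A m) r) : r = p / Nat.gcd p m := by
  obtain ⟨h1, h2⟩ := csa_pi_fin (k := k) fun _ : Fin m => A
  have hp0 : 0 < p := hi.1
  have hg0 : 0 < Nat.gcd p m := Nat.gcd_pos_of_pos_left _ hp0
  have hdiv : 0 < p / Nat.gcd p m := Nat.div_pos (Nat.le_of_dvd hp0 (Nat.gcd_dvd_left _ _)) hg0
  obtain ⟨D, _, _, _, _, hD, hc⟩ := cls_of_isIndex hi
  obtain ⟨E, _, _, _, _, hE, hcE⟩ := cls_of_isIndex hr
  have hEc : cls (k := k) E = cls (k := k) D ^ m := by rw [← hcE, cls_tpow, hc]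
  refine Nat.dvd_antisymm ?_ ?_
  · have hrp : r ∣ p := dvd_of_cls_eq_pow hD hE hEc
    refine (Nat.factorization_le_iff_dvd hr.1.ne' hdiv.ne').1 fun q => ?_
    rcases Decidable.em q.Prime with hq | hq
    swap
    · simp [Nat.factorization_eq_zero_of_not_prime _ hq]
    rw [Nat.factorization_div (Nat.gcd_dvd_left _ _), Finsupp.tsub_apply]
    have hb : q ^ (Nat.gcd p m).factorization q ∣ Nat.gcd p m := Nat.ordProj_dvd _ q
    have hbp := factorization_choose_pow hq (hb.trans (Nat.gcd_dvd_left p m)) hp0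
    obtain ⟨t, ht⟩ := hb.trans (Nat.gcd_dvd_right p m)
    obtain ⟨hF1, hF2⟩ := csa_pi_fin (k := k) fun _ : Fin (q ^ (Nat.gcd p m).factorization q) => D
    obtain ⟨d', hd'⟩ := exists_index (k := k) (CSAGal.tpow k D (q ^ (Nat.gcd p m).factorization q))
    obtain ⟨F, _, _, _, _, hF, hcF⟩ := cls_of_isIndex hd'
    have hd1 : d' ∣ p.choose (q ^ (Nat.gcd p m).factorization q) :=
      dvd_choose hD _ hF (by rw [← hcF, cls_tpow])
    have hrd : r ∣ d' := dvd_of_cls_eq_pow hF hE (r := t) (by rw [hEc, ← hcF, cls_tpow, ← pow_mul, ← ht])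
    have hpos : p.choose (q ^ (Nat.gcd p m).factorization q) ≠ 0 :=
      (Nat.choose_pos (Nat.le_of_dvd hp0 (hb.trans (Nat.gcd_dvd_left p m)))).ne'
    have := (Nat.factorization_le_iff_dvd hr.1.ne' hpos).2 (hrd.trans hd1) q
    omega
  · have h := orderOf_dvd_index hr
    rw [cls_tpow, (orderOf_pos_iff.1 (by rw [hp]; exact hp0)).orderOf_pow, hp] at h
    exact h

theorem period_index_prime {n : ℕ} (hA : Module.finrank k A = n * n) (hq : n.Prime)
    (hns : ¬ Curves.Splits k A k) : CSAGal.IsIndex k A n ∧ orderOf (cls (k := k) A) = n := by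
  obtain ⟨d, hd⟩ := exists_index (k := k) A
  have hne : cls (k := k) A ≠ 1 := fun h => hns (splits_of_cls_eq_one h)
  have hdn : d ∣ n := by
    obtain ⟨-, m, D, _, _, hm, hD, ⟨e⟩⟩ := hd
    have := e.toLinearEquiv.finrank_eq
    rw [hA, Module.finrank_matrix, hD] at this
    simp only [Fintype.card_fin] at this
    exact ⟨m, Nat.mul_self_inj.1 (this.trans (by ring))⟩
  rcases (Nat.dvd_prime hq).1 hdn with rfl | rfl
  · obtain ⟨D, _, _, _, _, hD, hc⟩ := cls_of_isIndex hd
    exact absurd (hc.trans (deg_eq_one_of_dvd hD rfl)) hne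
  refine ⟨hd, ?_⟩
  rcases (Nat.dvd_prime hq).1 (orderOf_dvd_index hd) with h | h
  · exact absurd (orderOf_eq_one_iff.1 h) hne
  · exact h

end Groth.Agent.ASBunKS
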