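import Groth.Agent.ASBunKS.TautCls
import Groth.Agent.ASBunKS.PeriodIndex
import Groth.Agent.SplitP1Lib.Main

/-!
# Modules on a conic are absolutely split
-/

set_option autoImplicit false
set_option backward.isDefEq.respectTransparency false
set_option linter.style.haveILetI false
set_option linter.unusedSectionVars false

universe u

open CategoryTheory CategoryTheory.Limits AlgebraicGeometry
open W4c1astiltbs12
open Groth.Agent.PullbackMod

noncomputable section

namespace Groth.Agent.ASBunKS

variable {k : Type u} [Field k] {X : Scheme.{u}} {f : X ⟶ Spec (CommRingCat.of k)} {K : Type u} [Field K]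
  [Algebra k K]

theorem exists_split_conic (e : BrSev.Splitting f K 1) {E : X.Modules} (hE : FlatMod.IsFinLocFree E) :
    ∃ (s : ℕ) (Ns : Fin s → (BrSev.bc f K).Modules), (∀ i, PicF.IsInvertible (Ns i)) ∧
      Nonempty (BrSev.bcMod f K E ≅ ∐ Ns) := by
  let E' := (Scheme.Modules.pullback e.iso.inv).obj (bcMod f K E)
  have hE' : FlatMod.IsFinLocFree E' := isFinLocFree_pullback _ _ (isFinLocFree_pullback _ _ hE)
  haveI : IsIntegral (CohB1.ProjSpace 1 K) := inferInstance
  haveI : Nonempty (CohB1.ProjSpace 1 K) := ⟨PicProjLib.gen 1 K⟩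
  obtain ⟨r, hr⟩ := exists_rank' hE'
  obtain ⟨d, -, hd⟩ := SplitP1Lib.exists_adapted hr
  obtain ⟨φ⟩ := SplitP1Lib.nonempty_iso_of_adapted hd (SplitP1Lib.adapted_sigma d)
  refine ⟨r, fun i => e.twist (d i), fun i => isInvertible_twistK f e (d i), ⟨?_⟩⟩
  exact (Scheme.Modules.pullbackId _).symm.app _ ≪≫ (Scheme.Modules.pullbackCongr e.iso.hom_inv_id.symm).app _ ≪≫
    ((Scheme.Modules.pullbackComp e.iso.hom e.iso.inv).app _).symm ≪≫
    (Scheme.Modules.pullback e.iso.hom).mapIso φ ≪≫
    (PreservesCoproduct.iso (Scheme.Modules.pullback e.iso.hom) fun i => Twist.twistProjSpace 1 K (d i))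

end Groth.Agent.ASBunKS
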