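import Groth.Agent.FlatLocus.ModInjFlat
import Groth.Agent.PullbackMod.Hom
import Groth.Agent.HomLib.Basic

/-!
# Isomorphisms of quasi-coherent modules detected on an affine cover
-/

set_option autoImplicit false
set_option backward.isDefEq.respectTransparency false
set_option linter.style.haveILetI false

universe u

open CategoryTheory AlgebraicGeometry TopologicalSpace
open Groth.Agent.PullbackMod

noncomputable section

namespace Groth.Agent.ASBunKS

/-- A map of quasi-coherent modules which is bijective on an affine cover is an isomorphism. -/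
theorem isIso_of_cover {X : Scheme.{u}} {M N : X.Modules} [Coh.IsQCoh M] [Coh.IsQCoh N] (f : M ⟶ N)
    (h : ∀ x : X, ∃ W : X.Opens, IsAffineOpen W ∧ x ∈ W ∧ Function.Bijective (f.app W)) : IsIso f := by
  refine (isIso_iff_stalk f).2 fun x => ?_
  obtain ⟨W, hW, hx, hb⟩ := h x
  letI := Module.compHom (M.presheaf.stalk x) (X.presheaf.germ W x hx).hom
  letI := Module.compHom (N.presheaf.stalk x) (X.presheaf.germ W x hx).hom
  letI : Algebra Γ(X, W) (X.presheaf.stalk x) := TopCat.Presheaf.algebra_section_stalk X.presheaf ⟨x, hx⟩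
  haveI := hW.isLocalization_stalk ⟨x, hx⟩
  haveI := FlatLocus.isLocalizedModule_germL M hW x hx
  haveI := FlatLocus.isLocalizedModule_germL N hW x hx
  let S := (hW.primeIdealOf ⟨x, hx⟩).asIdeal.primeCompl
  have hu : ∀ s : S, IsUnit ((X.presheaf.germ W x hx).hom s.1) := fun s => IsLocalization.map_units _ s
  have hgerm : ∀ m, stalkLin f x (FlatLocus.germL M W x hx m) = FlatLocus.germL N W x hx (f.app W m) :=
    fun m => stalkLin_germ f x hx m
  refine ⟨(injective_iff_map_eq_zero _).2 fun z hz => ?_, fun z => ?_⟩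
  · obtain ⟨⟨m, s⟩, hs⟩ := IsLocalizedModule.surj S (FlatLocus.germL M W x hx) z
    change (X.presheaf.germ W x hx).hom s.1 • z = _ at hs
    have h0 : FlatLocus.germL N W x hx (f.app W m) = 0 := by
      rw [← hgerm, ← hs, map_smul, hz, smul_zero]
    obtain ⟨t, ht⟩ := (IsLocalizedModule.eq_zero_iff S (FlatLocus.germL N W x hx)).1 h0
    have hm : t.1 • m = 0 := hb.1 (by
      rw [map_zero, Scheme.Modules.Hom.app_smul]
      exact ht)
    have hzero : FlatLocus.germL M W x hx m = 0 := (IsLocalizedModule.eq_zero_iff S _).2 ⟨t, hm⟩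
    exact (hu s).smul_left_cancel.1 (by rw [hs, hzero, smul_zero])
  · obtain ⟨⟨n, s⟩, hs⟩ := IsLocalizedModule.surj S (FlatLocus.germL N W x hx) z
    change (X.presheaf.germ W x hx).hom s.1 • z = _ at hs
    obtain ⟨m, rfl⟩ := hb.2 n
    obtain ⟨w, hw⟩ := hu s
    refine ⟨(↑w⁻¹ : X.presheaf.stalk x) • FlatLocus.germL M W x hx m, ?_⟩
    rw [map_smul, hgerm, ← hs, ← hw, smul_smul, Units.inv_mul, one_smul]

end Groth.Agent.ASBunKS
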