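import Groth.Agent.ASBunKS.Retr
import Groth.Agent.ASBunKS.Coherent
import Groth.Agent.ShStabLib.Noeth
import Groth.Agent.PullbackMod.Props

/-!
# Descent of isomorphisms along field extensions
-/

set_option autoImplicit false
set_option backward.isDefEq.respectTransparency false
set_option linter.style.haveILetI false

universe w v u

open CategoryTheory CategoryTheory.Limits AlgebraicGeometry
open W4c1astiltbs12 Groth.Agent.VBLib

noncomputable section

namespace Groth.Agent.ASBunKS

section Cat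

variable {C : Type w} [Category.{v} C] [Preadditive C]

theorem exists_isIso_of_sum {J : C} [IsLocalRing (End J)] {ι : Type*} (s : Finset ι) (f : ι → (J ⟶ J))
    (h : IsIso (∑ i ∈ s, f i)) : ∃ i ∈ s, IsIso (f i) := by
  classical
  induction s using Finset.induction_on with
  | empty =>
    rw [Finset.sum_empty] at h
    haveI := h
    have hz : (𝟙 J : J ⟶ J) = 0 := by rw [← IsIso.hom_inv_id (0 : J ⟶ J), zero_comp]
    exact absurd (show (1 : End J) = 0 from hz) one_ne_zero
  | insert a s ha ih =>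
    rw [Finset.sum_insert ha] at h
    by_cases hs : IsIso (∑ i ∈ s, f i)
    · obtain ⟨i, hi, hfi⟩ := ih hs
      exact ⟨i, Finset.mem_insert_of_mem hi, hfi⟩
    · by_cases hfa : IsIso (f a)
      · exact ⟨a, Finset.mem_insert_self _ _, hfa⟩
      · exfalso
        rcases IsLocalRing.isUnit_or_isUnit_of_isUnit_add (R := End J) (a := f a) (b := ∑ i ∈ s, f i)
          ((isUnit_iff_isIso _).2 h) with h1 | h1
        · exact hfa ((isUnit_iff_isIso _).1 h1)
        · exact hs ((isUnit_iff_isIso _).1 h1)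

theorem retract_of_sum [HasBinaryBiproducts C] {J F G : C} (hJ : KS.Ind J) (u : J ⟶ F) (w : F ⟶ J)
    (huw : u ≫ w = 𝟙 J) {ι : Type*} (s : Finset ι) (φ : ι → (F ⟶ G)) (ψ : ι → (G ⟶ F))
    (h : 𝟙 F = ∑ i ∈ s, φ i ≫ ψ i) : ∃ (a : J ⟶ G) (b : G ⟶ J), a ≫ b = 𝟙 J := by
  haveI := hJ.2
  have hsum : ∑ i ∈ s, (u ≫ φ i) ≫ ψ i ≫ w = 𝟙 J := by
    calc ∑ i ∈ s, (u ≫ φ i) ≫ ψ i ≫ w = u ≫ (∑ i ∈ s, φ i ≫ ψ i) ≫ w := by
          simp only [Preadditive.sum_comp, Preadditive.comp_sum, Category.assoc]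
      _ = 𝟙 J := by rw [← h, Category.id_comp, huw]
  obtain ⟨i, -, hi⟩ := exists_isIso_of_sum s (fun i => (u ≫ φ i) ≫ ψ i ≫ w) (by rw [hsum]; infer_instance)
  haveI := hi
  exact ⟨u ≫ φ i, (ψ i ≫ w) ≫ inv ((u ≫ φ i) ≫ ψ i ≫ w), by rw [← Category.assoc, IsIso.hom_inv_id]⟩

end Cat

/-- A retract of a coherent module is coherent. -/
theorem isCoh_of_retract {X : Scheme.{u}} [IsLocallyNoetherian X] {A M : X.Modules} (hM : Coh.IsCoh M)
    (i : A ⟶ M) (r : M ⟶ A) (h : i ≫ r = 𝟙 A) : Coh.IsCoh A := by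
  have hw : (𝟙 M - r ≫ i) ≫ r = 0 := by
    rw [Preadditive.sub_comp, Category.id_comp, Category.assoc, h, Category.comp_id, sub_self]
  refine ShStabLib.isCoh_of_iso ?_ (QCohLib.isCoh_kernel_cokernel (𝟙 M - r ≫ i) hM hM).2
  refine ⟨cokernel.desc _ r hw, i ≫ cokernel.π _, ?_, ?_⟩
  · refine coequalizer.hom_ext ?_
    rw [← Category.assoc, cokernel.π_desc, Category.comp_id]
    have hc : (𝟙 M - r ≫ i) ≫ cokernel.π (𝟙 M - r ≫ i) = 0 := cokernel.condition _
    rw [Preadditive.sub_comp, Category.id_comp, sub_eq_zero, Category.assoc] at hc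
    exact hc.symm
  · rw [Category.assoc, cokernel.π_desc, h]

theorem isCoh_biprod_left {X : Scheme.{u}} [IsLocallyNoetherian X] {M A B : X.Modules} (hM : Coh.IsCoh M)
    (e : M ≅ A ⊞ B) : Coh.IsCoh A ∧ Coh.IsCoh B :=
  ⟨isCoh_of_retract hM (biprod.inl ≫ e.inv) (e.hom ≫ biprod.fst) (by simp),
    isCoh_of_retract hM (biprod.inr ≫ e.inv) (e.hom ≫ biprod.snd) (by simp)⟩

variable {k : Type u} [Field k] {X : Scheme.{u}} (p : X ⟶ Spec (CommRingCat.of k))

include p in
theorem dec_of_coh [IsProper p] {F : X.Modules} (hF : Coh.IsCoh F) : KS.Dec F := by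
  letI : X.Over (Spec (CommRingCat.of k)) := ⟨p⟩
  letI := linMod k (X := X)
  haveI := finite_end k p hF
  obtain ⟨l, hl, ⟨e⟩⟩ := exists_dec k F ‹_›
  exact ⟨l, fun A hA => (haveI := (hl A hA).2; ind_of_indec k (hl A hA).1), ⟨e⟩⟩

variable (K : Type u) [Field K] [Algebra k K]

/-- If the base changes are isomorphic, the first module is a retract of a power of the second. -/
theorem exists_sum_eq_id [IsProper p] {F G : X.Modules} (hF : Coh.IsCoh F) (hG : Coh.IsCoh G)
    (e : bcMod p K F ≅ bcMod p K G) :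
    ∃ (ι : Type u) (s : Finset ι) (φ : ι → (F ⟶ G)) (ψ : ι → (G ⟶ F)), 𝟙 F = ∑ i ∈ s, φ i ≫ ψ i := by
  haveI : CompactSpace X := QuasiCompact.compactSpace_of_compactSpace p
  haveI : IsLocallyNoetherian X := LocallyOfFiniteType.isLocallyNoetherian p
  haveI : Coh.IsQCoh F := hF.1
  haveI : Coh.IsQCoh G := hG.1
  let b := Module.Free.chooseBasis k K
  obtain ⟨lam, hlam⟩ := (Algebra.linearMap k K).exists_leftInverse_of_injective
    (LinearMap.ker_eq_bot.2 (algebraMap k K).injective)
  have h1 : lam 1 = 1 := by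
    have := LinearMap.congr_fun hlam 1
    simpa using this
  let adj := Scheme.Modules.pullbackPushforwardAdjunction (proj p K)
  let φt : F ⟶ pushBC p K G := adj.unit.app F ≫ (Scheme.Modules.pushforward (proj p K)).map e.hom
  obtain ⟨s, hs⟩ := exists_decomposition p K G b hF φt
  refine ⟨_, s, fun i => φt ≫ retr p K G (b.coord i),
    fun i => inc p K G (b i) ≫ (Scheme.Modules.pushforward (proj p K)).map e.inv ≫ retr p K F lam, ?_⟩
  have hu : φt ≫ (Scheme.Modules.pushforward (proj p K)).map e.inv = adj.unit.app F := by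
    rw [Category.assoc, ← Functor.map_comp, e.hom_inv_id, CategoryTheory.Functor.map_id]
    exact Category.comp_id _
  calc 𝟙 F = φt ≫ (Scheme.Modules.pushforward (proj p K)).map e.inv ≫ retr p K F lam := by
        rw [← Category.assoc, hu, unit_retr p K F lam h1]
    _ = _ := by
        conv_lhs => rw [hs]
        simp only [Preadditive.sum_comp, Category.assoc]

instance isProper_snd [IsProper p] : IsProper (snd p K) := MorphismProperty.pullback_snd _ _ inferInstance

theorem isCoh_bcMod [IsProper p] {F : X.Modules} (hF : Coh.IsCoh F) : Coh.IsCoh (bcMod p K F) :=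
  haveI : IsLocallyNoetherian X := LocallyOfFiniteType.isLocallyNoetherian p
  PullbackMod.isCoh_pullback _ _ hF

/-- Descent of isomorphisms. -/
theorem nonempty_iso_of_bc [IsProper p] : ∀ (l : List X.Modules), (∀ A ∈ l, KS.Ind A) → ∀ G : X.Modules,
    Coh.IsCoh (KS.sumL l) → Coh.IsCoh G → Nonempty (bcMod p K (KS.sumL l) ≅ bcMod p K G) →
      Nonempty (KS.sumL l ≅ G) := by
  intro l
  haveI : IsLocallyNoetherian X := LocallyOfFiniteType.isLocallyNoetherian p
  induction l with
  | nil =>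
    intro _ G hl hG ⟨e⟩
    obtain ⟨ι, s, φ, ψ, hid⟩ := exists_sum_eq_id p K hG hl e.symm
    refine ⟨(isZero_zero _).iso ((IsZero.iff_id_eq_zero G).2 ?_)⟩
    rw [hid]
    exact Finset.sum_eq_zero fun i _ => by rw [(isZero_zero _).eq_of_tgt (φ i) 0, zero_comp]
  | cons J t ih =>
    intro hind G hl hG ⟨e⟩
    have hJ := hind J List.mem_cons_self
    obtain ⟨ι, s, φ, ψ, hid⟩ := exists_sum_eq_id p K hl hG e
    obtain ⟨a, b, hab⟩ := retract_of_sum hJ (biprod.inl : J ⟶ J ⊞ KS.sumL t) biprod.fst biprod.inl_fst s φ ψ hid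
    obtain ⟨lG, hlG, ⟨fG⟩⟩ := dec_of_coh p hG
    have hm := KS.mem_of_retract hJ hlG (a ≫ fG.hom) (fG.inv ≫ b) (by simp [hab])
    obtain ⟨lG', -, -, ⟨g⟩⟩ := KS.extract hm
    obtain ⟨hJc, hTc⟩ := isCoh_biprod_left hl (Iso.refl (J ⊞ KS.sumL t))
    obtain ⟨-, hG'c⟩ := isCoh_biprod_left hG (fG ≪≫ g)
    let P := Scheme.Modules.pullback (proj p K)
    haveI : PreservesColimits P := (Scheme.Modules.pullbackPushforwardAdjunction (proj p K)).leftAdjoint_preservesColimits
    haveI : PreservesBinaryBiproducts P := preservesBinaryBiproducts_of_preservesBinaryCoproducts P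
    have e1 : P.obj J ⊞ P.obj (KS.sumL t) ≅ P.obj J ⊞ P.obj (KS.sumL lG') :=
      (P.mapBiprod J (KS.sumL t)).symm ≪≫ e ≪≫ P.mapIso (fG ≪≫ g) ≪≫ P.mapBiprod J (KS.sumL lG')
    have dJ := dec_of_coh (snd p K) (isCoh_bcMod p K hJc)
    have dT := dec_of_coh (snd p K) (isCoh_bcMod p K hTc)
    have dG := dec_of_coh (snd p K) (isCoh_bcMod p K hG'c)
    have heq : KS.dec (P.obj (KS.sumL t)) = KS.dec (P.obj (KS.sumL lG')) := by
      have h1 := KS.dec_iso (KS.dec_biprod dJ dT).1 e1
      rw [(KS.dec_biprod dJ dT).2, (KS.dec_biprod dJ dG).2] at h1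
      exact add_left_cancel h1
    obtain ⟨f⟩ := ih (fun A hA => hind A (List.mem_cons_of_mem _ hA)) (KS.sumL lG') hTc hG'c
      (KS.nonempty_iso_of_dec_eq dT dG heq)
    exact ⟨biprod.mapIso (Iso.refl J) f ≪≫ g.symm ≪≫ fG.symm⟩

theorem nonempty_iso_of_iso_bc [IsProper p] {F G : X.Modules} (hF : Coh.IsCoh F) (hG : Coh.IsCoh G)
    (e : bcMod p K F ≅ bcMod p K G) : Nonempty (F ≅ G) := by
  haveI : IsLocallyNoetherian X := LocallyOfFiniteType.isLocallyNoetherian p
  obtain ⟨l, hl, ⟨f⟩⟩ := dec_of_coh p hF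
  obtain ⟨g⟩ := nonempty_iso_of_bc p K l hl G (ShStabLib.isCoh_of_iso f hF) hG
    ⟨((Scheme.Modules.pullback (proj p K)).mapIso f).symm ≪≫ e⟩
  exact ⟨f ≪≫ g⟩

theorem inc_natural {F G : X.Modules} (h : F ⟶ G) (c : K) :
    inc p K F c ≫ (Scheme.Modules.pushforward (proj p K)).map ((Scheme.Modules.pullback (proj p K)).map h) =
      h ≫ inc p K G c := by
  letI : (W4bk4gw11416.baseChange p K).Over (Spec (CommRingCat.of K)) := ⟨snd p K⟩
  have hn := cst_natural K ((Scheme.Modules.pullback (proj p K)).map h) c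
  have hu := (Scheme.Modules.pullbackPushforwardAdjunction (proj p K)).unit.naturality h
  unfold inc
  rw [Category.assoc, ← Functor.map_comp]
  refine (congrArg (fun t => _ ≫ (Scheme.Modules.pushforward (proj p K)).map t) hn).trans ?_
  rw [Functor.map_comp, ← Category.assoc, ← Category.assoc]
  exact congrArg (fun t => t ≫ (Scheme.Modules.pushforward (proj p K)).map (cst K (bcMod p K G) c)) hu.symm

/-- A base change of a nonzero map is nonzero. -/
theorem bc_faithful {F G : X.Modules} [Coh.IsQCoh G] (f : F ⟶ G)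
    (h : (Scheme.Modules.pullback (proj p K)).map f = 0) : f = 0 := by
  obtain ⟨lam, hlam⟩ := (Algebra.linearMap k K).exists_leftInverse_of_injective
    (LinearMap.ker_eq_bot.2 (algebraMap k K).injective)
  have h1 : lam 1 = 1 := by simpa using LinearMap.congr_fun hlam 1
  have hu := (Scheme.Modules.pullbackPushforwardAdjunction (proj p K)).unit.naturality f
  calc f = f ≫ (Scheme.Modules.pullbackPushforwardAdjunction (proj p K)).unit.app G ≫ retr p K G lam := by
        rw [unit_retr p K G lam h1, Category.comp_id]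
    _ = 0 := by
        rw [← Category.assoc]
        refine (congrArg (· ≫ retr p K G lam) hu).trans ?_
        simp [h]

/-- A factorization of the identity through a base changed map descends. -/
theorem exists_sum_of_bc [IsProper p] {F G G' : X.Modules} (hF : Coh.IsCoh F) (hG : Coh.IsCoh G) (f : G ⟶ G')
    {ι' : Type*} (t : Finset ι') (u : ι' → (bcMod p K F ⟶ bcMod p K G)) (v : ι' → (bcMod p K G' ⟶ bcMod p K F))
    (h : 𝟙 (bcMod p K F) = ∑ i ∈ t, u i ≫ (Scheme.Modules.pullback (proj p K)).map f ≫ v i) :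
    ∃ (κ : Type u) (s : ι' → Finset κ) (φ : ι' → κ → (F ⟶ G)) (ψ : ι' → κ → (G' ⟶ F)),
      𝟙 F = ∑ i ∈ t, ∑ a ∈ s i, φ i a ≫ f ≫ ψ i a := by
  haveI : CompactSpace X := QuasiCompact.compactSpace_of_compactSpace p
  haveI : IsLocallyNoetherian X := LocallyOfFiniteType.isLocallyNoetherian p
  haveI : Coh.IsQCoh F := hF.1
  haveI : Coh.IsQCoh G := hG.1
  let b := Module.Free.chooseBasis k K
  obtain ⟨lam, hlam⟩ := (Algebra.linearMap k K).exists_leftInverse_of_injective
    (LinearMap.ker_eq_bot.2 (algebraMap k K).injective)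
  have h1 : lam 1 = 1 := by simpa using LinearMap.congr_fun hlam 1
  let adj := Scheme.Modules.pullbackPushforwardAdjunction (proj p K)
  let P := Scheme.Modules.pushforward (proj p K)
  choose s hs using fun i => exists_decomposition p K G b hF (adj.unit.app F ≫ P.map (u i))
  refine ⟨_, s, fun i a => (adj.unit.app F ≫ P.map (u i)) ≫ retr p K G (b.coord a),
    fun i a => inc p K G' (b a) ≫ P.map (v i) ≫ retr p K F lam, ?_⟩
  haveI : P.Additive := Functor.additive_of_preserves_binary_products P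
  calc 𝟙 F = adj.unit.app F ≫ P.map (𝟙 (bcMod p K F)) ≫ retr p K F lam := by
        rw [CategoryTheory.Functor.map_id]
        exact (unit_retr p K F lam h1).symm.trans (congrArg (adj.unit.app F ≫ ·) (Category.id_comp _).symm)
    _ = ∑ i ∈ t, (adj.unit.app F ≫ P.map (u i)) ≫
          P.map ((Scheme.Modules.pullback (proj p K)).map f) ≫ P.map (v i) ≫ retr p K F lam := by
        rw [h, Functor.map_sum, Preadditive.sum_comp, Preadditive.comp_sum]
        exact Finset.sum_congr rfl fun i _ => by simp only [Functor.map_comp, Category.assoc]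
    _ = _ := by
        refine Finset.sum_congr rfl fun i _ => ?_
        conv_lhs => rw [hs i]
        rw [Preadditive.sum_comp]
        refine Finset.sum_congr rfl fun a _ => ?_
        simp only [Category.assoc]
        refine congrArg (adj.unit.app F ≫ P.map (u i) ≫ retr p K G (b.coord a) ≫ ·) ?_
        rw [← Category.assoc (inc p K G (b a)), inc_natural, Category.assoc]

end Groth.Agent.ASBunKS
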