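import Groth.Agent.ASBunKS.TautCls
import Groth.Agent.FpqcDesc.Basic
import Mathlib.FieldTheory.IsAlgClosed.AlgebraicClosure

/-!
# Splittings over finite Galois extensions and over algebraic closures
-/

set_option autoImplicit false
set_option backward.isDefEq.respectTransparency false
set_option linter.style.haveILetI false
set_option linter.unusedSectionVars false

universe u

open CategoryTheory CategoryTheory.Limits AlgebraicGeometry
open W4c1astiltbs12
open Groth.Agent.BrauerClassLib Groth.Agent.PicProjLib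

noncomputable section

namespace Groth.Agent.ASBunKS

variable {k : Type u} [Field k] {X : Scheme.{u}} {f : X ⟶ Spec (CommRingCat.of k)} {n : ℕ}

theorem isProper_of_splitting {K : Type u} [Field K] [Algebra k K] (e : BrSev.Splitting f K n) : IsProper f := by
  haveI hS : Surjective (Spec.map (CommRingCat.ofHom (algebraMap k K))) := by
    haveI : Nonempty (Spec (CommRingCat.of K) : Scheme.{u}) := inferInstanceAs (Nonempty (PrimeSpectrum K))
    exact ⟨fun y => ⟨Classical.arbitrary _, Subsingleton.elim _ y⟩⟩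
  haveI hF : Flat (Spec.map (CommRingCat.ofHom (algebraMap k K))) :=
    (HasRingHomProperty.Spec_iff (P := @Flat)).2 (RingHom.flat_algebraMap_iff.2 inferInstance)
  haveI := FpqcDesc.isProper_descends.{u}
  have hp : IsProper (CohB1.ProjSpace.toSpec n K) := inferInstance
  have h : IsProper (pullback.snd f (Spec.map (CommRingCat.ofHom (algebraMap k K)))) := by
    show IsProper (BrSev.bcTo f K)
    rw [← e.comm]
    infer_instance
  exact MorphismProperty.of_isPullback_of_descendsAlong (P := @IsProper)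
    (Q := (@Surjective ⊓ @Flat ⊓ @QuasiCompact : MorphismProperty Scheme.{u}))
    (IsPullback.of_hasPullback f (Spec.map (CommRingCat.ofHom (algebraMap k K)))).flip
    ⟨⟨hS, hF⟩, inferInstance⟩ h

variable {A : Type u} [Ring A] [Algebra k A] [Algebra.IsCentral k A] [IsSimpleRing A]

/-- A splitting over an algebraically closed field. -/
theorem nonempty_splitting_closed {m : ℕ} (hA : Module.finrank k A = (m + 1) * (m + 1))
    (hX : BrSev.IsSBOf k A ((m + 1) * (m + 1) - (m + 1)) f) (Ω : Type u) [Field Ω] [Algebra k Ω] [IsAlgClosed Ω] :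
    Nonempty (BrSev.Splitting f Ω m) := by
  haveI : Module.Finite k A := Module.finite_of_finrank_pos (by rw [hA]; positivity)
  obtain ⟨s⟩ := hX
  obtain ⟨r, -, ⟨φ⟩⟩ := CSALib.splits_of_isSepClosed (k := k) (A := A) Ω
  obtain rfl : r = m + 1 := Nat.mul_self_inj.1 ((CSALib.finrank_of_splits φ).symm.trans hA)
  exact SBSplitLib.nonempty_splitting φ s

/-- The type after enlarging the field. -/
theorem isTwPow_emb {K Ω : Type u} [Field K] [Algebra k K] [Field Ω] [Algebra k Ω] (τ : K →ₐ[k] Ω)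
    (eK : BrSev.Splitting f K n) (eΩ : BrSev.Splitting f Ω n) {L : X.Modules} {j : ℤ} {r : ℕ}
    (h : BrSev.IsTwPow eK j r L) : BrSev.IsTwPow eΩ j r L := by
  obtain ⟨φ⟩ := h
  obtain ⟨c⟩ := nonempty_conjugate f eΩ eK τ j
  haveI : (Scheme.Modules.pullback (embMap f K Ω τ)).Additive := Functor.additive_of_preserves_binary_products _
  exact ⟨(Scheme.Modules.pullbackCongr (embMap_proj f K Ω τ).symm).app L ≪≫
    ((Scheme.Modules.pullbackComp (embMap f K Ω τ) (proj f K)).app L).symm ≪≫
    (Scheme.Modules.pullback (embMap f K Ω τ)).mapIso φ ≪≫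
    mapPow (Scheme.Modules.pullback (embMap f K Ω τ)) (eK.twist j) r ≪≫ powIso c r⟩

theorem twist_unique (hn : n ≠ 0) {K : Type u} [Field K] [Algebra k K] (e : BrSev.Splitting f K n) {j l : ℤ}
    (φ : e.twist j ≅ e.twist l) : j = l := by
  have hc : e.iso.inv ≫ e.iso.hom = 𝟙 _ := e.iso.inv_hom_id
  let back : ∀ i, (Scheme.Modules.pullback e.iso.inv).obj (e.twist i) ≅ Twist.twistProjSpace n K i := fun i =>
    (Scheme.Modules.pullbackComp e.iso.inv e.iso.hom).app _ ≪≫ (Scheme.Modules.pullbackCongr hc).app _ ≪≫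
      (Scheme.Modules.pullbackId _).app _
  exact twist_injective hn K ((back j).symm ≪≫ (Scheme.Modules.pullback e.iso.inv).mapIso φ ≪≫ back l)

/-- The degrees of invertible modules are the multiples of the period. -/
theorem exists_invertible_type_iff {n' : ℕ} (hn : 0 < n') (hA : Module.finrank k A = n' * n')
    (hX : BrSev.IsSBOf k A (n' * n' - n') f) {d : ℕ} (hd : CSAGal.IsPeriod k A d)
    {K : Type u} [Field K] [Algebra k K] [FiniteDimensional k K] [IsGalois k K]
    (e : BrSev.Splitting f K (n' - 1)) (j : ℤ) :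
    (∃ L : X.Modules, PicF.IsInvertible L ∧ BrSev.IsTwPow e j 1 L) ↔ (d : ℤ) ∣ j := by
  obtain ⟨m, rfl⟩ : ∃ m, n' = m + 1 := ⟨n' - 1, by omega⟩
  haveI : Module.Finite k A := Module.finite_of_finrank_pos (by rw [hA]; positivity)
  haveI := isProper_of_splitting e
  haveI : IsLocallyNoetherian X := LocallyOfFiniteType.isLocallyNoetherian f
  let Ω := AlgebraicClosure k
  let τ : K →ₐ[k] Ω := IsAlgClosed.lift
  obtain ⟨eΩ⟩ := nonempty_splitting_closed hA hX Ω
  have hord := (isPeriod_iff A d).1 hd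
  constructor
  · rintro ⟨L, hL, hLt⟩
    rcases eq_or_ne m 0 with rfl | hm
    · have h1 : cls (k := k) A = 1 := cls_eq_one_of_finrank (by simpa using hA)
      rw [h1, orderOf_one] at hord
      rw [← hord.2]
      exact one_dvd _
    have hflf := CurveLib.isFinLocFree_of_isInvertible hL
    have hLΩ : BrSev.IsTwPow eΩ j 1 L := isTwPow_emb τ e eΩ hLt
    haveI : IsIntegral (W4bk4gw11416.baseChange f Ω) := isIntegral_bcK f eΩ
    have hi : Indec L := by
      refine ⟨fun h => ?_, fun M₁ M₂ ⟨ψ⟩ => ?_⟩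
      · obtain ⟨φ⟩ := hLΩ
        exact (indec_twistK f eΩ j).2.1 ((((Scheme.Modules.pullback (proj f Ω)).map_isZero h).of_iso φ.symm).of_iso
          (coproductUniqueIso fun _ : Fin 1 => eΩ.twist j).symm)
      · haveI : Coh.IsQCoh L := (PullbackMod.isQCoh_and_isFP_of_isFinLocFree _ hflf).1
        obtain ⟨hc₁, hc₂⟩ := isCoh_biprod_left (DCohLib.isCoh_of_isFinLocFree hflf) ψ
        obtain ⟨φ⟩ := hLΩ
        haveI : PreservesBinaryBiproducts (Scheme.Modules.pullback (proj f Ω)) := by
          haveI : (Scheme.Modules.pullback (proj f Ω)).Additive := Functor.additive_of_preserves_binary_products _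
          exact preservesBinaryBiproducts_of_preservesBiproducts _
        have hz : ∀ M : X.Modules, Coh.IsCoh M → IsZero (bcMod f Ω M) → IsZero M := fun M hM hMz => by
          haveI := hM.1
          exact (IsZero.iff_id_eq_zero M).2 (bc_faithful f Ω (𝟙 M) (hMz.eq_of_src _ _))
        rcases (indec_twistK f eΩ j).2.2 (bcMod f Ω M₁) (bcMod f Ω M₂)
          ⟨(φ ≪≫ coproductUniqueIso fun _ : Fin 1 => eΩ.twist j).symm ≪≫
            (Scheme.Modules.pullback (proj f Ω)).mapIso ψ ≪≫ (Scheme.Modules.pullback (proj f Ω)).mapBiprod M₁ M₂⟩ with h | h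
        · exact Or.inl (hz _ hc₁ h)
        · exact Or.inr (hz _ hc₂ h)
    have hI := isIndex_tpow (Nat.succ_pos m) hA hX eΩ hflf hi one_pos hLΩ
    obtain ⟨h1, h2⟩ := csa_pi_fin (k := k) fun _ : Fin j.natAbs => A
    obtain ⟨D, _, _, _, _, hD, hc⟩ := cls_of_isIndex hI
    have h := hc.trans (deg_eq_one_of_dvd hD rfl)
    rw [cls_tpow] at h
    have := orderOf_dvd_of_pow_eq_one h
    rw [hord.2] at this
    exact Int.natCast_dvd.2 this
  · intro hdj
    obtain ⟨W, r, hW, hWi, hr, hWt⟩ := exists_type_of_separable f eΩ e j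
    obtain ⟨h1, h2⟩ := csa_pi_fin (k := k) fun _ : Fin j.natAbs => A
    obtain ⟨c, hc⟩ := Int.natCast_dvd.1 hdj
    have hr1 : r = 1 := isIndex_eq_one (isIndex_tpow (Nat.succ_pos m) hA hX eΩ hW hWi hr hWt) (by
      rw [cls_tpow, hc, pow_mul, (splits_tpow_iff A d).1 hd.2.1, one_pow])
    subst hr1
    have hinv := isInvertible_of_type eΩ hW hWt
    refine ⟨W, hinv, ?_⟩
    obtain ⟨l, ⟨φ⟩⟩ := exists_twist_iso f e (PicLoc.isInvertible_pullback (proj f K) hinv)
    have hWK : BrSev.IsTwPow e l 1 W := ⟨φ ≪≫ (coproductUniqueIso fun _ : Fin 1 => e.twist l).symm⟩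
    rcases eq_or_ne m 0 with rfl | hm
    · obtain ⟨α⟩ := nonempty_twist_zero_dim e e l j
      obtain ⟨ψ⟩ := hWK
      exact ⟨ψ ≪≫ powIso α 1⟩
    obtain ⟨a⟩ := isTwPow_emb τ e eΩ hWK
    obtain ⟨b⟩ := hWt
    obtain rfl : l = j := twist_unique hm eΩ ((coproductUniqueIso fun _ : Fin 1 => eΩ.twist l).symm ≪≫ a.symm ≪≫ b ≪≫
      coproductUniqueIso fun _ : Fin 1 => eΩ.twist j)
    exact hWK

end Groth.Agent.ASBunKS
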