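import Groth.Agent.ASBunKS.Simple

/-!
# Endomorphism algebras and extension of the ground field
-/

set_option autoImplicit false
set_option backward.isDefEq.respectTransparency false
set_option linter.style.haveILetI false
set_option linter.unusedSectionVars false

universe u

open CategoryTheory CategoryTheory.Limits AlgebraicGeometry TopologicalSpace Opposite
open W4c1astiltbs12
open Groth.Agent.VBLib Groth.Agent.PullbackMod Groth.Agent.BCLib
open scoped TensorProduct

noncomputable section

namespace Groth.Agent.ASBunKS

variable {k : Type u} [Field k] {X : Scheme.{u}} (p : X ⟶ Spec (CommRingCat.of k))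

/-- A constant as an endomorphism. -/
def cE (M : X.Modules) (c : k) : End M := FactorOne.mulEnd M (Coh.toGlobal (A := k) p c)

theorem cE_one (M : X.Modules) : cE p M 1 = 1 :=
  letI : X.Over (Spec (CommRingCat.of k)) := ⟨p⟩
  cst_one k M

theorem cE_mul (M : X.Modules) (a b : k) : cE p M (a * b) = cE p M a * cE p M b :=
  letI : X.Over (Spec (CommRingCat.of k)) := ⟨p⟩
  cst_mul k M a b

theorem cE_zero (M : X.Modules) : cE p M 0 = 0 :=
  letI : X.Over (Spec (CommRingCat.of k)) := ⟨p⟩
  cst_zero k M

theorem cE_add (M : X.Modules) (a b : k) : cE p M (a + b) = cE p M a + cE p M b :=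
  letI : X.Over (Spec (CommRingCat.of k)) := ⟨p⟩
  cst_add k M a b

theorem cE_natural {M N : X.Modules} (f : M ⟶ N) (c : k) :
    (cE p M c : M ⟶ M) ≫ f = f ≫ (cE p N c : N ⟶ N) :=
  letI : X.Over (Spec (CommRingCat.of k)) := ⟨p⟩
  cst_natural k f c

/-- The constants as a homomorphism of rings. -/
def cEHom (M : X.Modules) : k →+* End M where
  toFun := cE p M
  map_one' := cE_one p M
  map_mul' := cE_mul p M
  map_zero' := cE_zero p M
  map_add' := cE_add p M

/-- The endomorphisms as an algebra over the ground field. -/
@[reducible] def endAlg (M : X.Modules) : Algebra k (End M) :=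
  (cEHom p M).toAlgebra' fun c f => (cE_natural p (f : M ⟶ M) c).symm

theorem finite_endAlg [IsProper p] {M : X.Modules} (hM : Coh.IsCoh M) :
    letI := endAlg p M
    Module.Finite k (End M) := by
  letI : X.Over (Spec (CommRingCat.of k)) := ⟨p⟩
  letI := linMod k (X := X)
  have h := finite_end k p hM
  letI := endAlg p M
  let e : (M ⟶ M) ≃ₗ[k] End M :=
    { toFun := fun f => f
      invFun := fun f => f
      left_inv := fun _ => rfl
      right_inv := fun _ => rfl
      map_add' := fun _ _ => rfl
      map_smul' := fun c f => by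
        rw [RingHom.id_apply, Algebra.smul_def]
        rfl }
  exact Module.Finite.equiv e

variable (K : Type u) [Field K] [Algebra k K]

theorem pu_ck (M : X.Modules) (W : X.Opens) (r : k) (m : Γ(M, W)) :
    pu p K M W (ck p W r • m) = cK p K W (algebraMap k K r) • pu p K M W m := by
  rw [← app_ck, Scheme.Hom.app_eq_appLE]
  exact pullMap_smul _ _ _ _ m

theorem cE_app (M : X.Modules) (W : X.Opens) (r : k) (m : Γ(M, W)) :
    (cE p M r : M ⟶ M).app W m = ck p W r • m := by
  rw [cE, FactorOne.mulEnd_app]
  rfl

theorem inc_comp_retr (M : X.Modules) [Coh.IsQCoh M] (c : K) (lam : K →ₗ[k] k) :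
    inc p K M c ≫ retr p K M lam = (cE p M (lam c) : M ⟶ M) := by
  refine KoszShLib.hom_ext_affine _ _ fun W m => ?_
  show (retr p K M lam).app W.1 ((inc p K M c).app W.1 m) = _
  rw [retr_app p K M lam W.2, inc_app, coordSec_gen, cE_app]

/-- The base change of endomorphisms. -/
def bcEnd (M : X.Modules) : End M →+* End (bcMod p K M) where
  toFun f := (Scheme.Modules.pullback (proj p K)).map f
  map_one' := (Scheme.Modules.pullback (proj p K)).map_id M
  map_mul' f g := (Scheme.Modules.pullback (proj p K)).map_comp g f
  map_zero' := (Scheme.Modules.pullback (proj p K)).map_zero M M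
  map_add' f g := by
    haveI : (Scheme.Modules.pullback (proj p K)).Additive := Functor.additive_of_preserves_binary_products _
    exact (Scheme.Modules.pullback (proj p K)).map_add

theorem unit_bc (M : X.Modules) [Coh.IsQCoh M] (f : End M) (c : K) :
    (Scheme.Modules.pullbackPushforwardAdjunction (proj p K)).unit.app M ≫
        (Scheme.Modules.pushforward (proj p K)).map
          ((bcEnd p K M f : bcMod p K M ⟶ bcMod p K M) ≫ (cE (snd p K) (bcMod p K M) c : bcMod p K M ⟶ bcMod p K M)) =
      (f : M ⟶ M) ≫ inc p K M c := by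
  rw [Functor.map_comp, ← Category.assoc]
  refine (congrArg (· ≫ _) ((Scheme.Modules.pullbackPushforwardAdjunction (proj p K)).unit.naturality f).symm).trans ?_
  exact Category.assoc _ _ _

theorem bcEnd_cE (M : X.Modules) [Coh.IsQCoh M] (r : k) :
    bcEnd p K M (cE p M r) = cE (snd p K) (bcMod p K M) (algebraMap k K r) := by
  refine ((Scheme.Modules.pullbackPushforwardAdjunction (proj p K)).homEquiv M (bcMod p K M)).injective ?_
  rw [Adjunction.homEquiv_unit, Adjunction.homEquiv_unit]
  have h1 := unit_bc p K M (cE p M r) 1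
  rw [cE_one, show ((1 : End (bcMod p K M)) : bcMod p K M ⟶ bcMod p K M) = 𝟙 _ from rfl, Category.comp_id] at h1
  refine h1.trans ?_
  refine KoszShLib.hom_ext_affine _ _ fun W m => ?_
  show (inc p K M 1).app W.1 ((cE p M r : M ⟶ M).app W.1 m) =
    (cE (snd p K) (bcMod p K M) (algebraMap k K r) : bcMod p K M ⟶ bcMod p K M).app (proj p K ⁻¹ᵁ W.1)
      (((Scheme.Modules.pullbackPushforwardAdjunction (proj p K)).unit.app M).app W.1 m)
  rw [inc_app, cE_app, pu_ck, cK_one, one_smul, cE, FactorOne.mulEnd_app, unit_app]
  rfl

section Bij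

variable (M : X.Modules) [Coh.IsQCoh M]

/-- The comparison of endomorphism algebras. -/
def endBC :
    letI := endAlg p M
    letI := endAlg (snd p K) (bcMod p K M)
    K ⊗[k] End M →ₐ[K] End (bcMod p K M) :=
  letI := endAlg p M
  letI := endAlg (snd p K) (bcMod p K M)
  letI : Algebra k (End (bcMod p K M)) := Algebra.compHom _ (algebraMap k K)
  haveI : IsScalarTower k K (End (bcMod p K M)) := IsScalarTower.of_algebraMap_eq' rfl
  let φ : End M →ₐ[k] End (bcMod p K M) := AlgHom.mk (bcEnd p K M) fun r => bcEnd_cE p K M r
  Algebra.TensorProduct.lift (Algebra.ofId K _) φ fun c f => Algebra.commutes c _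

theorem endBC_tmul (c : K) (f : End M) :
    letI := endAlg p M
    letI := endAlg (snd p K) (bcMod p K M)
    endBC p K M (c ⊗ₜ[k] f) = cE (snd p K) (bcMod p K M) c * bcEnd p K M f := by
  letI := endAlg p M
  letI := endAlg (snd p K) (bcMod p K M)
  letI : Algebra k (End (bcMod p K M)) := Algebra.compHom _ (algebraMap k K)
  haveI : IsScalarTower k K (End (bcMod p K M)) := IsScalarTower.of_algebraMap_eq' rfl
  exact Algebra.TensorProduct.lift_tmul (Algebra.ofId K (End (bcMod p K M))) _ (fun c f => Algebra.commutes c _) c f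

theorem unit_endBC_tmul (c : K) (f : End M) :
    letI := endAlg p M
    letI := endAlg (snd p K) (bcMod p K M)
    (Scheme.Modules.pullbackPushforwardAdjunction (proj p K)).homEquiv M (bcMod p K M) (endBC p K M (c ⊗ₜ[k] f)) =
      (f : M ⟶ M) ≫ inc p K M c := by
  letI := endAlg p M
  letI := endAlg (snd p K) (bcMod p K M)
  rw [endBC_tmul, Adjunction.homEquiv_unit]
  exact unit_bc p K M f c

theorem bijective_endBC [IsProper p] (hM : Coh.IsCoh M) :
    letI := endAlg p M
    letI := endAlg (snd p K) (bcMod p K M)
    Function.Bijective (endBC p K M) := by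
  classical
  letI := endAlg p M
  letI := endAlg (snd p K) (bcMod p K M)
  haveI : CompactSpace X := QuasiCompact.compactSpace_of_compactSpace p
  haveI : IsLocallyNoetherian X := LocallyOfFiniteType.isLocallyNoetherian p
  let adj := Scheme.Modules.pullbackPushforwardAdjunction (proj p K)
  let P := Scheme.Modules.pushforward (proj p K)
  haveI : P.Additive := Functor.additive_of_preserves_binary_products P
  let H : End (bcMod p K M) →+ (M ⟶ pushBC p K M) :=
    { toFun := fun u => adj.unit.app M ≫ P.map u
      map_zero' := by simp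
      map_add' := fun u v => by
        show adj.unit.app M ≫ P.map (u + v) = _
        rw [Functor.map_add, Preadditive.comp_add] }
  have hH : ∀ u, H u = adj.homEquiv M (bcMod p K M) u := fun u => (Adjunction.homEquiv_unit adj M _ u).symm
  have hHinj : Function.Injective H := fun u v h => (adj.homEquiv M (bcMod p K M)).injective (by rw [← hH, ← hH, h])
  let b := Module.Free.chooseBasis k K
  have hgen : ∀ (c : K) (f : End M), H (endBC p K M (c ⊗ₜ[k] f)) = (f : M ⟶ M) ≫ inc p K M c := fun c f => by
    rw [hH]; exact unit_endBC_tmul p K M c f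
  refine ⟨(injective_iff_map_eq_zero _).2 fun z hz => ?_, fun u => ?_⟩
  · obtain ⟨s, rfl⟩ := TensorProduct.eq_repr_basis_left b z
    have h1 : ∑ i ∈ s.support, (s i : M ⟶ M) ≫ inc p K M (b i) = 0 := by
      rw [← map_zero H, ← hz, Finsupp.sum, map_sum, map_sum]
      exact Finset.sum_congr rfl fun i _ => (hgen _ _).symm
    suffices hs : ∀ j, s j = 0 by simp [Finsupp.sum, hs]
    intro j
    by_contra hj
    have h2 := congrArg (· ≫ retr p K M (b.coord j)) h1
    rw [Preadditive.sum_comp, zero_comp, Finset.sum_eq_single j] at h2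
    · rw [Category.assoc, inc_comp_retr, show b.coord j (b j) = 1 by simp, cE_one] at h2
      exact hj ((Category.comp_id _).symm.trans h2)
    · intro i _ hi
      rw [Category.assoc, inc_comp_retr, show b.coord j (b i) = 0 by simp [Finsupp.single_eq_of_ne (Ne.symm hi)],
        cE_zero]
      exact comp_zero
    · intro h; exact absurd (Finsupp.mem_support_iff.2 hj) h
  · obtain ⟨s, hs⟩ := exists_decomposition p K M b hM (H u)
    refine ⟨∑ i ∈ s, b i ⊗ₜ[k] (show End M from H u ≫ retr p K M (b.coord i)), hHinj ?_⟩
    rw [map_sum, map_sum]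
    conv_rhs => rw [hs]
    refine Finset.sum_congr rfl fun i _ => ?_
    rw [hgen]
    exact Category.assoc _ _ _

end Bij

end Groth.Agent.ASBunKS
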