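import Groth.Agent.ASBunKS.SplitAlg
import Mathlib.RingTheory.LittleWedderburn
import Mathlib.RingTheory.Artinian.Ring
import Mathlib.FieldTheory.Finite.GaloisField
import Mathlib.FieldTheory.PrimitiveElement

/-!
# Finite local algebras over a finite field
-/

set_option autoImplicit false
set_option linter.style.haveILetI false

universe u v

open scoped TensorProduct
open Polynomial

noncomputable section

namespace Groth.Agent.ASBunKS

section Residue

variable {k : Type u} [Field k] [Finite k] {A : Type v} [Ring A] [Algebra k A] [Module.Finite k A] [IsLocalRing A]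

theorem mem_jacobson_iff [Finite A] {a : A} : a ∈ Ring.jacobson A ↔ ¬ IsUnit a := by
  refine ⟨fun ha hu => ?_, fun ha => ?_⟩
  · obtain ⟨n, hn⟩ := IsSemiprimaryRing.isNilpotent (R := A)
    have htop : Ring.jacobson A = ⊤ := Ideal.eq_top_of_isUnit_mem _ ha hu
    have h1 : (1 : A) ^ n ∈ Ring.jacobson A ^ n := Ideal.pow_mem_pow (htop ▸ Submodule.mem_top) n
    rw [hn, one_pow] at h1
    exact one_ne_zero ((Submodule.mem_bot A).1 h1)
  · rw [Ring.jacobson, Module.jacobson, Submodule.mem_sInf]
    intro m hm
    by_contra ham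
    have htop : m ⊔ Ideal.span {a} = ⊤ := hm.2 _ (lt_of_le_of_ne le_sup_left fun h => ham (by
      rw [h]; exact Submodule.mem_sup_right (Ideal.mem_span_singleton_self a)))
    have h1 : (1 : A) ∈ m ⊔ Ideal.span {a} := htop ▸ Submodule.mem_top
    obtain ⟨b, hb, c, hc, hbc⟩ := Submodule.mem_sup.1 h1
    obtain ⟨r, rfl⟩ := Ideal.mem_span_singleton'.1 hc
    rcases IsLocalRing.isUnit_or_isUnit_of_add_one hbc with h | h
    · exact hm.1 (Ideal.eq_top_of_isUnit_mem _ hb h)
    · obtain ⟨u, hu⟩ := h
      have h2 : (↑u⁻¹ * r) * a = 1 := by rw [mul_assoc, ← hu, Units.inv_mul]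
      exact ha (IsUnit.of_mul_eq_one_right _ h2)

variable (k A) in
/-- The residue field of a finite local algebra over a finite field. -/
theorem exists_residue : ∃ (F : Type v) (_ : Field F) (_ : Algebra k F) (π : A →ₐ[k] F),
    Function.Surjective π ∧ Module.Finite k F ∧ ∃ n, RingHom.ker π ^ n = ⊥ := by
  classical
  haveI : Finite A := Module.finite_of_finite k
  let J := Ring.jacobson A
  haveI : Nontrivial (A ⧸ J) := Ideal.Quotient.nontrivial_iff.2 fun h =>
    mem_jacobson_iff.1 (show (1 : A) ∈ J from h ▸ Submodule.mem_top) isUnit_one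
  haveI : NoZeroDivisors (A ⧸ J) := ⟨fun {x y} hxy => by
    obtain ⟨a, rfl⟩ := Ideal.Quotient.mk_surjective x
    obtain ⟨b, rfl⟩ := Ideal.Quotient.mk_surjective y
    rw [Ideal.Quotient.eq_zero_iff_mem, Ideal.Quotient.eq_zero_iff_mem]
    by_contra! h
    rw [← map_mul, Ideal.Quotient.eq_zero_iff_mem] at hxy
    exact mem_jacobson_iff.1 hxy ((not_not.1 (mt mem_jacobson_iff.2 h.1)).mul (not_not.1 (mt mem_jacobson_iff.2 h.2)))⟩
  haveI : IsDomain (A ⧸ J) := NoZeroDivisors.to_isDomain _
  haveI : Finite (A ⧸ J) := Finite.of_surjective _ Ideal.Quotient.mk_surjective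
  letI := (Finite.isDomain_to_isField (A ⧸ J)).toField
  refine ⟨A ⧸ J, inferInstance, inferInstance, Ideal.Quotient.mkₐ k J, Ideal.Quotient.mkₐ_surjective k J,
    Module.Finite.of_finite, ?_⟩
  obtain ⟨n, hn⟩ := IsSemiprimaryRing.isNilpotent (R := A)
  refine ⟨n, ?_⟩
  rw [show RingHom.ker (Ideal.Quotient.mkₐ k J) = J from Ideal.ext fun x => Ideal.Quotient.eq_zero_iff_mem]
  exact hn

end Residue

section Idem

variable {k : Type u} [Field k] {A : Type v} [Ring A] [Algebra k A] [Nontrivial A] (K : Type u) [Field K] [Algebra k K]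

/-- If the residue algebra is the ground field, base change has only trivial idempotents. -/
theorem idem_trivial (J : Ideal A) [J.IsTwoSided] {n : ℕ} (hn : J ^ n = ⊥)
    (hdec : ∀ a : A, ∃ c : k, a - algebraMap k A c ∈ J) {e : K ⊗[k] A} (he : e * e = e) : e = 0 ∨ e = 1 := by
  let S : ℕ → Submodule K (K ⊗[k] A) := fun m => Submodule.span K ((fun j => (1 : K) ⊗ₜ[k] j) '' (J ^ m : Ideal A))
  have hS : ∀ z ∈ S 1, ∀ m, ∀ w ∈ S m, z * w ∈ S (m + 1) := by
    intro z hz m w hw
    induction hz using Submodule.span_induction with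
    | mem x hx =>
      obtain ⟨j, hj, rfl⟩ := hx
      induction hw using Submodule.span_induction with
      | mem y hy =>
        obtain ⟨l, hl, rfl⟩ := hy
        refine Submodule.subset_span ⟨j * l, ?_, by simp [Algebra.TensorProduct.tmul_mul_tmul]⟩
        rw [Ideal.IsTwoSided.pow_succ]
        refine Ideal.mul_mem_mul ?_ hl
        rwa [SetLike.mem_coe, Submodule.pow_one] at hj
      | zero => rw [mul_zero]; exact zero_mem _
      | add a b _ _ ha hb => rw [mul_add]; exact add_mem ha hb
      | smul c a _ ha => rw [mul_smul_comm]; exact Submodule.smul_mem _ c ha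
    | zero => rw [zero_mul]; exact zero_mem _
    | add a b _ _ ha hb => rw [add_mul]; exact add_mem ha hb
    | smul c a _ ha => rw [smul_mul_assoc]; exact Submodule.smul_mem _ c ha
  have hSn : ∀ z, z ∈ S n → z = 0 := fun z hz => by
    have : S n = ⊥ := Submodule.span_eq_bot.2 fun x ⟨j, hj, hjx⟩ => by
      rw [hn] at hj
      rw [← hjx, (Submodule.mem_bot A).1 hj]
      exact TensorProduct.tmul_zero _ _
    rwa [this, Submodule.mem_bot] at hz
  have hpow : ∀ z ∈ S 1, ∀ m, z ^ (m + 1) ∈ S (m + 1) := fun z hz m => by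
    induction m with
    | zero => simpa using hz
    | succ m ih => rw [pow_succ']; exact hS z hz _ _ ih
  have hn0 : n ≠ 0 := fun h => by
    subst h
    rw [Submodule.pow_zero, Ideal.one_eq_top] at hn
    exact (top_ne_bot : (⊤ : Ideal A) ≠ ⊥) hn
  obtain ⟨m, rfl⟩ := Nat.exists_eq_succ_of_ne_zero hn0
  have hidem : ∀ z ∈ S 1, z * z = z → z = 0 := fun z hz h2 => by
    refine hSn z ?_
    have h3 : ∀ i, z ^ (i + 1) = z := fun i => by
      induction i with
      | zero => simp
      | succ i ih => rw [pow_succ, ih, h2]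
    rw [← h3 m]
    exact hpow z hz m
  have hsplit : ∀ z : K ⊗[k] A, ∃ c : K, z - algebraMap K (K ⊗[k] A) c ∈ S 1 := fun z => by
    induction z using TensorProduct.induction_on with
    | zero => exact ⟨0, by simp⟩
    | tmul c a =>
      obtain ⟨d, hd⟩ := hdec a
      refine ⟨c * algebraMap k K d, ?_⟩
      have : c ⊗ₜ[k] a - algebraMap K (K ⊗[k] A) (c * algebraMap k K d) = c • ((1 : K) ⊗ₜ[k] (a - algebraMap k A d)) := by
        rw [Algebra.TensorProduct.algebraMap_apply, TensorProduct.smul_tmul', smul_eq_mul, mul_one, TensorProduct.tmul_sub,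
          Algebra.algebraMap_eq_smul_one (A := A), TensorProduct.tmul_smul, TensorProduct.smul_tmul', Algebra.smul_def,
          mul_comm c]
        rfl
      rw [this]
      exact Submodule.smul_mem _ _ (Submodule.subset_span ⟨_, by rw [SetLike.mem_coe, Submodule.pow_one]; exact hd, rfl⟩)
    | add a b ha hb =>
      obtain ⟨c, hc⟩ := ha
      obtain ⟨d, hd⟩ := hb
      exact ⟨c + d, by rw [map_add, add_sub_add_comm]; exact add_mem hc hd⟩
  obtain ⟨c, hc⟩ := hsplit e
  set s := e - algebraMap K (K ⊗[k] A) c with hs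
  have hcc : c * c - c = 0 := by
    by_contra hne
    have h4 : algebraMap K (K ⊗[k] A) (c * c - c) ∈ S 1 := by
      have : algebraMap K (K ⊗[k] A) (c * c - c) = s - s * s - (2 * c) • s := by
        rw [Algebra.smul_def, map_sub, map_mul, map_mul, map_ofNat, hs]
        have hcm : e * algebraMap K (K ⊗[k] A) c = algebraMap K (K ⊗[k] A) c * e := (Algebra.commutes c e).symm
        simp only [sub_mul, mul_sub, he, hcm, mul_assoc, two_mul]
        noncomm_ring
      rw [this]
      refine sub_mem (sub_mem hc ?_) (Submodule.smul_mem _ _ hc)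
      have h5 : ∀ w ∈ S 2, w ∈ S 1 := fun w hw => by
        refine Submodule.span_mono (Set.image_mono ?_) hw
        exact Ideal.pow_le_pow_right one_le_two
      exact h5 _ (hS s hc 1 s hc)
    have h1 : (1 : K ⊗[k] A) ∈ S 1 := by
      have := Submodule.smul_mem (S 1) (c * c - c)⁻¹ h4
      rwa [Algebra.smul_def, ← map_mul, inv_mul_cancel₀ hne, map_one] at this
    exact one_ne_zero (hidem 1 h1 (one_mul 1))
  rcases mul_eq_zero.1 (show c * (c - 1) = 0 by rw [mul_sub, mul_one, hcc]) with h | h
  · left
    exact hidem e (by simpa [hs, h] using hc) he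
  · right
    rw [sub_eq_zero] at h
    have h6 : 1 - e ∈ S 1 := by
      rw [← neg_sub e 1]
      exact neg_mem (by simpa [hs, h, Algebra.TensorProduct.one_def] using hc)
    refine (sub_eq_zero.1 (hidem (1 - e) h6 ?_)).symm
    rw [sub_mul, one_mul, mul_sub, mul_one, he, sub_self, sub_zero]

end Idem

section Lift

variable {k : Type u} [Field k] [Finite k] {A : Type v} [Ring A] [Algebra k A] {K : Type u} [Field K] [Algebra k K]
  [Module.Finite k K]

/-- Finite field extensions lift through surjections with nilpotent kernel. -/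
theorem exists_section (π : A →ₐ[k] K) (hπ : Function.Surjective π) (hnil : ∀ a, π a = 0 → IsNilpotent a) :
    ∃ τ : K →ₐ[k] A, ∀ x, π (τ x) = x := by
  classical
  haveI : Finite K := Module.finite_of_finite k
  haveI : Fintype k := Fintype.ofFinite k
  haveI : Fintype K := Fintype.ofFinite K
  let pb := Field.powerBasisOfFiniteOfSeparable k K
  obtain ⟨x, hx⟩ := hπ pb.gen
  obtain ⟨p, hp⟩ := CharP.exists K
  haveI := hp
  haveI : CharP k p := (RingHom.charP_iff _ (algebraMap k K).injective p).2 hp
  haveI : Nontrivial A := π.toRingHom.domain_nontrivial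
  haveI : CharP A p := charP_of_injective_algebraMap (algebraMap k A).injective p
  obtain ⟨f, hpp, hcard⟩ := FiniteField.card K p
  haveI : Fact p.Prime := ⟨hpp⟩
  haveI : ExpChar A p := ExpChar.prime hpp
  obtain ⟨N, hN⟩ := hnil (x ^ Fintype.card K - x) (by rw [map_sub, map_pow, hx, FiniteField.pow_card, sub_self])
  let y := x ^ (Fintype.card K ^ N)
  have hy : y ^ Fintype.card K = y := by
    show (x ^ (Fintype.card K ^ N)) ^ Fintype.card K = x ^ (Fintype.card K ^ N)
    rw [← pow_mul, mul_comm, pow_mul]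
    conv_lhs => rw [show x ^ Fintype.card K = x + (x ^ Fintype.card K - x) from (add_sub_cancel x _).symm]
    rw [show Fintype.card K ^ N = p ^ ((f : ℕ) * N) by rw [hcard, ← pow_mul],
      add_pow_char_pow_of_commute (p := p) (h := (Commute.pow_self x _).symm.sub_right (Commute.refl x))]
    rw [pow_eq_zero_of_le ?_ hN, add_zero]
    exact le_of_lt (lt_of_le_of_lt (Nat.le_mul_of_pos_left N f.pos) (Nat.lt_pow_self hpp.one_lt))
  have hyg : π y = pb.gen := by
    rw [map_pow, hx, FiniteField.pow_card_pow]
  have hexp : ∀ (g : k[X]) (i : ℕ), g ^ (Fintype.card k ^ i) = expand k (Fintype.card k ^ i) g := fun g i => by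
    induction i with
    | zero => simp
    | succ i ih => rw [pow_succ, pow_mul, ih, ← FiniteField.expand_card, expand_expand, mul_comm]
  have hz : aeval y (minpoly k pb.gen) ^ Fintype.card K = aeval y (minpoly k pb.gen) := by
    rw [← map_pow, Module.card_eq_pow_finrank (K := k) (V := K), hexp, expand_aeval,
      ← Module.card_eq_pow_finrank (K := k) (V := K), hy]
  have hzero : aeval y (minpoly k pb.gen) = 0 := by
    obtain ⟨M, hM⟩ := hnil (aeval y (minpoly k pb.gen)) (by rw [← aeval_algHom_apply, hyg, minpoly.aeval])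
    have hpm : ∀ i, aeval y (minpoly k pb.gen) ^ (Fintype.card K ^ i) = aeval y (minpoly k pb.gen) := fun i => by
      induction i with
      | zero => simp
      | succ i ih => rw [pow_succ, pow_mul, ih, hz]
    rw [← hpm M]
    exact pow_eq_zero_of_le (Nat.lt_pow_self Fintype.one_lt_card).le hM
  refine ⟨pb.lift y hzero, fun a => ?_⟩
  have h : π.comp (pb.lift y hzero) = AlgHom.id k K := pb.algHom_ext (by simp [hyg])
  exact DFunLike.congr_fun h a

end Lift

section Galois

variable (k : Type u) [Field k] (K : Type u) [Field K] [Algebra k K] [FiniteDimensional k K] [IsGalois k K]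

/-- The splitting of a Galois extension by itself. -/
theorem bijective_evS_galois : Function.Bijective (evS fun g : K ≃ₐ[k] K => g.toAlgHom) := by
  classical
  have hcard : Fintype.card (K ≃ₐ[k] K) = Module.finrank k K := by
    rw [Fintype.card_eq_nat_card]; exact IsGalois.card_aut_eq_finrank k K
  let ev := evS fun g : K ≃ₐ[k] K => g.toAlgHom
  let ev' : K ⊗[k] K →ₗ[K] ((K ≃ₐ[k] K) → K) :=
    { toFun := ev
      map_add' := map_add _
      map_smul' := fun c z => by
        induction z using TensorProduct.induction_on with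
        | zero => simp
        | tmul d x => ext i; simp [ev, TensorProduct.smul_tmul', evS_tmul, mul_assoc]
        | add a a' ha ha' => rw [smul_add, map_add, map_add, ha, ha', smul_add] }
  haveI : Module.Finite K (K ⊗[k] K) := Module.Finite.base_change k K K
  have hdim : Module.finrank K (K ⊗[k] K) = Module.finrank K ((K ≃ₐ[k] K) → K) := by
    rw [Module.finrank_baseChange, Module.finrank_fintype_fun_eq_card, hcard]
  suffices h : Function.Surjective ev' from
    ⟨(LinearMap.injective_iff_surjective_of_finrank_eq_finrank hdim).2 h, h⟩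
  rw [← LinearMap.range_eq_top]
  by_contra hne
  obtain ⟨f, hf, hle⟩ := Submodule.exists_dual_map_eq_bot_of_lt_top (lt_top_iff_ne_top.2 hne) inferInstance
  have hli : LinearIndependent K fun g : K ≃ₐ[k] K => (g.toAlgHom.toLinearMap : K →ₗ[k] K) :=
    (linearIndependent_algHom_toLinearMap k K K).comp _ fun a b h => AlgEquiv.ext fun x =>
      DFunLike.congr_fun (show a.toAlgHom = b.toAlgHom from h) x
  refine hf (LinearMap.pi_ext' fun i => LinearMap.ext_ring ?_)
  refine Fintype.linearIndependent_iff.1 hli (fun i => f (Pi.single i 1)) (LinearMap.ext fun x => ?_) i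
  have h0 : f (ev' (1 ⊗ₜ x)) = 0 :=
    (Submodule.mem_bot K).1 (hle ▸ Submodule.mem_map_of_mem (LinearMap.mem_range_self ev' (1 ⊗ₜ x)))
  rw [show ev' (1 ⊗ₜ x) = ∑ i : K ≃ₐ[k] K, i x • Pi.single i (1 : K) by
    ext j; simp [ev', ev, evS_tmul, Finset.sum_apply, Pi.single_apply], map_sum] at h0
  simpa [mul_comm] using h0

/-- The idempotent of a Galois element. -/
def galIdem (g : K ≃ₐ[k] K) : K ⊗[k] K :=
  letI := Classical.decEq (K ≃ₐ[k] K)
  ((bijective_evS_galois k K).2 (Pi.single g 1)).choose

theorem evS_galIdem [DecidableEq (K ≃ₐ[k] K)] (g : K ≃ₐ[k] K) :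
    evS (fun g : K ≃ₐ[k] K => g.toAlgHom) (galIdem k K g) = Pi.single g 1 := by
  letI d := Classical.decEq (K ≃ₐ[k] K)
  have h := ((bijective_evS_galois k K).2 (Pi.single g 1)).choose_spec
  refine Eq.trans h ?_
  convert rfl

theorem galIdem_mul [DecidableEq (K ≃ₐ[k] K)] (g h : K ≃ₐ[k] K) :
    galIdem k K g * galIdem k K h = if g = h then galIdem k K g else 0 := by
  refine (bijective_evS_galois k K).1 ?_
  rw [map_mul, evS_galIdem, evS_galIdem]
  split_ifs with hgh
  · subst hgh; rw [evS_galIdem]; simp [← Pi.single_mul]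
  · rw [map_zero]; funext j
    rcases eq_or_ne j g with rfl | hj
    · simp [hgh]
    · simp [hj]

theorem galIdem_ne_zero (g : K ≃ₐ[k] K) : galIdem k K g ≠ 0 := fun h => by
  classical
  have := congrFun (evS_galIdem k K g) g
  rw [h, map_zero] at this
  simp at this

theorem sum_galIdem : ∑ g, galIdem k K g = 1 := by
  classical
  refine (bijective_evS_galois k K).1 ?_
  rw [map_sum, map_one]
  simp only [evS_galIdem]
  exact Finset.univ_sum_single (1 : (K ≃ₐ[k] K) → K)

theorem galIdem_smul (g : K ≃ₐ[k] K) (x : K) :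
    (g x ⊗ₜ[k] (1 : K)) * galIdem k K g = ((1 : K) ⊗ₜ[k] x) * galIdem k K g := by
  classical
  refine (bijective_evS_galois k K).1 ?_
  rw [map_mul, map_mul, evS_galIdem]
  funext j
  rcases eq_or_ne j g with rfl | hj
  · simp [evS_tmul]
  · simp [hj]

theorem map_galIdem (g i : K ≃ₐ[k] K) :
    Algebra.TensorProduct.map (AlgHom.id k K) g.toAlgHom (galIdem k K i) = galIdem k K (i * g⁻¹) := by
  classical
  refine (bijective_evS_galois k K).1 ?_
  rw [evS_galIdem]
  funext j
  have : ∀ z, evS (fun g : K ≃ₐ[k] K => g.toAlgHom) (Algebra.TensorProduct.map (AlgHom.id k K) g.toAlgHom z) j =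
      evS (fun g : K ≃ₐ[k] K => g.toAlgHom) z (j * g) := fun z => by
    induction z using TensorProduct.induction_on with
    | zero => simp
    | tmul c x => simp [evS_tmul]
    | add a b ha hb => simp only [map_add, Pi.add_apply, ha, hb]
  rw [this, evS_galIdem, Pi.single_apply, Pi.single_apply]
  simp [eq_mul_inv_iff_mul_eq]

end Galois

section Twist

variable {k : Type u} [Field k] {A : Type v} [Ring A] [Algebra k A] {K : Type u} [Field K] [Algebra k K]
  [FiniteDimensional k K] [IsGalois k K]

/-- A nonzero element of a two-sided ideal has a nonzero twisted component. -/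
theorem exists_twisted (τ : K →ₐ[k] A) (I : Ideal A) [I.IsTwoSided] {a : A} (ha : a ∈ I) (ha0 : a ≠ 0) :
    ∃ (g : K ≃ₐ[k] K) (b : A), b ∈ I ∧ b ≠ 0 ∧ ∀ x, τ (g x) * b = b * τ x := by
  classical
  let Ψ : K ⊗[k] K →ₗ[k] A := TensorProduct.lift
    (LinearMap.mk₂ k (fun x y => τ x * a * τ y) (fun x x' y => by simp only [map_add, add_mul])
      (fun c x y => by simp only [map_smul, smul_mul_assoc]) (fun x y y' => by simp only [map_add, mul_add])
      (fun c x y => by simp only [map_smul, mul_smul_comm]))
  have hΨ : ∀ x y, Ψ (x ⊗ₜ y) = τ x * a * τ y := fun x y => TensorProduct.lift.tmul _ _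
  have hl : ∀ x z, Ψ ((x ⊗ₜ[k] (1 : K)) * z) = τ x * Ψ z := fun x z => by
    induction z using TensorProduct.induction_on with
    | zero => simp
    | tmul c d => simp [hΨ, mul_assoc]
    | add p q hp hq => rw [mul_add, map_add, map_add, hp, hq, mul_add]
  have hr : ∀ x z, Ψ (((1 : K) ⊗ₜ[k] x) * z) = Ψ z * τ x := fun x z => by
    induction z using TensorProduct.induction_on with
    | zero => simp
    | tmul c d =>
      rw [Algebra.TensorProduct.tmul_mul_tmul, one_mul, hΨ, hΨ, mul_comm x d, map_mul, mul_assoc _ (τ d)]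
    | add p q hp hq => rw [mul_add, map_add, map_add, hp, hq, add_mul]
  have hI : ∀ z, Ψ z ∈ I := fun z => by
    induction z using TensorProduct.induction_on with
    | zero => simp
    | tmul c d => rw [hΨ]; exact Ideal.mul_mem_right _ _ (Ideal.mul_mem_left _ _ ha)
    | add p q hp hq => rw [map_add]; exact add_mem hp hq
  have hsum : ∑ g, Ψ (galIdem k K g) = a := by
    rw [← map_sum, sum_galIdem, Algebra.TensorProduct.one_def, hΨ, map_one, one_mul, mul_one]
  obtain ⟨g, -, hg⟩ := Finset.exists_ne_zero_of_sum_ne_zero (hsum.trans_ne ha0)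
  exact ⟨g, Ψ (galIdem k K g), hI _, hg, fun x => by rw [← hl, galIdem_smul, hr]⟩

end Twist

end Groth.Agent.ASBunKS
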