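import Mathlib

/-!
# Base changes of semilinear families along a split algebra
-/

set_option autoImplicit false

universe u v

open TensorProduct

noncomputable section

namespace Groth.Agent.ASBunKS

variable {k E K : Type*} [Field k] [Field E] [Field K] [Algebra k E] [Algebra k K] {ι : Type*} [Fintype ι]
  (σ : ι → E →ₐ[k] K)

/-- Evaluation at the embeddings. -/
def evS : K ⊗[k] E →ₐ[k] (ι → K) :=
  Pi.algHom k (fun _ : ι => K) fun i => Algebra.TensorProduct.lift (AlgHom.id k K) (σ i) fun _ _ => Commute.all _ _

theorem evS_tmul (c : K) (x : E) (i : ι) : evS σ (c ⊗ₜ x) i = c * σ i x := rfl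

/-- The base change of a module along a split algebra is the product of its conjugates. -/
theorem bijective_conjugates (hev : Function.Bijective (evS σ))
    {N S1 : Type*} [AddCommGroup N] [AddCommGroup S1] [Module E N] [Module k N] [IsScalarTower k E N]
    [Module K S1] [Module k S1] [IsScalarTower k K S1] (f1 : N →ₗ[k] S1)
    {S2 : ι → Type*} [∀ i, AddCommGroup (S2 i)] [∀ i, Module K (S2 i)] (f2 : ∀ i, N →+ S2 i)
    (hf2 : ∀ i (x : E) n, f2 i (x • n) = σ i x • f2 i n)
    (hgen1 : ∀ P : S1 → Prop, P 0 → (∀ a b, P a → P b → P (a + b)) → (∀ (c : K) n, P (c • f1 n)) → ∀ x, P x)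
    (hgen2 : ∀ i, ∀ P : S2 i → Prop, P 0 → (∀ a b, P a → P b → P (a + b)) → (∀ (c : K) n, P (c • f2 i n)) → ∀ x, P x)
    (hlift : ∀ i, ∀ b : K →+ N →+ S1, (∀ c (x : E) n, b (c * σ i x) n = b c (x • n)) →
      ∃ H : S2 i →+ S1, ∀ c n, H (c • f2 i n) = b c n)
    (Φ : ∀ i, S1 →+ S2 i) (hΦ : ∀ i (c : K) n, Φ i (c • f1 n) = c • f2 i n) :
    Function.Bijective fun x : S1 => fun i => Φ i x := by
  classical
  -- the orbit map of a vector
  let A : N →+ (K ⊗[k] E →+ S1) :=
    { toFun := fun n => (TensorProduct.lift (LinearMap.mk₂ k (fun (c : K) (x : E) => c • f1 (x • n))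
        (fun a b x => add_smul _ _ _) (fun r a x => smul_assoc r a _)
        (fun a x y => by rw [add_smul, map_add, smul_add])
        (fun r a x => by rw [smul_assoc, map_smul, smul_comm]))).toAddMonoidHom
      map_zero' := by
        ext z
        induction z using TensorProduct.induction_on with
        | zero => simp
        | tmul c x => simp
        | add a b ha hb => simp_all
      map_add' := fun n n' => by
        ext z
        induction z using TensorProduct.induction_on with
        | zero => simp
        | tmul c x => simp [smul_add]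
        | add a b ha hb => simp only [map_add, ha, hb] }
  have hA : ∀ n c (x : E), A n (c ⊗ₜ x) = c • f1 (x • n) := fun n c x => rfl
  have hAmul : ∀ n (x : E) z, A (x • n) z = A n (z * (1 ⊗ₜ x)) := fun n x z => by
    induction z using TensorProduct.induction_on with
    | zero => simp
    | tmul c y => rw [Algebra.TensorProduct.tmul_mul_tmul, mul_one, hA, hA, mul_smul]
    | add a b ha hb => simp only [map_add, add_mul, ha, hb]
  have hAsmul : ∀ n (c : K) z, A n ((c ⊗ₜ 1) * z) = c • A n z := fun n c z => by
    induction z using TensorProduct.induction_on with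
    | zero => simp
    | tmul d y => rw [Algebra.TensorProduct.tmul_mul_tmul, one_mul, hA, hA, mul_smul]
    | add a b ha hb => simp only [map_add, mul_add, smul_add, ha, hb]
  have hev1 : ∀ (c : K) (j : ι), evS σ (c ⊗ₜ[k] (1 : E)) j = c := fun c j => by rw [evS_tmul, map_one, mul_one]
  have hΦA : ∀ j n z, Φ j (A n z) = evS σ z j • f2 j n := fun j n z => by
    induction z using TensorProduct.induction_on with
    | zero => simp
    | tmul c x => rw [hA, hΦ, hf2, evS_tmul, smul_smul]
    | add a b ha hb => simp only [map_add, Pi.add_apply, add_smul, ha, hb]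
  choose ε hε using fun i => hev.2 (Pi.single i 1)
  have hbal : ∀ i c (x : E) n, (c * σ i x) • A n (ε i) = c • A (x • n) (ε i) := fun i c x n => by
    rw [hAmul, mul_smul, ← hAsmul]
    congr 2
    refine hev.1 (funext fun j => ?_)
    rw [map_mul, map_mul, Pi.mul_apply, Pi.mul_apply, hε, hev1, evS_tmul, one_mul]
    rcases eq_or_ne j i with rfl | h
    · rw [Pi.single_eq_same, mul_one, one_mul]
    · rw [Pi.single_eq_of_ne h, mul_zero, zero_mul]
  have hH : ∀ i, ∃ H : S2 i →+ S1, ∀ (c : K) n, H (c • f2 i n) = c • A n (ε i) := fun i =>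
    hlift i { toFun := fun c => { toFun := fun n => c • A n (ε i)
                                  map_zero' := by simp
                                  map_add' := fun n n' => by simp [smul_add] }
              map_zero' := by ext; simp
              map_add' := fun c c' => by ext; simp [add_smul] } fun c x n => hbal i c x n
  choose H hH using hH
  have hinv : ∀ x, ∑ i, H i (Φ i x) = x := hgen1 _ (by simp) (fun a b ha hb => by
      simp only [map_add, Finset.sum_add_distrib, ha, hb]) fun c n => by
    simp only [hΦ, hH, ← Finset.smul_sum, ← map_sum]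
    refine congrArg (c • ·) ?_
    rw [show (∑ i, ε i) = 1 from hev.1 (by
      rw [map_sum, map_one]
      simp only [hε]
      ext j
      simp [Finset.sum_apply, Pi.single_apply]), Algebra.TensorProduct.one_def, hA, one_smul, one_smul]
  refine ⟨fun x y hxy => ?_, fun y => ⟨∑ i, H i (y i), funext fun j => ?_⟩⟩
  · rw [← hinv x, ← hinv y]
    exact Finset.sum_congr rfl fun i _ => congrArg (H i) (congrFun hxy i)
  · have hj : ∀ i, ∀ z, Φ j (H i z) = if h : i = j then h ▸ z else 0 := fun i => hgen2 i _
      (by split <;> [(subst_vars; simp); simp]) (fun a b ha hb => by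
        rw [map_add, map_add, ha, hb]; split <;> [(subst_vars; rfl); rw [add_zero]]) fun c n => by
        rw [hH, show c • A n (ε i) = A n ((c ⊗ₜ 1) * ε i) from (hAsmul n c _).symm, hΦA, map_mul, Pi.mul_apply, hε, hev1]
        split
        · subst_vars; rw [Pi.single_eq_same, mul_one]
        · rw [Pi.single_eq_of_ne (Ne.symm ‹_›), mul_zero, zero_smul]
    show Φ j (∑ i, H i (y i)) = y j
    rw [map_sum, Finset.sum_eq_single j (fun i _ hi => by rw [hj, dif_neg hi]) (fun h => absurd (Finset.mem_univ j) h),
      hj, dif_pos rfl]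

/-- All embeddings of a finite separable extension into an algebraically closed field split it. -/
theorem bijective_evS_of_isSepClosed [FiniteDimensional k E] [Algebra.IsSeparable k E] [IsSepClosed K] :
    ∃ (m : ℕ) (σ : Fin m → E →ₐ[k] K), 0 < m ∧ Function.Bijective (evS σ) := by
  classical
  have hcard : Fintype.card (E →ₐ[k] K) = Module.finrank k E := AlgHom.card_of_splits k E K fun x =>
    IsSepClosed.splits_codomain _ (Algebra.IsSeparable.isSeparable k x)
  let e := (Fintype.equivFin (E →ₐ[k] K)).symm
  refine ⟨_, e, hcard ▸ Module.finrank_pos, ?_⟩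
  let b := Module.finBasis k E
  let σ : Fin (Fintype.card (E →ₐ[k] K)) → E →ₐ[k] K := e
  let ev' : K ⊗[k] E →ₗ[K] (Fin (Fintype.card (E →ₐ[k] K)) → K) :=
    { toFun := evS σ
      map_add' := map_add _
      map_smul' := fun c z => by
        induction z using TensorProduct.induction_on with
        | zero => simp
        | tmul d x => ext i; simp [TensorProduct.smul_tmul', evS_tmul, mul_assoc]
        | add a a' ha ha' => rw [smul_add, map_add, map_add, ha, ha', smul_add] }
  haveI : Module.Finite K (K ⊗[k] E) := Module.Finite.base_change k K E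
  have hdim : Module.finrank K (K ⊗[k] E) = Module.finrank K (Fin (Fintype.card (E →ₐ[k] K)) → K) := by
    rw [Module.finrank_baseChange, Module.finrank_fin_fun, hcard]
  suffices h : Function.Surjective ev' from
    ⟨(LinearMap.injective_iff_surjective_of_finrank_eq_finrank hdim).2 h, h⟩
  rw [← LinearMap.range_eq_top]
  by_contra hne
  obtain ⟨f, hf, hle⟩ := Submodule.exists_dual_map_eq_bot_of_lt_top (lt_top_iff_ne_top.2 hne) inferInstance
  have hli : LinearIndependent K fun i => ((σ i).toLinearMap : E →ₗ[k] K) :=
    (linearIndependent_algHom_toLinearMap k E K).comp _ e.injective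
  refine hf (LinearMap.pi_ext' fun i => LinearMap.ext_ring ?_)
  refine Fintype.linearIndependent_iff.1 hli (fun i => f (Pi.single i 1)) (LinearMap.ext fun x => ?_) i
  have h0 : f (ev' (1 ⊗ₜ x)) = 0 :=
    (Submodule.mem_bot K).1 (hle ▸ Submodule.mem_map_of_mem (LinearMap.mem_range_self ev' (1 ⊗ₜ x)))
  rw [show ev' (1 ⊗ₜ x) = ∑ i, σ i x • Pi.single i (1 : K) by
    ext j; simp [ev', evS_tmul, Finset.sum_apply, Pi.single_apply], map_sum] at h0
  simpa [mul_comm] using h0

end Groth.Agent.ASBunKS
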