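import Groth.Agent.ASBunKS.Retr
import Groth.Agent.ASBunKS.SplitAlg
import Groth.Agent.ASBunKS.CoverIso
import Groth.Agent.QCohLib.Push
import Groth.Agent.PullbackMod.Descent
import Groth.Agent.DCohLib.SPerf
import Groth.Agent.DCohLib.PerfCoh
import Groth.Agent.ASBunKS.Isotyp

/-!
# Push-forward along a finite separable extension of the ground field
-/

set_option autoImplicit false
set_option backward.isDefEq.respectTransparency false
set_option linter.style.haveILetI false

universe u

open CategoryTheory CategoryTheory.Limits AlgebraicGeometry TopologicalSpace Opposite TensorProduct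
open Groth.Agent.CohBase Groth.Agent.ProjCoh Groth.Agent.PullbackMod Groth.Agent.BCLib
open W4c1astiltbs12

noncomputable section

namespace Groth.Agent.ASBunKS

variable {k : Type u} [Field k] {X : Scheme.{u}} (p : X ⟶ Spec (CommRingCat.of k))
  (E K : Type u) [Field E] [Algebra k E] [Field K] [Algebra k K]

/-- The map of base changes attached to an embedding. -/
def embMap (σ : E →ₐ[k] K) : W4bk4gw11416.baseChange p K ⟶ W4bk4gw11416.baseChange p E :=
  pullback.map p (Spec.map (CommRingCat.ofHom (algebraMap k K))) p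
    (Spec.map (CommRingCat.ofHom (algebraMap k E))) (𝟙 X) (Spec.map (CommRingCat.ofHom σ.toRingHom)) (𝟙 _)
    (by simp) (by rw [Category.comp_id, ← Spec.map_comp, ← CommRingCat.ofHom_comp]; congr 2; ext x; simp)

theorem embMap_proj (σ : E →ₐ[k] K) : embMap p E K σ ≫ proj p E = proj p K :=
  (pullback.lift_fst _ _ _).trans (Category.comp_id _)

theorem embMap_snd (σ : E →ₐ[k] K) :
    embMap p E K σ ≫ snd p E = snd p K ≫ Spec.map (CommRingCat.ofHom σ.toRingHom) :=
  pullback.lift_snd _ _ _

theorem isPullback_embMap (σ : E →ₐ[k] K) :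
    IsPullback (embMap p E K σ) (snd p K) (snd p E) (Spec.map (CommRingCat.ofHom σ.toRingHom)) := by
  refine IsPullback.of_right ?_ (embMap_snd p E K σ) (IsPullback.of_hasPullback p _)
  rw [embMap_proj, ← Spec.map_comp, ← CommRingCat.ofHom_comp, show σ.toRingHom.comp (algebraMap k E) = algebraMap k K from
    σ.comp_algebraMap]
  exact IsPullback.of_hasPullback p _

variable (σ : E →ₐ[k] K) (W0 : (W4bk4gw11416.baseChange p E).Modules)

/-- The push-forward to the ground field. -/
abbrev pushE : X.Modules := (Scheme.Modules.pushforward (proj p E)).obj W0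

theorem le_embMap (W : X.Opens) : proj p K ⁻¹ᵁ W ≤ embMap p E K σ ⁻¹ᵁ (proj p E ⁻¹ᵁ W) := by
  rw [← Scheme.Hom.comp_preimage, embMap_proj]

theorem preimage_embMap (W : X.Opens) : proj p K ⁻¹ᵁ W = embMap p E K σ ⁻¹ᵁ (proj p E ⁻¹ᵁ W) := by
  rw [← Scheme.Hom.comp_preimage, embMap_proj]

theorem app_appLE_embMap (W : X.Opens) (a : Γ(X, W)) :
    (embMap p E K σ).appLE (proj p E ⁻¹ᵁ W) (proj p K ⁻¹ᵁ W) (le_embMap p E K σ W) ((proj p E).app W a) =
      (proj p K).app W a := by
  have h : (proj p E).app W ≫ (embMap p E K σ).appLE (proj p E ⁻¹ᵁ W) (proj p K ⁻¹ᵁ W) (le_embMap p E K σ W) =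
      (proj p K).app W := by
    rw [Scheme.Hom.app_eq_appLE, Scheme.Hom.app_eq_appLE, Scheme.Hom.appLE_comp_appLE]
    simp only [embMap_proj]
  exact ConcreteCategory.congr_hom h a

theorem appLE_cK (W : X.Opens) (x : E) :
    (embMap p E K σ).appLE (proj p E ⁻¹ᵁ W) (proj p K ⁻¹ᵁ W) (le_embMap p E K σ W) (cK p E W x) =
      cK p K W (σ x) :=
  ConcreteCategory.congr_hom (secHom_comm (f := snd p E) (f' := snd p K) (g' := embMap p E K σ)
    (φ := CommRingCat.ofHom σ.toRingHom) (embMap_snd p E K σ) (le_embMap p E K σ W)) x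

/-- The canonical map to a conjugate on sections. -/
abbrev pc (W : X.Opens) :
    Γ(W0, proj p E ⁻¹ᵁ W) →+ Γ((Scheme.Modules.pullback (embMap p E K σ)).obj W0, proj p K ⁻¹ᵁ W) :=
  pullMap (embMap p E K σ) W0 (le_embMap p E K σ W)

theorem exists_conjHom :
    ∃ Φ : bcMod p K (pushE p E W0) ⟶ (Scheme.Modules.pullback (embMap p E K σ)).obj W0,
      ∀ (W : X.affineOpens) (n : Γ(W0, proj p E ⁻¹ᵁ W.1)),
        Φ.app (proj p K ⁻¹ᵁ W.1) (pu p K (pushE p E W0) W.1 n) = pc p E K σ W0 W.1 n := by
  let g := embMap p E K σ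
  let T := (Scheme.Modules.pushforward (proj p K)).obj ((Scheme.Modules.pullback g).obj W0)
  obtain ⟨ψ, hψ⟩ := KoszShLib.exists_hom_of_affine (M := pushE p E W0) (N := T)
    (fun W => { toFun := fun n => pc p E K σ W0 W.1 n
                map_add' := fun a b => map_add (pc p E K σ W0 W.1) a b
                map_smul' := fun a n => by
                  show pullMap g W0 _ ((proj p E).app W.1 a • (show Γ(W0, proj p E ⁻¹ᵁ W.1) from n)) =
                    (proj p K).app W.1 a • pullMap g W0 (le_embMap p E K σ W.1) n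
                  rw [pullMap_smul, app_appLE_embMap] })
    (fun V W hVW n => (pullMap_res g W0 (le_embMap p E K σ W.1) ((proj p E).preimage_mono hVW)
      ((proj p K).preimage_mono hVW) (le_embMap p E K σ V.1) n).symm)
  let adj := Scheme.Modules.pullbackPushforwardAdjunction (proj p K)
  refine ⟨(adj.homEquiv (pushE p E W0) _).symm ψ, fun W n => ?_⟩
  have h : adj.unit.app (pushE p E W0) ≫
      (Scheme.Modules.pushforward (proj p K)).map ((adj.homEquiv (pushE p E W0) _).symm ψ) = ψ := by
    exact (adj.homEquiv_unit _ _ _).symm.trans (Equiv.apply_symm_apply _ _)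
  rw [← unit_app]
  exact (congrArg (fun t : pushE p E W0 ⟶ T => t.app W.1 n) h).trans (hψ W n)

/-- The map of the base changed push-forward to a conjugate. -/
def conjHom : bcMod p K (pushE p E W0) ⟶ (Scheme.Modules.pullback (embMap p E K σ)).obj W0 :=
  (exists_conjHom p E K σ W0).choose

theorem conjHom_pu (W : X.affineOpens) (n : Γ(W0, proj p E ⁻¹ᵁ W.1)) :
    (conjHom p E K σ W0).app (proj p K ⁻¹ᵁ W.1) (pu p K (pushE p E W0) W.1 n) = pc p E K σ W0 W.1 n :=
  (exists_conjHom p E K σ W0).choose_spec W n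

variable [Coh.IsQCoh W0]

instance isAffineHom_proj : IsAffineHom (proj p E) := MorphismProperty.pullback_fst _ _ inferInstance

theorem isQCoh_pushE [Module.Finite k E] : Coh.IsQCoh (pushE p E W0) := QCohLib.isQCoh_pushforward W0 (proj p E)

set_option maxHeartbeats 800000 in
theorem bijective_conjHom [Module.Finite k E] {m : ℕ} (τ : Fin m → E →ₐ[k] K) (hev : Function.Bijective (evS τ))
    {W : X.Opens} (hW : IsAffineOpen W) :
    Function.Bijective fun x : Γ(bcMod p K (pushE p E W0), proj p K ⁻¹ᵁ W) => fun i : Fin m =>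
      (conjHom p E K (τ i) W0).app (proj p K ⁻¹ᵁ W) x := by
  haveI := isQCoh_pushE p E W0
  let M := pushE p E W0
  let N := Sec (Coh.toGlobal (A := E) (snd p E)) W0 (proj p E ⁻¹ᵁ W)
  letI : Module E N := inferInstanceAs (Module (CommRingCat.of E) N)
  letI : Module k N := Module.compHom N (algebraMap k E)
  haveI : IsScalarTower k E N := .of_algebraMap_smul fun _ _ => rfl
  let S1 := Sec (Coh.toGlobal (A := K) (snd p K)) (bcMod p K M) (proj p K ⁻¹ᵁ W)
  letI : Module K S1 := inferInstanceAs (Module (CommRingCat.of K) S1)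
  letI : Module k S1 := Module.compHom S1 (algebraMap k K)
  haveI : IsScalarTower k K S1 := .of_algebraMap_smul fun _ _ => rfl
  let S2 : Fin m → Type u := fun i =>
    Sec (Coh.toGlobal (A := K) (snd p K)) ((Scheme.Modules.pullback (embMap p E K (τ i))).obj W0) (proj p K ⁻¹ᵁ W)
  letI : ∀ i, AddCommGroup (S2 i) := fun i => inferInstanceAs (AddCommGroup (Sec _ _ _))
  letI : ∀ i, Module K (S2 i) := fun i => inferInstanceAs (Module (CommRingCat.of K) (Sec _ _ _))
  have hWE : IsAffineOpen (proj p E ⁻¹ᵁ W) := hW.preimage _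
  let f1 : N →ₗ[k] S1 :=
    { toFun := fun n => pu p K M W n
      map_add' := fun a b => map_add (pu p K M W) a b
      map_smul' := fun r n => by
        show pu p K M W (cK p E W (algebraMap k E r) • (show Γ(W0, proj p E ⁻¹ᵁ W) from n)) =
          cK p K W (algebraMap k K r) • pu p K M W n
        rw [← app_ck, ← app_ck]
        exact (pullMap_smul (proj p K) M le_rfl (ck p W r) (show Γ(M, W) from n)).trans (by
          rw [Scheme.Hom.app_eq_appLE]) }
  let f2 : ∀ i, N →+ S2 i := fun i => pc p E K (τ i) W0 W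
  let Φ : ∀ i, S1 →+ S2 i := fun i => AddMonoidHom.mk' (fun x => (conjHom p E K (τ i) W0).app (proj p K ⁻¹ᵁ W) x)
    fun a b => map_add _ a b
  have hb : ∀ i,
      letI := (τ i).toRingHom.toAlgebra
      letI : Module E (S2 i) := Module.compHom _ (τ i).toRingHom
      haveI : IsScalarTower E K (S2 i) := .of_algebraMap_smul fun _ _ => rfl
      ∃ e : K ⊗[E] N ≃ₗ[K] S2 i, ∀ c n, e (c ⊗ₜ n) = c • f2 i n := by
    intro i
    letI := (τ i).toRingHom.toAlgebra
    letI : Module E (S2 i) := Module.compHom _ (τ i).toRingHom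
    haveI : IsScalarTower E K (S2 i) := .of_algebraMap_smul fun _ _ => rfl
    have h := isBaseChange_secPull (isPullback_embMap p E K (τ i)) W0 hWE (preimage_embMap p E K (τ i) W)
    exact ⟨h.equiv, fun c n => IsBaseChange.equiv_tmul h c n⟩
  refine bijective_conjugates τ hev f1 f2 (fun i x n => ?_) (fun P h0 ha hg x => ?_) (fun i P h0 ha hg x => ?_)
    (fun i b hbal => ?_) Φ (fun i c n => ?_)
  · show pc p E K (τ i) W0 W (cK p E W x • (show Γ(W0, proj p E ⁻¹ᵁ W) from n)) = cK p K W (τ i x) • pc p E K (τ i) W0 W n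
    exact (pullMap_smul _ W0 _ _ _).trans (congrArg (· • pc p E K (τ i) W0 W n) (appLE_cK p E K (τ i) W x))
  · exact gen_induction p K M hW (motive := P) h0 ha hg x
  · letI := (τ i).toRingHom.toAlgebra
    letI : Module E (S2 i) := Module.compHom _ (τ i).toRingHom
    obtain ⟨e, he⟩ := hb i
    obtain ⟨z, rfl⟩ := e.surjective x
    induction z using TensorProduct.induction_on with
    | zero => rw [map_zero]; exact h0
    | tmul c n => rw [he]; exact hg c n
    | add a b ha' hb' => rw [map_add]; exact ha _ _ ha' hb'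
  · letI := (τ i).toRingHom.toAlgebra
    letI : Module E (S2 i) := Module.compHom _ (τ i).toRingHom
    obtain ⟨e, he⟩ := hb i
    have hbal' : ∀ (x : E) (c : K) (n : N), b (x • c) n = b c (x • n) := fun x c n => by
      show b (τ i x * c) n = b c (x • n)
      rw [mul_comm]
      exact hbal c x n
    refine ⟨(TensorProduct.liftAddHom b hbal').comp e.symm.toAddEquiv.toAddMonoidHom, fun c n => ?_⟩
    · show TensorProduct.liftAddHom b hbal' (e.symm (c • f2 i n)) = b c n
      rw [← he, LinearEquiv.symm_apply_apply, TensorProduct.liftAddHom_tmul]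
  · show (conjHom p E K (τ i) W0).app (proj p K ⁻¹ᵁ W) (cK p K W c • pu p K M W n) = cK p K W c • pc p E K (τ i) W0 W n
    rw [Scheme.Modules.Hom.app_smul, conjHom_pu p E K (τ i) W0 ⟨W, hW⟩]

section Coprod

variable {Y : Scheme.{u}} {m : ℕ} (G : Fin m → Y.Modules)

/-- A projection of a finite sum. -/
def pr (b : Fin m) : ∐ G ⟶ G b := Sigma.desc fun i => if h : i = b then eqToHom (congrArg G h) else 0

theorem ι_pr (b : Fin m) : Sigma.ι G b ≫ pr G b = 𝟙 _ := by simp [pr]

theorem ι_pr_ne {a b : Fin m} (h : a ≠ b) : Sigma.ι G a ≫ pr G b = 0 := by simp [pr, h]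

theorem pr_total : ∑ b, pr G b ≫ Sigma.ι G b = 𝟙 (∐ G) := by
  classical
  refine Sigma.hom_ext _ _ fun i => ?_
  rw [Preadditive.comp_sum, Category.comp_id, Finset.sum_eq_single i]
  · rw [← Category.assoc, ι_pr, Category.id_comp]
  · intro b _ hb; rw [← Category.assoc, ι_pr_ne G (Ne.symm hb), zero_comp]
  · simp

theorem app_pr_injective (U : Y.Opens) {x y : Γ(∐ G, U)} (h : ∀ b, (pr G b).app U x = (pr G b).app U y) : x = y := by
  let ev : ∀ z : Γ(∐ G, U), (∐ G ⟶ ∐ G) →+ Γ(∐ G, U) := fun z =>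
    { toFun := fun f => f.app U z
      map_zero' := by simp [Scheme.Modules.Hom.zero_app]
      map_add' := fun a c => by simp [Scheme.Modules.Hom.add_app] }
  have hz : ∀ z, z = ∑ b, (Sigma.ι G b).app U ((pr G b).app U z) := fun z => by
    have h1 : ev z (𝟙 (∐ G)) = ev z (∑ b, pr G b ≫ Sigma.ι G b) := by rw [pr_total]
    rw [map_sum] at h1
    exact h1
  rw [hz x, hz y]
  exact Finset.sum_congr rfl fun b _ => by rw [h b]

end Coprod

/-- The base change of a push-forward is the sum of the conjugates. -/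
theorem exists_iso_conjugates [Module.Finite k E] {m : ℕ} (τ : Fin m → E →ₐ[k] K) (hev : Function.Bijective (evS τ))
    (hW0 : FlatMod.IsFinLocFree W0) :
    FlatMod.IsFinLocFree (pushE p E W0) ∧
      Nonempty (bcMod p K (pushE p E W0) ≅ ∐ fun i => (Scheme.Modules.pullback (embMap p E K (τ i))).obj W0) := by
  haveI hq := isQCoh_pushE p E W0
  let G := fun i => (Scheme.Modules.pullback (embMap p E K (τ i))).obj W0
  have hG : ∀ i, FlatMod.IsFinLocFree (G i) := fun i => PullbackMod.isFinLocFree_pullback _ W0 hW0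
  obtain ⟨eS⟩ := nonempty_sumL_ofFn G
  have hsum : ∀ l : List (W4bk4gw11416.baseChange p K).Modules, (∀ A ∈ l, FlatMod.IsFinLocFree A) →
      FlatMod.IsFinLocFree (VBLib.KS.sumL l) := by
    intro l
    induction l with
    | nil => exact fun _ => DCohLib.isFinLocFree_of_isZero (isZero_zero _)
    | cons A t ih =>
      exact fun h => DCohLib.isFinLocFree_biprod (h A List.mem_cons_self) (ih fun B hB => h B (List.mem_cons_of_mem _ hB))
  have hflf : FlatMod.IsFinLocFree (∐ G) := DCohLib.isFinLocFree_of_retract eS.inv eS.hom eS.inv_hom_id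
    (hsum _ fun A hA => by obtain ⟨i, rfl⟩ := List.mem_ofFn.1 hA; exact hG i)
  let Ψ : bcMod p K (pushE p E W0) ⟶ ∐ G := ∑ i, conjHom p E K (τ i) W0 ≫ Sigma.ι G i
  have hpr : ∀ b, Ψ ≫ pr G b = conjHom p E K (τ b) W0 := fun b => by
    classical
    rw [Preadditive.sum_comp, Finset.sum_eq_single b]
    · rw [Category.assoc, ι_pr, Category.comp_id]
    · intro a _ ha; rw [Category.assoc, ι_pr_ne G ha, comp_zero]
    · simp
  haveI : Coh.IsQCoh (bcMod p K (pushE p E W0)) := PullbackMod.isQCoh_pullback _ _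
  haveI : Coh.IsQCoh (∐ G) := (PullbackMod.isQCoh_and_isFP_of_isFinLocFree _ hflf).1
  have hiso : IsIso Ψ := isIso_of_cover Ψ fun x => by
    obtain ⟨_, ⟨W, hW, rfl⟩, hxW, -⟩ :=
      X.isBasis_affineOpens.exists_subset_of_mem_open (Set.mem_univ (proj p K x)) isOpen_univ
    refine ⟨proj p K ⁻¹ᵁ W, hW.preimage _, hxW, ?_⟩
    have hb := bijective_conjHom p E K W0 τ hev hW
    have hcomp : ∀ x b, (pr G b).app _ (Ψ.app _ x) = (conjHom p E K (τ b) W0).app (proj p K ⁻¹ᵁ W) x := fun x b => by
      rw [← hpr b]; rfl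
    refine ⟨fun a c hac => hb.1 (funext fun i => ?_), fun y => ?_⟩
    · show (conjHom p E K (τ i) W0).app (proj p K ⁻¹ᵁ W) a = (conjHom p E K (τ i) W0).app (proj p K ⁻¹ᵁ W) c
      rw [← hcomp, ← hcomp, hac]
    · obtain ⟨x, hx⟩ := hb.2 fun i => (pr G i).app (proj p K ⁻¹ᵁ W) y
      exact ⟨x, app_pr_injective G _ fun b => (hcomp x b).trans (congrFun hx b)⟩
  haveI := hiso
  refine ⟨?_, ⟨asIso Ψ⟩⟩
  haveI : Surjective (Spec.map (CommRingCat.ofHom (algebraMap k K))) :=
    ⟨fun x => ⟨(⊥ : PrimeSpectrum K), Subsingleton.elim _ _⟩⟩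
  haveI : Flat (Spec.map (CommRingCat.ofHom (algebraMap k K))) :=
    HasRingHomProperty.Spec_iff.2 (RingHom.flat_algebraMap_iff.2 inferInstance)
  refine PullbackMod.isFinLocFree_descent (proj p K) (pushE p E W0)
    (fun W hW => PullbackMod.hasAffineLift_of_quasiCompact (proj p K) hW) ?_
  exact DCohLib.isFinLocFree_of_retract (asIso Ψ).hom (asIso Ψ).inv (asIso Ψ).hom_inv_id hflf

end Groth.Agent.ASBunKS
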