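import Groth.Agent.ASBunKS.Isotyp
import Groth.Agent.DCohLib.SPerf
import Groth.Agent.DCohLib.PerfCoh

/-!
# Retracts of isotypical modules
-/

set_option autoImplicit false
set_option backward.isDefEq.respectTransparency false
set_option linter.style.haveILetI false

universe u

open CategoryTheory CategoryTheory.Limits AlgebraicGeometry
open W4c1astiltbs12 Groth.Agent.VBLib

noncomputable section

namespace Groth.Agent.ASBunKS

variable {k : Type u} [Field k] {X : Scheme.{u}} (p : X ⟶ Spec (CommRingCat.of k)) [IsProper p]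

include p in
/-- A retract of a sum of indecomposables is a sum of some of them. -/
theorem exists_retract_sum {n : ℕ} {Ls : Fin n → X.Modules} (hLs : ∀ i, Coh.IsCoh (Ls i) ∧ Indec (Ls i))
    {M : X.Modules} (i : M ⟶ ∐ Ls) (r : ∐ Ls ⟶ M) (h : i ≫ r = 𝟙 M) :
    ∃ (m : ℕ) (σ : Fin m → Fin n), Nonempty (M ≅ ∐ fun j => Ls (σ j)) := by
  haveI : IsLocallyNoetherian X := LocallyOfFiniteType.isLocallyNoetherian p
  have hM : Coh.IsCoh M := isCoh_of_retract (isCoh_coprod fun j => (hLs j).1) i r h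
  obtain ⟨lM, hlM, ⟨f⟩⟩ := dec_of_coh p hM
  obtain ⟨g⟩ := nonempty_sumL_ofFn Ls
  have hind : ∀ A ∈ List.ofFn Ls, KS.Ind A := fun A hA => by
    obtain ⟨j, rfl⟩ := List.mem_ofFn.1 hA
    exact ind_of_indec' k p (hLs j).1 (hLs j).2
  have key : ∀ (l : List X.Modules), (∀ A ∈ l, KS.Ind A) → ∀ A ∈ l,
      ∃ (u : A ⟶ KS.sumL l) (v : KS.sumL l ⟶ A), u ≫ v = 𝟙 A := by
    intro l hl A hA
    obtain ⟨l', -, -, ⟨e⟩⟩ := KS.extract (KS.mem_ms.2 ⟨A, hA, rfl⟩)
    exact ⟨biprod.inl ≫ e.inv, e.hom ≫ biprod.fst, by simp⟩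
  have hmem : ∀ A ∈ lM, ∃ j, Nonempty (A ≅ Ls j) := fun A hA => by
    obtain ⟨u, v, huv⟩ := key lM hlM A hA
    have hm := KS.mem_of_retract (hlM A hA) hind (u ≫ f.inv ≫ i ≫ g.inv) (g.hom ≫ r ≫ f.hom ≫ v) (by
      simp [reassoc_of% h, huv])
    obtain ⟨B, hB, hBA⟩ := KS.mem_ms.1 hm
    obtain ⟨j, rfl⟩ := List.mem_ofFn.1 hB
    exact ⟨j, (KS.cl_eq_iff.1 hBA).map Iso.symm⟩
  choose σ hσ using fun j : Fin lM.length => hmem _ (List.get_mem lM j)
  obtain ⟨g'⟩ := nonempty_sumL_ofFn fun j => lM.get j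
  exact ⟨_, σ, ⟨f ≪≫ eqToIso (by rw [List.ofFn_get]) ≪≫ g' ≪≫ Sigma.mapIso fun j => (hσ j).some⟩⟩

include p in
theorem exists_pow_of_retract {L M : X.Modules} {n : ℕ} (hL : Coh.IsCoh L) (hLi : Indec L) (i : M ⟶ pow L n)
    (r : pow L n ⟶ M) (h : i ≫ r = 𝟙 M) : ∃ m : ℕ, Nonempty (M ≅ pow L m) := by
  obtain ⟨m, σ, e⟩ := exists_retract_sum p (fun _ : Fin n => ⟨hL, hLi⟩) i r h
  exact ⟨m, e⟩

theorem isotypical_decomposition (K : Type u) [Field K] [Algebra k K] {E : X.Modules} (hE : FlatMod.IsFinLocFree E)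
    (hE0 : ¬ IsZero E) {L : (W4bk4gw11416.baseChange p K).Modules} (hL : Coh.IsCoh L) (hLi : Indec L) {r : ℕ}
    (e : bcMod p K E ≅ pow L r) :
    (∃ (G : X.Modules) (n : ℕ), FlatMod.IsFinLocFree G ∧ Indec G ∧ Nonempty (E ≅ pow G n)) ∧
    (∀ (G G' : X.Modules) (n m : ℕ), Indec G → Indec G' → Nonempty (E ≅ pow G n) → Nonempty (E ≅ pow G' m) →
      Nonempty (G ≅ G')) := by
  haveI : IsLocallyNoetherian X := LocallyOfFiniteType.isLocallyNoetherian p
  have hEc := DCohLib.isCoh_of_isFinLocFree hE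
  obtain ⟨n, Fs, hFs, ⟨f⟩⟩ := exists_indec_coprod k p hEc
  refine ⟨?_, fun G G' a b hG hG' ⟨eG⟩ ⟨eG'⟩ => ?_⟩
  · classical
    let v : ∀ j, E ⟶ Fs j := fun j => f.hom ≫ Sigma.desc fun i => if h : i = j then eqToHom (congrArg Fs h) else 0
    have huv : ∀ j, (Sigma.ι Fs j ≫ f.inv) ≫ v j = 𝟙 (Fs j) := fun j => by simp [v]
    have hflf : ∀ j, FlatMod.IsFinLocFree (Fs j) := fun j =>
      DCohLib.isFinLocFree_of_retract _ _ (huv j) hE
    let P := Scheme.Modules.pullback (proj p K)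
    have htype : ∀ j, ∃ m, Nonempty (bcMod p K (Fs j) ≅ pow L m) := fun j =>
      exists_pow_of_retract (snd p K) hL hLi (P.map (Sigma.ι Fs j ≫ f.inv) ≫ e.hom) (e.inv ≫ P.map (v j)) (by
        rw [Category.assoc, e.hom_inv_id_assoc, ← P.map_comp, huv, CategoryTheory.Functor.map_id])
    choose m hm using htype
    have hn : 0 < n := by
      rcases Nat.eq_zero_or_pos n with rfl | h
      · exact absurd (((IsZero.iff_id_eq_zero _).2 (Sigma.hom_ext _ _ fun i => i.elim0)).of_iso f) hE0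
      · exact h
    refine ⟨Fs ⟨0, hn⟩, n, hflf _, hFs _, ⟨f ≪≫ Sigma.mapIso fun j => ?_⟩⟩
    exact (nonempty_iso_of_type p K (DCohLib.isCoh_of_isFinLocFree (hflf j))
      (DCohLib.isCoh_of_isFinLocFree (hflf _)) (hFs j) (hFs _) (hm j).some (hm _).some).some
  · obtain ⟨σ, hσ⟩ := indec_unique k p hEc (fun _ : Fin a => hG) (fun _ : Fin b => hG') eG eG'
    rcases Nat.eq_zero_or_pos a with rfl | ha
    · exact absurd ((isZero_pow_zero G).of_iso eG) hE0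
    · exact hσ ⟨0, ha⟩

end Groth.Agent.ASBunKS
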