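import Groth.Agent.ASBunKS.Spread
import Groth.Agent.ASBunKS.GalPush
import Groth.Agent.ASBunKS.Types
import Groth.Agent.S4788
import Groth.Agent.S4791

/-!
# Galois-invariant indecomposables are types of indecomposables
-/

set_option autoImplicit false
set_option backward.isDefEq.respectTransparency false
set_option backward.defeqAttrib.useBackward true
set_option linter.style.haveILetI false
set_option linter.unusedSectionVars false

universe u

open CategoryTheory CategoryTheory.Limits AlgebraicGeometry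
open W4c1astiltbs12

noncomputable section

namespace Groth.Agent.ASBunKS

variable {k : Type u} [Field k] {X : Scheme.{u}} {f : X ⟶ Spec (CommRingCat.of k)}

theorem nonempty_pullback_congr {A B C : Scheme.{u}} {a : A ⟶ B} {b : B ⟶ C} {c : A ⟶ C} (h : a ≫ b = c)
    (M : C.Modules) :
    Nonempty ((Scheme.Modules.pullback a).obj ((Scheme.Modules.pullback b).obj M) ≅
      (Scheme.Modules.pullback c).obj M) :=
  ⟨(Scheme.Modules.pullbackComp a b).app M ≪≫ (Scheme.Modules.pullbackCongr h).app M⟩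

/-- A locally free module over an algebraic extension comes from a finite one. -/
theorem exists_finite_model [IsProper f] {K : Type u} [Field K] [Algebra k K] [Algebra.IsAlgebraic k K]
    (W : (W4bk4gw11416.baseChange f K).Modules) (hW : FlatMod.IsFinLocFree W) :
    ∃ (E : IntermediateField k K) (W₀ : (W4bk4gw11416.baseChange f E).Modules), FiniteDimensional k E ∧
      FlatMod.IsFinLocFree W₀ ∧
      Nonempty ((Scheme.Modules.pullback (embMap f E K E.val)).obj W₀ ≅ W) := by
  classical
  let Ef : Finset K → IntermediateField k K := fun s => IntermediateField.adjoin k (s : Set K)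
  have hmono : ∀ {s t : Finset K}, s ≤ t → Ef s ≤ Ef t := fun h =>
    IntermediateField.adjoin.mono k _ _ (Finset.coe_subset.mpr h)
  let Fd : Finset K ⥤ CommRingCat.{u} :=
    { obj := fun s => CommRingCat.of (Ef s).toSubalgebra
      map := fun {s t} h => CommRingCat.ofHom (Subalgebra.inclusion (show (Ef s).toSubalgebra ≤ (Ef t).toSubalgebra from hmono h.le)).toRingHom
      map_id := fun s => CommRingCat.hom_ext (RingHom.ext fun x => Subtype.ext rfl)
      map_comp := fun h h' => CommRingCat.hom_ext (RingHom.ext fun x => Subtype.ext rfl) }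
  let c : Cocone Fd :=
    { pt := CommRingCat.of K
      ι :=
        { app := fun s => CommRingCat.ofHom (Ef s).toSubalgebra.val.toRingHom
          naturality := fun s t h => CommRingCat.hom_ext (RingHom.ext fun x => rfl) } }
  obtain ⟨hc⟩ := AffLim.nonempty_isColimit_of_elementwise c
    (fun x => ⟨{x}, ⟨x, IntermediateField.subset_adjoin k _ (by simp)⟩, rfl⟩)
    (fun S x y h => ⟨S, le_rfl, by rw [show x = y from Subtype.ext h]⟩)
  let D : (Finset K)ᵒᵖ ⥤ Scheme.{u} := Fd.op ⋙ Scheme.Spec
  let c' : Cone D := Scheme.Spec.mapCone c.op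
  have hc' : IsLimit c' := isLimitOfPreserves Scheme.Spec hc.op
  haveI : ∀ {i j : (Finset K)ᵒᵖ} (a : i ⟶ j), IsAffineHom (D.map a) := fun a =>
    inferInstanceAs (IsAffineHom (Spec.map _))
  let i₀ : (Finset K)ᵒᵖ := Opposite.op ∅
  let π : ∀ s : Finset K, CommRingCat.of k ⟶ Fd.obj s := fun s => CommRingCat.ofHom (algebraMap k (Ef s).toSubalgebra)
  haveI : IsIso (π ∅) := by
    rw [ConcreteCategory.isIso_iff_bijective]
    refine ⟨fun a b hab => (algebraMap k (Ef ∅)).injective hab, fun ⟨x, hx⟩ => ?_⟩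
    have hx' : x ∈ IntermediateField.adjoin k ((∅ : Finset K) : Set K) := hx
    rw [Finset.coe_empty, IntermediateField.adjoin_empty, IntermediateField.mem_bot] at hx'
    obtain ⟨a, ha⟩ := hx'
    exact ⟨a, Subtype.ext ha⟩
  let p : D.obj i₀ ⟶ Spec (CommRingCat.of k) := Spec.map (π ∅)
  haveI : IsIso p := inferInstanceAs (IsIso (Spec.map (π ∅)))
  let a : X ⟶ D.obj i₀ := f ≫ inv p
  haveI : CompactSpace X := QuasiCompact.compactSpace_of_compactSpace f
  haveI : QuasiSeparated a := by
    show QuasiSeparated (f ≫ inv p)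
    infer_instance
  let B := AffLim.baseChange D i₀ a
  obtain ⟨hB⟩ := AffLim.nonempty_isLimit_baseChangeCone D c' hc' i₀ a
  let C := AffLim.baseChangeCone D c' i₀ a
  haveI : ∀ j, QuasiSeparatedSpace (B.obj j) := fun j => by
    haveI : QuasiSeparatedSpace X := quasiSeparatedSpace_of_quasiSeparated f
    haveI : IsAffineHom (pullback.fst a (D.map j.hom)) :=
      MorphismProperty.pullback_fst (P := @IsAffineHom) a (D.map j.hom) inferInstance
    exact quasiSeparatedSpace_of_quasiSeparated (pullback.fst a (D.map j.hom))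
  have hp : c'.π.app i₀ ≫ p = Spec.map (CommRingCat.ofHom (algebraMap k K)) := by
    show Spec.map (c.ι.app ∅) ≫ Spec.map (π ∅) = _
    rw [← Spec.map_comp]
    rfl
  let ε : C.pt ⟶ W4bk4gw11416.baseChange f K := pullback.map _ _ _ _ (𝟙 X) (𝟙 _) p (by simp [a]) (by rw [hp, Category.id_comp])
  haveI : IsIso ε := inferInstanceAs (IsIso (pullback.map _ _ _ _ _ _ _ _ _))
  haveI : ∀ (i j : Over i₀) (g : i ⟶ j), IsAffineHom (B.map g) := fun i j g => by
    haveI : IsAffineHom (pullback.fst a (D.map i.hom)) :=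
      MorphismProperty.pullback_fst (P := @IsAffineHom) a (D.map i.hom) inferInstance
    haveI : IsAffineHom (pullback.fst a (D.map j.hom)) :=
      MorphismProperty.pullback_fst (P := @IsAffineHom) a (D.map j.hom) inferInstance
    haveI : IsAffineHom (B.map g ≫ pullback.fst a (D.map j.hom)) := by
      rw [show B.map g ≫ pullback.fst a (D.map j.hom) = pullback.fst a (D.map i.hom) by simp [B]]
      infer_instance
    exact MorphismProperty.of_postcomp (W := @IsAffineHom) (W' := @IsSeparated) (B.map g) (pullback.fst a (D.map j.hom))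
      inferInstance inferInstance
  let b₀ : Over i₀ := Over.mk (𝟙 i₀)
  haveI : ∀ j, CompactSpace (B.obj j) := fun j => by
    haveI : IsAffineHom (pullback.fst a (D.map j.hom)) :=
      MorphismProperty.pullback_fst (P := @IsAffineHom) a (D.map j.hom) inferInstance
    exact QuasiCompact.compactSpace_of_compactSpace (pullback.fst a (D.map j.hom))
  let F := (Scheme.Modules.pullback ε).obj W
  have hF : FlatMod.IsFinLocFree F := PullbackMod.isFinLocFree_pullback _ W hW
  obtain ⟨hFq, hFfp⟩ := PullbackMod.isQCoh_and_isFP_of_isFinLocFree F hF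
  haveI := hFq
  obtain ⟨j₁, -, F₁, hF₁q, hF₁fp, ⟨η₁⟩⟩ := Groth.Agent.S4788.result B C hB b₀ F hFfp
  haveI := hF₁q
  obtain ⟨j, φ, hj₂⟩ := (Groth.Agent.S4791.result B C hB j₁ F₁ hF₁fp).1
    (DCohLib.isFinLocFree_of_retract η₁.hom η₁.inv η₁.hom_inv_id hF)
  let s : Finset K := j.left.unop
  let E := Ef s
  haveI : FiniteDimensional k E :=
    IntermediateField.finiteDimensional_adjoin fun x _ => Algebra.IsIntegral.isIntegral x
  have hjD : D.map j.hom ≫ p = Spec.map (CommRingCat.ofHom (algebraMap k E)) := by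
    show Spec.map (Fd.map j.hom.unop) ≫ Spec.map (π ∅) = _
    rw [← Spec.map_comp]
    rfl
  let εE : W4bk4gw11416.baseChange f E ⟶ B.obj j := pullback.map _ _ _ _ (𝟙 X) (𝟙 _) (inv p) (by simp [a]) (by
    rw [Category.id_comp, ← hjD, Category.assoc, IsIso.hom_inv_id, Category.comp_id])
  have h2 : ε ≫ embMap f E K E.val ≫ εE = C.π.app j := by
    apply pullback.hom_ext
    · simp [εE, ε, C, embMap]
    · simp [εE, ε, C, embMap]
      rfl
  refine ⟨E, (Scheme.Modules.pullback εE).obj ((Scheme.Modules.pullback (B.map φ)).obj F₁), inferInstance,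
    PullbackMod.isFinLocFree_pullback _ _ hj₂, ?_⟩
  obtain ⟨e₁⟩ := nonempty_pullback_congr (a := εE) (b := B.map φ) rfl F₁
  obtain ⟨e₂⟩ := nonempty_pullback_congr (a := embMap f E K E.val) (b := εE ≫ B.map φ) rfl F₁
  have h3 : ε ≫ embMap f E K E.val ≫ εE ≫ B.map φ = C.π.app j₁ := by
    rw [← C.w φ, ← h2]; simp only [Category.assoc]; rfl
  obtain ⟨e₃⟩ := nonempty_pullback_congr h3 F₁
  let η : (Scheme.Modules.pullback ε).obj ((Scheme.Modules.pullback (embMap f E K E.val)).obj
      ((Scheme.Modules.pullback εE).obj ((Scheme.Modules.pullback (B.map φ)).obj F₁))) ≅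
      (Scheme.Modules.pullback ε).obj W :=
    (Scheme.Modules.pullback ε).mapIso ((Scheme.Modules.pullback _).mapIso e₁ ≪≫ e₂) ≪≫ e₃ ≪≫ η₁
  obtain ⟨d₁⟩ := nonempty_pullback_congr (IsIso.inv_hom_id ε)
    ((Scheme.Modules.pullback (embMap f E K E.val)).obj
      ((Scheme.Modules.pullback εE).obj ((Scheme.Modules.pullback (B.map φ)).obj F₁)))
  obtain ⟨d₂⟩ := nonempty_pullback_congr (IsIso.inv_hom_id ε) W
  exact ⟨((Scheme.Modules.pullbackId _).app _).symm ≪≫ d₁.symm ≪≫
    (Scheme.Modules.pullback (inv ε)).mapIso η ≪≫ d₂ ≪≫ (Scheme.Modules.pullbackId _).app _⟩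

/-- A Galois-invariant indecomposable over the separable closure is the type of an indecomposable. -/
theorem exists_indec_of_invariant [IsProper f] {K : Type u} [Field K] [Algebra k K] [IsSepClosure k K]
    {W : (W4bk4gw11416.baseChange f K).Modules} (hW : FlatMod.IsFinLocFree W) (hWi : Indec W)
    (hinv : ∀ σ : K ≃ₐ[k] K, Nonempty ((Scheme.Modules.pullback (galAct f K σ)).obj W ≅ W)) :
    ∃ (M : X.Modules) (r : ℕ), FlatMod.IsFinLocFree M ∧ Indec M ∧ 0 < r ∧
      Nonempty (bcMod f K M ≅ pow W r) := by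
  classical
  haveI : IsSepClosed K := IsSepClosure.sep_closed k
  haveI : Algebra.IsSeparable k K := IsSepClosure.separable
  haveI : IsGalois k K := IsSepClosure.isGalois
  haveI : Algebra.IsAlgebraic k K := Algebra.IsSeparable.isAlgebraic k K
  haveI : IsLocallyNoetherian X := LocallyOfFiniteType.isLocallyNoetherian f
  haveI : IsLocallyNoetherian (W4bk4gw11416.baseChange f K) :=
    LocallyOfFiniteType.isLocallyNoetherian (snd f K)
  obtain ⟨E, W₀, hE, hW₀, ⟨w⟩⟩ := exists_finite_model W hW
  haveI := hE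
  haveI : Algebra.IsSeparable k E := Algebra.isSeparable_tower_bot_of_isSeparable k E K
  obtain ⟨m, τ, hm, hev⟩ := bijective_evS_of_isSepClosed (k := k) (E := E) (K := K)
  haveI : Coh.IsQCoh W₀ := (PullbackMod.isQCoh_and_isFP_of_isFinLocFree _ hW₀).1
  obtain ⟨hM, ⟨φ⟩⟩ := exists_iso_conjugates f E K W₀ τ hev hW₀
  have hconj : ∀ i, Nonempty ((Scheme.Modules.pullback (embMap f E K (τ i))).obj W₀ ≅ W) := fun i => by
    let σ : K ≃ₐ[k] K := AlgEquiv.ofBijective ((τ i).liftNormal K) (AlgHom.normal_bijective k K K _)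
    have hσ : embMap f E K (τ i) = galAct f K σ ≫ embMap f E K E.val := by
      apply pullback.hom_ext
      · simp [embMap, galAct]
      · simp only [embMap, galAct, pullback.lift_snd, Category.assoc, pullback.lift_snd_assoc]
        rw [← Spec.map_comp, ← CommRingCat.ofHom_comp]
        congr 3
        exact RingHom.ext fun x => (AlgHom.liftNormal_commutes (τ i) K x).symm
    obtain ⟨d⟩ := nonempty_pullback_congr hσ.symm W₀
    exact ⟨d.symm ≪≫ (Scheme.Modules.pullback _).mapIso w ≪≫ (hinv σ).some⟩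
  let M0 := pushE f E W₀
  let Φ : bcMod f K M0 ≅ pow W m := φ ≪≫ Sigma.mapIso fun i => (hconj i).some
  have hWc : Coh.IsCoh W := DCohLib.isCoh_of_isFinLocFree hW
  obtain ⟨t, Ms, hMs, ⟨g⟩⟩ := exists_indec_coprod k f (DCohLib.isCoh_of_isFinLocFree hM)
  rcases Nat.eq_zero_or_pos t with rfl | ht
  · exfalso
    have hz : IsZero (bcMod f K M0) :=
      (Scheme.Modules.pullback (proj f K)).map_isZero
        (((IsZero.iff_id_eq_zero _).2 (Sigma.hom_ext _ _ fun i => i.elim0)).of_iso g)
    have hs := (hz.of_iso Φ.symm).eq_of_tgt (Sigma.ι (fun _ : Fin m => W) ⟨0, hm⟩) 0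
    refine hWi.1 ((IsZero.iff_id_eq_zero _).2 ?_)
    have h1 := congrArg (· ≫ Sigma.desc fun _ : Fin m => 𝟙 W) hs
    simpa using h1
  let u := Sigma.ι Ms ⟨0, ht⟩ ≫ g.inv
  let v := g.hom ≫ Sigma.desc fun i => if h : i = ⟨0, ht⟩ then eqToHom (congrArg Ms h) else 0
  have huv : u ≫ v = 𝟙 _ := by simp [u, v]
  let P := Scheme.Modules.pullback (proj f K)
  obtain ⟨r, ⟨a⟩⟩ := exists_pow_of_retract (snd f K) hWc hWi (P.map u ≫ Φ.hom) (Φ.inv ≫ P.map v) (by
    rw [Category.assoc, Φ.hom_inv_id_assoc, ← P.map_comp, huv, CategoryTheory.Functor.map_id])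
  have hflf := DCohLib.isFinLocFree_of_retract u v huv hM
  exact ⟨Ms ⟨0, ht⟩, r, hflf, hMs _, pos_of_indec f K (DCohLib.isCoh_of_isFinLocFree hflf) (hMs _) a, ⟨a⟩⟩

end Groth.Agent.ASBunKS
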