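import Groth.Agent.VBLib.KrullSchmidt
import Mathlib

/-!
# Krull–Schmidt in linear categories with finite-dimensional endomorphism algebras
-/

set_option autoImplicit false
set_option linter.style.haveILetI false

universe w v u

open CategoryTheory CategoryTheory.Limits Groth.Agent.VBLib

noncomputable section

namespace Groth.Agent.ASBunKS

open Polynomial in
theorem isNilpotent_or_isUnit {k A : Type*} [Field k] [Ring A] [Algebra k A] [FiniteDimensional k A]
    (hidem : ∀ e : A, e * e = e → e = 0 ∨ e = 1) (a : A) : IsNilpotent a ∨ IsUnit a := by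
  have hf : minpoly k a ≠ 0 := minpoly.ne_zero (Algebra.IsIntegral.isIntegral a)
  obtain ⟨g, hfg, hg⟩ := Polynomial.exists_eq_pow_rootMultiplicity_mul_and_not_dvd (minpoly k a) hf 0
  set m := rootMultiplicity 0 (minpoly k a)
  rw [map_zero, sub_zero] at hfg hg
  have hcop : IsCoprime (X : k[X]) g := irreducible_X.coprime_iff_not_dvd.2 hg
  obtain ⟨u, v, huv⟩ := hcop.pow_left (m := m)
  have hfa : aeval a g * a ^ m = 0 := by
    rw [show aeval a g * a ^ m = aeval a (X ^ m * g) by rw [mul_comm (X ^ m) g, map_mul, map_pow, aeval_X], ← hfg,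
      minpoly.aeval]
  have hcomm : ∀ p q : k[X], aeval a p * aeval a q = aeval a q * aeval a p := fun p q => by
    rw [← map_mul, ← map_mul, mul_comm]
  set e := aeval a (u * X ^ m) with he
  have h1e : 1 - e = aeval a (v * g) := by
    rw [he, sub_eq_iff_eq_add, ← map_add, add_comm, huv, map_one]
  have hee : e * e = e := by
    have h0 : e * (1 - e) = 0 := by
      rw [h1e, he, ← map_mul, show u * X ^ m * (v * g) = (u * v) * (g * X ^ m) by ring, map_mul, map_mul (aeval a) g,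
        map_pow, aeval_X, hfa, mul_zero]
    rw [mul_sub, mul_one, sub_eq_zero] at h0
    exact h0.symm
  rcases hidem e hee with h | h
  · left
    refine ⟨m, ?_⟩
    have h2 : aeval a v * aeval a g = 1 := by rw [← map_mul, ← h1e, h, sub_zero]
    calc a ^ m = (aeval a v * aeval a g) * a ^ m := by rw [h2, one_mul]
      _ = 0 := by rw [mul_assoc, hfa, mul_zero]
  · right
    have h2 : aeval a u * a ^ m = 1 := by rw [← h, he, map_mul, map_pow, aeval_X]
    have hga : aeval a g = 0 := by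
      have h3 : a ^ m * aeval a u = 1 := by
        rw [← h2, ← aeval_X (R := k) a, ← map_pow, aeval_X, hcomm]
      calc aeval a g = aeval a g * (a ^ m * aeval a u) := by rw [h3, mul_one]
        _ = 0 := by rw [← mul_assoc, hfa, zero_mul]
    obtain ⟨u', v', huv'⟩ := hcop
    have h4 : aeval a u' * a = 1 := by
      have := congrArg (aeval a) huv'
      rwa [map_add, map_mul, map_mul, map_one, aeval_X, hga, mul_zero, add_zero] at this
    have h5 : a * aeval a u' = 1 := by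
      have := hcomm X u'
      rw [aeval_X] at this
      exact this.trans h4
    exact ⟨⟨a, aeval a u', h5, h4⟩, rfl⟩

theorem isLocalRing_of_idem (k : Type*) {A : Type*} [Field k] [Ring A] [Algebra k A] [FiniteDimensional k A]
    [Nontrivial A] (hidem : ∀ e : A, e * e = e → e = 0 ∨ e = 1) : IsLocalRing A :=
  IsLocalRing.of_isUnit_or_isUnit_one_sub_self fun a =>
    (isNilpotent_or_isUnit (k := k) hidem a).symm.imp id fun h => h.isUnit_one_sub

variable {C : Type w} [Category.{v} C] [Preadditive C] [HasBinaryBiproducts C]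

/-- Indecomposable objects. -/
def Indec (M : C) : Prop := ¬ IsZero M ∧ ∀ A B : C, Nonempty (M ≅ A ⊞ B) → IsZero A ∨ IsZero B

theorem Indec.of_iso {M N : C} (h : Indec M) (e : M ≅ N) : Indec N :=
  ⟨fun hN => h.1 (hN.of_iso e), fun A B ⟨f⟩ => h.2 A B ⟨e ≪≫ f⟩⟩

/-- The sum decomposition of an idempotent. -/
theorem exists_split [IsIdempotentComplete C] {M : C} (p : M ⟶ M) (hp : p ≫ p = p) :
    ∃ (A B : C) (e : M ≅ A ⊞ B), e.hom ≫ biprod.fst ≫ biprod.inl ≫ e.inv = p := by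
  obtain ⟨A, i, r, hir, hri⟩ := IsIdempotentComplete.idempotents_split M p hp
  obtain ⟨B, j, q, hjq, hqj⟩ := IsIdempotentComplete.idempotents_split M (𝟙 M - p)
    (by simp [Preadditive.sub_comp, Preadditive.comp_sub, hp])
  have hiq : i ≫ q = 0 := by
    have : i ≫ (q ≫ j) = 0 := by
      rw [hqj, Preadditive.comp_sub, Category.comp_id, ← hri, ← Category.assoc, hir, Category.id_comp, sub_self]
    calc i ≫ q = i ≫ (q ≫ j) ≫ q := by rw [Category.assoc, hjq, Category.comp_id]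
      _ = 0 := by rw [← Category.assoc, this, zero_comp]
  have hjr : j ≫ r = 0 := by
    have : j ≫ (r ≫ i) = 0 := by
      have h1 : j ≫ (𝟙 M - p) = j := by rw [← hqj, ← Category.assoc, hjq, Category.id_comp]
      rw [hri]
      rwa [Preadditive.comp_sub, Category.comp_id, sub_eq_self] at h1
    calc j ≫ r = j ≫ (r ≫ i) ≫ r := by rw [Category.assoc, hir, Category.comp_id]
      _ = 0 := by rw [← Category.assoc, this, zero_comp]
  refine ⟨A, B, ⟨biprod.lift r q, biprod.desc i j, ?_, ?_⟩, ?_⟩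
  · rw [biprod.lift_desc, hri, hqj, add_sub_cancel]
  · ext <;> simp [hir, hjq, hiq, hjr]
  · simp [hri]

theorem ind_of_indec (k : Type u) [Field k] [Linear k C] [IsIdempotentComplete C] {M : C} [Module.Finite k (M ⟶ M)]
    (hM : Indec M) : KS.Ind M := by
  refine ⟨hM.1, ?_⟩
  haveI : FiniteDimensional k (End M) := inferInstanceAs (Module.Finite k (M ⟶ M))
  haveI : Nontrivial (End M) := ⟨⟨0, 1, fun h => hM.1 ((IsZero.iff_id_eq_zero M).2 h.symm)⟩⟩
  refine isLocalRing_of_idem k fun p hp => ?_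
  obtain ⟨A, B, e, he⟩ := exists_split (p : M ⟶ M) hp
  rcases hM.2 A B ⟨e⟩ with h | h
  · refine Or.inl ?_
    show (p : M ⟶ M) = 0
    rw [← he, h.eq_of_src (biprod.inl : A ⟶ A ⊞ B) 0, zero_comp, comp_zero, comp_zero]
  · refine Or.inr ?_
    show (p : M ⟶ M) = 𝟙 M
    have h1 : (biprod.fst : A ⊞ B ⟶ A) ≫ biprod.inl = 𝟙 (A ⊞ B) := by
      conv_rhs => rw [← biprod.total, h.eq_of_src (biprod.inr : B ⟶ A ⊞ B) 0, comp_zero, add_zero]
    rw [← he, reassoc_of% h1, e.hom_inv_id]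

/-- A retract has finite-dimensional endomorphisms. -/
theorem finite_of_retract (k : Type u) [Field k] [Linear k C] {M A : C} [Module.Finite k (M ⟶ M)]
    (i : A ⟶ M) (r : M ⟶ A) (h : i ≫ r = 𝟙 A) : Module.Finite k (A ⟶ A) := by
  let φ : (A ⟶ A) →ₗ[k] (M ⟶ M) := (Linear.leftComp k M r).comp (Linear.rightComp k A i)
  refine Module.Finite.of_injective φ fun a b hab => ?_
  have h1 : r ≫ a ≫ i = r ≫ b ≫ i := hab
  calc a = (i ≫ r) ≫ a ≫ (i ≫ r) := by simp [h]
    _ = (i ≫ r) ≫ b ≫ (i ≫ r) := by simp only [Category.assoc, reassoc_of% h1]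
    _ = b := by simp [h]

theorem finite_of_biprod (k : Type u) [Field k] [Linear k C] {M A B : C} [Module.Finite k (M ⟶ M)] (e : M ≅ A ⊞ B) :
    Module.Finite k (A ⟶ A) ∧ Module.Finite k (B ⟶ B) :=
  ⟨finite_of_retract k (biprod.inl ≫ e.inv) (e.hom ≫ biprod.fst) (by simp),
    finite_of_retract k (biprod.inr ≫ e.inv) (e.hom ≫ biprod.snd) (by simp)⟩

theorem finrank_add_le (k : Type u) [Field k] [Linear k C] {M A B : C} [Module.Finite k (M ⟶ M)] (e : M ≅ A ⊞ B) :
    Module.finrank k (A ⟶ A) + Module.finrank k (B ⟶ B) ≤ Module.finrank k (M ⟶ M) := by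
  haveI := (finite_of_biprod k e).1
  haveI := (finite_of_biprod k e).2
  let fA : (A ⟶ A) →ₗ[k] (M ⟶ M) :=
    (Linear.leftComp k M (e.hom ≫ biprod.fst)).comp (Linear.rightComp k A (biprod.inl ≫ e.inv))
  let fB : (B ⟶ B) →ₗ[k] (M ⟶ M) :=
    (Linear.leftComp k M (e.hom ≫ biprod.snd)).comp (Linear.rightComp k B (biprod.inr ≫ e.inv))
  rw [← Module.finrank_prod]
  refine LinearMap.finrank_le_finrank_of_injective (f := fA.coprod fB) ?_
  rintro ⟨a, b⟩ ⟨a', b'⟩ hab
  have h1 : (e.hom ≫ biprod.fst) ≫ a ≫ biprod.inl ≫ e.inv + (e.hom ≫ biprod.snd) ≫ b ≫ biprod.inr ≫ e.inv =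
      (e.hom ≫ biprod.fst) ≫ a' ≫ biprod.inl ≫ e.inv + (e.hom ≫ biprod.snd) ≫ b' ≫ biprod.inr ≫ e.inv := hab
  have hA := congrArg (fun f => (biprod.inl ≫ e.inv) ≫ f ≫ (e.hom ≫ biprod.fst)) h1
  have hB := congrArg (fun f => (biprod.inr ≫ e.inv) ≫ f ≫ (e.hom ≫ biprod.snd)) h1
  simp only [Preadditive.add_comp, Preadditive.comp_add, Category.assoc, Iso.inv_hom_id_assoc,
    biprod.inl_fst_assoc, biprod.inl_snd_assoc, biprod.inr_fst_assoc, biprod.inr_snd_assoc, biprod.inl_fst,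
    biprod.inr_snd, zero_comp, add_zero, zero_add, Category.comp_id] at hA hB
  exact Prod.ext hA hB

variable [HasZeroObject C]

theorem exists_dec (k : Type u) [Field k] [Linear k C] [IsIdempotentComplete C] : ∀ (M : C), Module.Finite k (M ⟶ M) →
    ∃ l : List C, (∀ A ∈ l, Indec A ∧ Module.Finite k (A ⟶ A)) ∧ Nonempty (M ≅ KS.sumL l) := by
  suffices ∀ n : ℕ, ∀ M : C, Module.Finite k (M ⟶ M) → Module.finrank k (M ⟶ M) ≤ n →
      ∃ l : List C, (∀ A ∈ l, Indec A ∧ Module.Finite k (A ⟶ A)) ∧ Nonempty (M ≅ KS.sumL l) from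
    fun M hM => this _ M hM le_rfl
  intro n
  induction n using Nat.strong_induction_on with
  | _ n ih =>
    intro M hfin hn
    by_cases h0 : IsZero M
    · exact ⟨[], by simp, ⟨h0.iso (isZero_zero C)⟩⟩
    by_cases hM : Indec M
    · let e : M ≅ KS.sumL [M] :=
        { hom := biprod.inl
          inv := biprod.fst
          hom_inv_id := biprod.inl_fst
          inv_hom_id := biprod.hom_ext' _ _ (by simp [KS.sumL]) ((isZero_zero C).eq_of_src _ _) }
      exact ⟨[M], fun A hA => by rw [List.mem_singleton.1 hA]; exact ⟨hM, hfin⟩, ⟨e⟩⟩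
    simp only [Indec, h0, not_false_eq_true, true_and, not_forall, not_or] at hM
    obtain ⟨A, B, ⟨e⟩, hA, hB⟩ := hM
    haveI := (finite_of_biprod k e).1
    haveI := (finite_of_biprod k e).2
    have hpos : ∀ {Z : C} [Module.Finite k (Z ⟶ Z)], ¬ IsZero Z → 0 < Module.finrank k (Z ⟶ Z) := fun {Z} _ hZ => by
      haveI : Nontrivial (Z ⟶ Z) := ⟨⟨0, 𝟙 Z, fun h => hZ ((IsZero.iff_id_eq_zero Z).2 h.symm)⟩⟩
      exact Module.finrank_pos
    have := finrank_add_le k e
    have := hpos hA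
    have := hpos hB
    obtain ⟨l, hl, ⟨f⟩⟩ := ih (Module.finrank k (A ⟶ A)) (by omega) A ‹_› le_rfl
    obtain ⟨l', hl', ⟨f'⟩⟩ := ih (Module.finrank k (B ⟶ B)) (by omega) B ‹_› le_rfl
    obtain ⟨g⟩ := KS.nonempty_sumL_append l l'
    exact ⟨l ++ l', fun Z hZ => (List.mem_append.1 hZ).elim (hl Z) (hl' Z), ⟨e ≪≫ biprod.mapIso f f' ≪≫ g.symm⟩⟩

theorem nonempty_sumL_ofFn [HasFiniteCoproducts C] : ∀ {n : ℕ} (Fs : Fin n → C),
    Nonempty (KS.sumL (List.ofFn Fs) ≅ ∐ Fs)
  | 0, Fs => by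
    rw [List.ofFn_zero]
    exact ⟨{ hom := 0
             inv := 0
             hom_inv_id := (isZero_zero C).eq_of_src _ _
             inv_hom_id := Sigma.hom_ext _ _ fun i => i.elim0 }⟩
  | n + 1, Fs => by
    obtain ⟨e⟩ := nonempty_sumL_ofFn fun i : Fin n => Fs i.succ
    rw [List.ofFn_succ]
    refine ⟨{ hom := biprod.desc (Sigma.ι Fs 0) (e.hom ≫ Sigma.desc fun i => Sigma.ι Fs i.succ)
              inv := Sigma.desc (Fin.cases biprod.inl fun i => Sigma.ι (fun j : Fin n => Fs j.succ) i ≫ e.inv ≫ biprod.inr)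
              hom_inv_id := ?_
              inv_hom_id := ?_ }⟩
    · refine biprod.hom_ext' _ _ (by simp [KS.sumL]) ?_
      simp only [KS.sumL, biprod.inr_desc_assoc, Category.assoc, Category.comp_id]
      refine (Iso.cancel_iso_inv_left e _ _).1 ?_
      rw [e.inv_hom_id_assoc]
      refine Sigma.hom_ext _ _ fun i => ?_
      simp
    · refine Sigma.hom_ext _ _ fun i => ?_
      induction i using Fin.cases with
      | zero => simp [KS.sumL]
      | succ i => simp [KS.sumL]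

theorem ms_ofFn {n : ℕ} (Fs : Fin n → C) : KS.ms (List.ofFn Fs) = Finset.univ.val.map (fun i => KS.cl (Fs i)) := by
  rw [Fin.univ_val_map, KS.ms, List.map_ofFn]
  rfl

theorem exists_equiv_of_ms_eq {n m : ℕ} (Fs : Fin n → C) (Gs : Fin m → C)
    (h : KS.ms (List.ofFn Fs) = KS.ms (List.ofFn Gs)) :
    ∃ e : Fin n ≃ Fin m, ∀ i, Nonempty (Fs i ≅ Gs (e i)) := by
  classical
  rw [ms_ofFn, ms_ofFn] at h
  have hcard : ∀ c, Fintype.card {i // KS.cl (Fs i) = c} = Fintype.card {j // KS.cl (Gs j) = c} := fun c => by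
    have h1 := congrArg (Multiset.count c) h
    rw [Multiset.count_map, Multiset.count_map] at h1
    rw [Fintype.card_subtype, Fintype.card_subtype]
    simp only [Finset.card_def, Finset.filter_val, eq_comm (a := c)] at h1 ⊢
    exact h1
  let e := Equiv.ofFiberEquiv (f := fun i => KS.cl (Fs i)) (g := fun j => KS.cl (Gs j))
    fun c => Fintype.equivOfCardEq (hcard c)
  exact ⟨e, fun i => KS.cl_eq_iff.1 (Equiv.ofFiberEquiv_map (f := fun i => KS.cl (Fs i)) (g := fun j => KS.cl (Gs j)) _ i).symm⟩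

/-- Existence of a decomposition into indecomposables. -/
theorem exists_coprod (k : Type u) [Field k] [Linear k C] [IsIdempotentComplete C] [HasFiniteCoproducts C]
    (M : C) [Module.Finite k (M ⟶ M)] :
    ∃ (n : ℕ) (Fs : Fin n → C), (∀ i, Indec (Fs i) ∧ Module.Finite k (Fs i ⟶ Fs i)) ∧ Nonempty (M ≅ ∐ Fs) := by
  obtain ⟨l, hl, ⟨e⟩⟩ := exists_dec k M ‹_›
  obtain ⟨f⟩ := nonempty_sumL_ofFn (fun i : Fin l.length => l.get i)
  refine ⟨_, _, fun i => hl _ (List.get_mem l i), ⟨e ≪≫ eqToIso ?_ ≪≫ f⟩⟩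
  rw [List.ofFn_get]

/-- Uniqueness of decompositions into indecomposables. -/
theorem unique_coprod (k : Type u) [Field k] [Linear k C] [IsIdempotentComplete C] [HasFiniteCoproducts C]
    {M : C} [Module.Finite k (M ⟶ M)] {n m : ℕ} (Fs : Fin n → C) (Gs : Fin m → C)
    (hF : ∀ i, Indec (Fs i)) (hG : ∀ j, Indec (Gs j)) (eF : M ≅ ∐ Fs) (eG : M ≅ ∐ Gs) :
    ∃ e : Fin n ≃ Fin m, ∀ i, Nonempty (Fs i ≅ Gs (e i)) := by
  have key : ∀ {n : ℕ} (Fs : Fin n → C), (∀ i, Indec (Fs i)) → (M ≅ ∐ Fs) → ∀ A ∈ List.ofFn Fs, KS.Ind A := by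
    intro n Fs hF eF A hA
    classical
    obtain ⟨i, rfl⟩ := List.mem_ofFn.1 hA
    haveI := finite_of_retract k (Sigma.ι Fs i ≫ eF.inv)
      (eF.hom ≫ Sigma.desc fun j => if h : j = i then eqToHom (congrArg Fs h) else 0) (by simp)
    exact ind_of_indec k (hF i)
  obtain ⟨f⟩ := nonempty_sumL_ofFn Fs
  obtain ⟨g⟩ := nonempty_sumL_ofFn Gs
  exact exists_equiv_of_ms_eq Fs Gs (KS.ms_eq_of_iso (key Fs hF eF) (key Gs hG eG)
    (f ≪≫ eF.symm ≪≫ eG ≪≫ g.symm))

end Groth.Agent.ASBunKS
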