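import Groth.Agent.HomLib.Basic
import Groth.Agent.VBLib.Cst
import Groth.Agent.CurveLib.SmulPow
import Groth.Agent.EulerIneqLib.Basic
import Groth.Agent.ASBunKS.KSLin

/-!
# Homomorphisms of coherent modules on a proper scheme are finite-dimensional
-/

set_option autoImplicit false
set_option backward.isDefEq.respectTransparency false
set_option linter.style.haveILetI false

universe u

open CategoryTheory CategoryTheory.Limits AlgebraicGeometry TopologicalSpace Opposite
open Groth.Agent.VBLib

noncomputable section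

namespace Groth.Agent.ASBunKS

variable (k : Type u) [Field k] {X : Scheme.{u}} [X.Over (Spec (CommRingCat.of k))]

/-- Constants act on morphisms. -/
@[reducible] def homModule (M N : X.Modules) : Module k (M ⟶ N) where
  smul c φ := φ ≫ (cst k N c : N ⟶ N)
  one_smul φ := show φ ≫ (cst k N 1 : N ⟶ N) = φ by rw [cst_one, Category.comp_id]
  mul_smul a b φ := show φ ≫ (cst k N (a * b) : N ⟶ N) = (φ ≫ cst k N b) ≫ cst k N a by
    rw [cst_mul, Category.assoc]
  smul_zero c := show (0 : M ⟶ N) ≫ (cst k N c : N ⟶ N) = 0 from zero_comp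
  smul_add c φ ψ := show (φ + ψ) ≫ (cst k N c : N ⟶ N) = φ ≫ cst k N c + ψ ≫ cst k N c from
    Preadditive.add_comp _ _ _ _ _ _
  add_smul a b φ := show φ ≫ (cst k N (a + b) : N ⟶ N) = φ ≫ cst k N a + φ ≫ cst k N b by
    rw [cst_add]; exact Preadditive.comp_add _ _ _ _ _ _
  zero_smul φ := show φ ≫ (cst k N 0 : N ⟶ N) = 0 by rw [cst_zero]; exact comp_zero

/-- The category of modules is linear over the ground field. -/
@[reducible] def linMod : Linear k X.Modules where
  homModule := homModule k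
  smul_comp M N P r f g := show (f ≫ (cst k N r : N ⟶ N)) ≫ g = (f ≫ g) ≫ (cst k P r : P ⟶ P) by
    rw [Category.assoc, Category.assoc, cst_natural]
  comp_smul M N P f r g := show f ≫ (g ≫ (cst k P r : P ⟶ P)) = (f ≫ g) ≫ (cst k P r : P ⟶ P) by
    rw [Category.assoc]

theorem smul_def {M N : X.Modules} (c : k) (φ : M ⟶ N) :
    letI := linMod k (X := X)
    c • φ = φ ≫ (cst k N c : N ⟶ N) := rfl

theorem toHom_add {M N : X.Modules} (f g : Γ(RefHull.homSh M N, (⊤ : X.Opens))) :
    HomLib.toHom (f + g) = HomLib.toHom f + HomLib.toHom g := by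
  refine Scheme.Modules.hom_ext _ _ fun U => AddCommGrpCat.hom_ext (AddMonoidHom.ext fun m => ?_)
  show HomLib.ev (f + g) le_top m = (HomLib.toHom f + HomLib.toHom g).app U m
  rw [HomLib.ev_add, LinearMap.add_apply]
  rfl

theorem toHom_smul {M N : X.Modules} (c : k) (f : Γ(RefHull.homSh M N, (⊤ : X.Opens))) :
    HomLib.toHom ((show Γ(X, ⊤) from Coh.toGlobal (X ↘ Spec (CommRingCat.of k)) c) • f) =
      HomLib.toHom f ≫ (cst k N c : N ⟶ N) := by
  refine Scheme.Modules.hom_ext _ _ fun U => AddCommGrpCat.hom_ext (AddMonoidHom.ext fun m => ?_)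
  show HomLib.ev _ le_top m = (FactorOne.mulEnd N _).app U (HomLib.ev f le_top m)
  rw [FactorOne.mulEnd_app]
  refine HomLib.ext_germ _ _ fun x hx => ?_
  rw [HomLib.germ_ev, HomLib.germ_smul', HomLib.germ_ev]
  exact congrArg (· • f.1 ⟨x, trivial⟩ _) (X.presheaf.germ_res_apply _ x hx _).symm

variable [IsProper (X ↘ Spec (CommRingCat.of k))]

/-- Morphisms of coherent modules form a finite-dimensional space. -/
theorem finite_hom {M N : X.Modules} (hM : Coh.IsCoh M) (hN : Coh.IsCoh N) :
    letI := linMod k (X := X)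
    Module.Finite k (M ⟶ N) := by
  letI := linMod k (X := X)
  haveI := EulerIneqLib.isNoetherian_proper (X := X) k
  let H := RefHull.homSh M N
  haveI := EulerIneqLib.finite_HH (k := k) (HomLib.isCoh_homSh hM hN) 0
  let tg : k →+* Γ(X, ⊤) := Coh.toGlobal (X ↘ Spec (CommRingCat.of k))
  letI : Module k Γ(H, ⊤) := Module.compHom _ tg
  let e : Coh.HH X H 0 ≃ₗ[k] Γ(H, ⊤) :=
    { (CurveLib.secOf H) with map_smul' := fun r c => CurveLib.secOf_smul (k := k) H r c }
  haveI : Module.Finite k Γ(H, ⊤) := Module.Finite.equiv e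
  let Φ : Γ(H, ⊤) →ₗ[k] (M ⟶ N) :=
    { toFun := HomLib.toHom
      map_add' := toHom_add
      map_smul' := fun c f => toHom_smul k c f }
  exact Module.Finite.of_surjective Φ fun φ => ⟨RefHull.ofHom φ ⊤, HomLib.toHom_ofHom φ⟩

end Groth.Agent.ASBunKS
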