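import Groth.Agent.ASBunKS.TautCls
import Groth.Agent.S14215

/-!
# Decompositions for algebras of index two
-/

set_option autoImplicit false
set_option backward.isDefEq.respectTransparency false
set_option linter.style.haveILetI false
set_option linter.unusedSectionVars false

universe u

open CategoryTheory CategoryTheory.Limits AlgebraicGeometry
open Groth.Agent.BrauerClassLib

noncomputable section

namespace Groth.Agent.ASBunKS

theorem exists_sum_split {X : Scheme.{u}} {t : ℕ} (F : Fin t → X.Modules) (P : Fin t → Prop) :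
    ∃ (a b : ℕ) (σ : Fin a → Fin t) (τ : Fin b → Fin t), (∀ i, P (σ i)) ∧ (∀ i, ¬ P (τ i)) ∧
      Nonempty ((∐ F) ≅ (∐ fun i => F (σ i)) ⊞ (∐ fun i => F (τ i))) := by
  classical
  let α := (Fintype.equivFin {i // P i}).symm
  let β := (Fintype.equivFin {i // ¬ P i}).symm
  refine ⟨_, _, fun i => (α i).1, fun i => (β i).1, fun i => (α i).2, fun i => (β i).2, ⟨?_⟩⟩
  refine
    { hom := Sigma.desc fun i => if h : P i
        then eqToHom (by rw [Equiv.apply_symm_apply]) ≫ Sigma.ι (fun j => F (α j).1) (α.symm ⟨i, h⟩) ≫ biprod.inl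
        else eqToHom (by rw [Equiv.apply_symm_apply]) ≫ Sigma.ι (fun j => F (β j).1) (β.symm ⟨i, h⟩) ≫ biprod.inr
      inv := biprod.desc (Sigma.desc fun j => Sigma.ι F (α j).1) (Sigma.desc fun j => Sigma.ι F (β j).1)
      hom_inv_id := Sigma.hom_ext _ _ fun i => ?_
      inv_hom_id := biprod.hom_ext' _ _ (Sigma.hom_ext _ _ fun j => ?_) (Sigma.hom_ext _ _ fun j => ?_) }
  · have key : ∀ {x y : Fin t} (h : x = y), eqToHom (congrArg F h) ≫ Sigma.ι F y = Sigma.ι F x := by
      intro x y h; subst h; simp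
    by_cases h : P i
    · rw [Sigma.ι_desc_assoc, dif_pos h]
      simp only [Category.assoc, biprod.inl_desc, Sigma.ι_desc, Category.comp_id]
      exact key (by rw [Equiv.apply_symm_apply])
    · rw [Sigma.ι_desc_assoc, dif_neg h]
      simp only [Category.assoc, biprod.inr_desc, Sigma.ι_desc, Category.comp_id]
      exact key (by rw [Equiv.apply_symm_apply])
  · have key : ∀ {x y : _} (h : x = y), eqToHom (congrArg (fun j => F (α j).1) h) ≫ Sigma.ι (fun j => F (α j).1) y =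
        Sigma.ι (fun j => F (α j).1) x := by
      intro x y h; subst h; simp
    rw [biprod.inl_desc_assoc, Sigma.ι_desc_assoc, Sigma.ι_desc, Category.comp_id, dif_pos (α j).2, ← Category.assoc]
    exact congrArg (· ≫ biprod.inl) (key (α.symm_apply_apply j).symm)
  · have key : ∀ {x y : _} (h : x = y), eqToHom (congrArg (fun j => F (β j).1) h) ≫ Sigma.ι (fun j => F (β j).1) y =
        Sigma.ι (fun j => F (β j).1) x := by
      intro x y h; subst h; simp
    rw [biprod.inr_desc_assoc, Sigma.ι_desc_assoc, Sigma.ι_desc, Category.comp_id, dif_neg (β j).2, ← Category.assoc]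
    exact congrArg (· ≫ biprod.inr) (key (β.symm_apply_apply j).symm)

variable {k : Type u} [Field k] {A : Type u} [Ring A] [Algebra k A] [Algebra.IsCentral k A] [IsSimpleRing A]
  {X : Scheme.{u}} (f : X ⟶ Spec (CommRingCat.of k)) [IsProper f]

include f in
theorem decomposition_index_two {n : ℕ} (hn : 0 < n) (hA : Module.finrank k A = n * n)
    (hX : BrSev.IsSBOf k A (n * n - n) f) (K : Type u) [Field K] [Algebra k K] [IsAlgClosure k K]
    (e : BrSev.Splitting f K (n - 1)) (hi : CSAGal.IsIndex k A 2) {E : X.Modules} (hE : FlatMod.IsFinLocFree E)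
    {s₀ : ℕ} {Ns : Fin s₀ → (BrSev.bc f K).Modules} (hNs : ∀ i, PicF.IsInvertible (Ns i))
    (hsplit : Nonempty (BrSev.bcMod f K E ≅ ∐ Ns)) :
    ∃ (s t : ℕ) (Ls : Fin s → X.Modules) (Ms : Fin t → X.Modules) (a : Fin s → ℤ) (b : Fin t → ℤ),
      (∀ i, PicF.IsInvertible (Ls i) ∧ BrSev.IsTwPow e (2 * a i) 1 (Ls i)) ∧
      (∀ i, FlatMod.IsFinLocFree (Ms i) ∧ Indec (Ms i) ∧ BrSev.IsTwPow e (2 * b i + 1) 2 (Ms i)) ∧
      Nonempty (E ≅ (∐ Ls) ⊞ (∐ Ms)) := by
  haveI := IsAlgClosure.isAlgClosed k (K := K)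
  haveI : Module.Finite k A := Module.finite_of_finrank_pos (by rw [hA]; positivity)
  obtain ⟨T, Fs, js, rs, hFs, ⟨g⟩⟩ := S14215.result k A n hn hA f hX K e E hE s₀ Ns hNs hsplit
  obtain ⟨a, b, σ, τ, hσ, hτ, ⟨g'⟩⟩ := exists_sum_split Fs fun i => Even (js i)
  have h2 : cls (k := k) A ^ 2 = 1 := orderOf_dvd_iff_pow_eq_one.1 (orderOf_dvd_index hi)
  have hr : ∀ i, rs i = if Even (js i) then 1 else 2 := fun i => by
    obtain ⟨h1, h2'⟩ := csa_pi_fin (k := k) fun _ : Fin (js i).natAbs => A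
    have hI := isIndex_tpow hn hA hX e (hFs i).1 (hFs i).2.1 (hFs i).2.2.1 (hFs i).2.2.2
    split_ifs with he
    · obtain ⟨c, hc⟩ := Int.natAbs_even.2 he
      exact isIndex_eq_one hI (by rw [cls_tpow, hc, ← two_mul, pow_mul, h2, one_pow])
    · obtain ⟨c, hc⟩ := Int.natAbs_odd.2 (Int.not_even_iff_odd.1 he)
      have hc' : cls (k := k) (CSAGal.tpow k A (js i).natAbs) = cls A := by
        rw [cls_tpow, hc, pow_succ, pow_mul, h2, one_pow, one_mul]
      obtain ⟨D, _, _, _, _, hD, hcD⟩ := cls_of_isIndex hI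
      obtain ⟨D', _, _, _, _, hD', hcD'⟩ := cls_of_isIndex hi
      exact deg_eq_of_cls_eq hD hD' (hcD.symm.trans (hc'.trans hcD'))
  refine ⟨a, b, fun i => Fs (σ i), fun i => Fs (τ i), fun i => js (σ i) / 2, fun i => (js (τ i) - 1) / 2,
    fun i => ?_, fun i => ?_, ⟨g ≪≫ g'⟩⟩
  · have h := (hFs (σ i)).2.2.2
    rw [hr, if_pos (hσ i)] at h
    rw [Int.two_mul_ediv_two_of_even (hσ i)]
    exact ⟨isInvertible_of_type e (hFs (σ i)).1 h, h⟩
  · have h := (hFs (τ i)).2.2.2
    rw [hr, if_neg (hτ i)] at h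
    obtain ⟨c, hc⟩ := Int.not_even_iff_odd.1 (hτ i)
    rw [show 2 * ((js (τ i) - 1) / 2) + 1 = js (τ i) by omega]
    exact ⟨(hFs (τ i)).1, (hFs (τ i)).2.1, h⟩

end Groth.Agent.ASBunKS
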