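import Groth.Agent.ASBunKS.GalInv
import Groth.Agent.ASBunKS.Abstract

/-!
# Indecomposables that split into invariant invertible modules
-/

set_option autoImplicit false
set_option backward.isDefEq.respectTransparency false
set_option linter.style.haveILetI false
set_option linter.unusedSectionVars false

universe u

open CategoryTheory CategoryTheory.Limits AlgebraicGeometry
open W4c1astiltbs12 Groth.Agent.VBLib

noncomputable section

namespace Groth.Agent.ASBunKS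

theorem iso_of_retract_ind {C : Type*} [Category C] [Preadditive C] {A B : C} (hA : ¬ IsZero A) (hB : KS.Ind B)
    (a : A ⟶ B) (b : B ⟶ A) (hab : a ≫ b = 𝟙 A) : Nonempty (A ≅ B) := by
  haveI := hB.2
  rcases IsLocalRing.isUnit_or_isUnit_of_add_one (R := End B) (a := b ≫ a) (b := 𝟙 B - b ≫ a)
    (add_sub_cancel _ _) with h | h
  · haveI : IsIso (b ≫ a) := (isUnit_iff_isIso _).1 h
    refine ⟨⟨a, b, hab, ?_⟩⟩
    have h2 : (b ≫ a) ≫ (b ≫ a) = (b ≫ a) ≫ 𝟙 B := by simp [reassoc_of% hab]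
    exact (cancel_epi (b ≫ a)).1 h2
  · exfalso
    haveI : IsIso (𝟙 B - b ≫ a) := (isUnit_iff_isIso _).1 h
    have h2 : (𝟙 B - b ≫ a) ≫ b = 0 := by simp [Preadditive.sub_comp, hab]
    have hb : b = 0 := (cancel_epi (𝟙 B - b ≫ a)).1 (by rw [h2, comp_zero])
    exact hA ((IsZero.iff_id_eq_zero A).2 (by rw [← hab, hb, comp_zero]))

variable {k : Type u} [Field k] {X : Scheme.{u}} {f : X ⟶ Spec (CommRingCat.of k)}

theorem isotypical_of_invariant_summands [IsProper f] {K : Type u} [Field K] [Algebra k K] [IsSepClosure k K]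
    [ConnectedSpace ↥(W4bk4gw11416.baseChange f K)] {M : X.Modules} (hM : FlatMod.IsFinLocFree M) (hMi : Indec M)
    (n : ℕ) (Ls : Fin n → (W4bk4gw11416.baseChange f K).Modules) (hLs : ∀ i, PicF.IsInvertible (Ls i))
    (hinv : ∀ (σ : K ≃ₐ[k] K) (i : Fin n),
      Nonempty ((Scheme.Modules.pullback (galAct f K σ)).obj (Ls i) ≅ Ls i))
    (e : bcMod f K M ≅ ∐ Ls) :
    ∃ (L : (W4bk4gw11416.baseChange f K).Modules) (r : ℕ), PicF.IsInvertible L ∧ 0 < r ∧
      Nonempty (bcMod f K M ≅ pow L r) ∧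
      ∀ (L' : (W4bk4gw11416.baseChange f K).Modules) (r' : ℕ), PicF.IsInvertible L' →
        Nonempty (bcMod f K M ≅ pow L' r') → Nonempty (L' ≅ L) := by
  classical
  haveI : IsLocallyNoetherian X := LocallyOfFiniteType.isLocallyNoetherian f
  haveI : IsLocallyNoetherian (W4bk4gw11416.baseChange f K) :=
    LocallyOfFiniteType.isLocallyNoetherian (snd f K)
  have hMc := DCohLib.isCoh_of_isFinLocFree hM
  let P := Scheme.Modules.pullback (proj f K)
  have hbc0 : ¬ IsZero (bcMod f K M) := fun h => hMi.1 ((IsZero.iff_id_eq_zero M).2 <| by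
    haveI : Coh.IsQCoh M := hMc.1
    exact bc_faithful f K (𝟙 M) (h.eq_of_src _ _))
  have hn : 0 < n := by
    rcases Nat.eq_zero_or_pos n with rfl | h
    · exact absurd (((IsZero.iff_id_eq_zero _).2 (Sigma.hom_ext _ _ fun i => i.elim0)).of_iso e) hbc0
    · exact h
  let i₀ : Fin n := ⟨0, hn⟩
  obtain ⟨G, r, hG, hGi, hr, ⟨eG⟩⟩ := exists_indec_of_invariant
    (CurveLib.isFinLocFree_of_isInvertible (hLs i₀)) (indec_of_connected (hLs i₀)) fun σ => hinv σ i₀
  have hGc := DCohLib.isCoh_of_isFinLocFree hG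
  let u : Fin r → (bcMod f K G ⟶ bcMod f K M) := fun b => eG.hom ≫ pr _ b ≫ Sigma.ι Ls i₀ ≫ e.inv
  let v : Fin r → (bcMod f K M ⟶ bcMod f K G) := fun b => e.hom ≫ pr Ls i₀ ≫ Sigma.ι (fun _ : Fin r => Ls i₀) b ≫ eG.inv
  have hid : 𝟙 (bcMod f K G) = ∑ b ∈ Finset.univ, u b ≫ P.map (𝟙 M) ≫ v b := by
    simp only [u, v, P, CategoryTheory.Functor.map_id, Category.id_comp, Category.assoc, Iso.inv_hom_id_assoc,
      reassoc_of% ι_pr]
    calc 𝟙 (bcMod f K G) = eG.hom ≫ (∑ b, pr (fun _ : Fin r => Ls i₀) b ≫ Sigma.ι (fun _ : Fin r => Ls i₀) b) ≫ eG.inv := by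
          rw [pr_total, Category.id_comp, Iso.hom_inv_id]
      _ = _ := by simp only [Preadditive.sum_comp, Preadditive.comp_sum, Category.assoc]
  obtain ⟨κ, s, φ, ψ, hsum⟩ := exists_sum_of_bc f K hGc hMc (𝟙 M) Finset.univ u v hid
  have hGind := ind_of_indec' k f hGc hGi
  have hMind := ind_of_indec' k f hMc hMi
  obtain ⟨a, b, hab⟩ := retract_of_sum hGind (𝟙 G) (𝟙 G) (Category.id_comp _) (Finset.univ.sigma s)
    (fun x => φ x.1 x.2) (fun x => ψ x.1 x.2) (by
      rw [Finset.sum_sigma, hsum]; simp)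
  obtain ⟨g⟩ := iso_of_retract_ind hGi.1 hMind a b hab
  let eM : bcMod f K M ≅ pow (Ls i₀) r := (P.mapIso g).symm ≪≫ eG
  refine ⟨Ls i₀, r, hLs i₀, hr, ⟨eM⟩, fun L' r' hL' ⟨e'⟩ => ?_⟩
  have hr' : 0 < r' := by
    rcases Nat.eq_zero_or_pos r' with rfl | h
    · exact absurd (((IsZero.iff_id_eq_zero _).2 (Sigma.hom_ext _ _ fun i => i.elim0)).of_iso e') hbc0
    · exact h
  have hL'i := indec_of_connected hL'
  have hL'ind := ind_of_indec' K (snd f K)
    (DCohLib.isCoh_of_isFinLocFree (CurveLib.isFinLocFree_of_isInvertible hL')) hL'i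
  have hLind := ind_of_indec' K (snd f K)
    (DCohLib.isCoh_of_isFinLocFree (CurveLib.isFinLocFree_of_isInvertible (hLs i₀))) (indec_of_connected (hLs i₀))
  let j : L' ⟶ pow (Ls i₀) r := Sigma.ι (fun _ : Fin r' => L') ⟨0, hr'⟩ ≫ e'.inv ≫ eM.hom
  let q : pow (Ls i₀) r ⟶ L' := eM.inv ≫ e'.hom ≫ pr (fun _ : Fin r' => L') ⟨0, hr'⟩
  obtain ⟨a', b', hab'⟩ := retract_of_sum (C := (W4bk4gw11416.baseChange f K).Modules) hL'ind j q
    (by simp [j, q, ι_pr]) Finset.univ (fun b => pr (fun _ : Fin r => Ls i₀) b) (fun b => Sigma.ι (fun _ : Fin r => Ls i₀) b)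
    (pr_total (G := fun _ : Fin r => Ls i₀)).symm
  exact iso_of_retract_ind hL'i.1 hLind a' b' hab'

end Groth.Agent.ASBunKS
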