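import Groth.Agent.S16491
import Groth.Agent.S16081
import Groth.Agent.ASBunKS.Abstract
import Groth.Agent.ASBunKS.TwistPull
import Groth.Agent.ASBunKS.HomFinite
import Groth.Agent.FlatLocus.FreeNhd
import Groth.Agent.ProjSmoothLib.Basic
import Groth.Agent.CurveLib.GlobalFun

/-!
# Morphisms from a generically rank one module to twists
-/

set_option autoImplicit false
set_option backward.isDefEq.respectTransparency false
set_option linter.style.haveILetI false
set_option linter.unusedSectionVars false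

universe u

open CategoryTheory CategoryTheory.Limits AlgebraicGeometry TopologicalSpace Opposite
open Groth.Agent.ParaFLib Groth.Agent.PullbackMod Groth.Agent.RefOne

noncomputable section

namespace Groth.Agent.ASBunKS

variable {X : Scheme.{u}} {F L : X.Modules}

theorem isReflexive_invertible [IsLocallyNoetherian X] (hL : PicF.IsInvertible L) : RefHull.IsReflexive L := by
  refine (isReflexive_iff (CurveLib.isCoh_of_isInvertible hL)).2 fun x => ?_
  obtain ⟨e, he⟩ := exists_stalk_gen hL x
  exact Module.equiv (LinearEquiv.ofBijective (LinearMap.toSpanSingleton _ _ e) he)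

theorem oEquiv_germ {W : X.Opens} (x : X) (hx : x ∈ W) (a : Γ(X, W)) :
    oEquiv x (X.presheaf.germ W x hx a) =
      (Coh.structureModule X).presheaf.germ W x hx (show Γ(Coh.structureModule X, W) from a) := by
  show X.presheaf.germ W x hx a • oneG x = _
  have h1 : oneG x = (Coh.structureModule X).presheaf.germ W x hx (show Γ(Coh.structureModule X, W) from (1 : Γ(X, W))) := by
    rw [oneG, ← (Coh.structureModule X).presheaf.germ_res_apply (homOfLE (le_top : W ≤ ⊤)) x hx]
    exact congrArg _ (map_one (X.presheaf.map (homOfLE (le_top : W ≤ ⊤)).op).hom)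
  rw [h1, ← HomLib.germ_smul']
  exact congrArg _ (mul_one a)

/-- A functional times a section. -/
def mulSec {W : X.Opens} (θ : Γ(RefHull.homSh F (Coh.structureModule X), W)) (e : Γ(L, W)) :
    Γ(RefHull.homSh F L, W) :=
  ⟨fun x => (LinearMap.toSpanSingleton _ _ (L.presheaf.germ W x.1 x.2 e)).comp
      ((oEquiv x.1).symm.toLinearMap.comp (θ.1 x)), fun V i m x => by
    refine ⟨V, x.2, 𝟙 V, (show Γ(X, V) from HomLib.ev θ i.le m) • L.presheaf.map i.op e, fun y => ?_⟩
    rw [HomLib.germ_smul', L.presheaf.germ_res_apply i y.1 y.2 e]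
    refine congrArg (fun c : X.presheaf.stalk y.1 => c • L.presheaf.germ W y.1 (i.le y.2) e) ?_
    show (oEquiv y.1).symm _ = _
    rw [LinearEquiv.symm_apply_eq, oEquiv_germ]
    exact (HomLib.germ_ev θ i.le y.2 m).symm⟩

theorem mulSec_smul {W : X.Opens} (a b : Γ(X, W)) (θ : Γ(RefHull.homSh F (Coh.structureModule X), W)) (e : Γ(L, W)) :
    mulSec (a • θ) (b • e) = (a * b) • mulSec θ e := by
  refine HomLib.ext_stalk _ _ fun x hx => LinearMap.ext fun v => ?_
  show (oEquiv x).symm ((X.presheaf.germ W x hx a • θ.1 ⟨x, hx⟩) v) • L.presheaf.germ W x hx (b • e) =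
    X.presheaf.germ W x hx (a * b) • ((oEquiv x).symm (θ.1 ⟨x, hx⟩ v) • L.presheaf.germ W x hx e)
  rw [LinearMap.smul_apply, map_smul, HomLib.germ_smul', map_mul, smul_eq_mul, smul_smul, smul_smul]
  congr 1
  ring

theorem mulSec_res {W V : X.Opens} (h : V ≤ W) (θ : Γ(RefHull.homSh F (Coh.structureModule X), W)) (e : Γ(L, W)) :
    (RefHull.homSh F L).presheaf.map (homOfLE h).op (mulSec θ e) =
      mulSec ((RefHull.homSh F (Coh.structureModule X)).presheaf.map (homOfLE h).op θ)
        (L.presheaf.map (homOfLE h).op e) := by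
  refine HomLib.ext_stalk _ _ fun x hx => LinearMap.ext fun v => ?_
  show (oEquiv x).symm (θ.1 ⟨x, h hx⟩ v) • L.presheaf.germ W x (h hx) e = (oEquiv x).symm (θ.1 ⟨x, h hx⟩ v) • _
  rw [TopCat.Presheaf.germ_res_apply]

theorem gen_mulSec [IsLocallyNoetherian X] (hF : Coh.IsCoh F) (hLq : Coh.IsQCoh L) {W : X.Opens}
    {θ : Γ(RefHull.homSh F (Coh.structureModule X), W)} {e : Γ(L, W)} (hθ : Gen W θ) (he : Gen W e) :
    Gen W (mulSec θ e) := AmpleLib.gen_of_germ fun x hx => by
  have hb : Function.Bijective (homStalk hF hLq x) := (homStalk hF hLq x).bijective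
  let eL : X.presheaf.stalk x ≃ₗ[X.presheaf.stalk x] L.presheaf.stalk x :=
    LinearEquiv.ofBijective (LinearMap.toSpanSingleton _ _ (L.presheaf.germ W x hx e)) (he.bijective_germ x hx)
  let c : (RefHull.homSh F (Coh.structureModule X)).presheaf.stalk x ≃ₗ[X.presheaf.stalk x]
      (RefHull.homSh F L).presheaf.stalk x :=
    ((homStalk hF (DevLib.isCoh_structureModule X).1 x).trans
      (LinearEquiv.congrRight ((oEquiv x).symm.trans eL))).trans (homStalk hF hLq x).symm
  have hc : c ((RefHull.homSh F (Coh.structureModule X)).presheaf.germ W x hx θ) =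
      (RefHull.homSh F L).presheaf.germ W x hx (mulSec θ e) := by
    refine hb.1 ?_
    simp only [c, LinearEquiv.trans_apply, LinearEquiv.apply_symm_apply]
    refine LinearMap.ext fun v => ?_
    show eL ((oEquiv x).symm (RefHull.evalStalk F _ x ((RefHull.homSh F _).presheaf.germ W x hx θ) v)) =
      RefHull.evalStalk F L x ((RefHull.homSh F L).presheaf.germ W x hx (mulSec θ e)) v
    rw [RefHull.evalStalk_germ, RefHull.evalStalk_germ]
    rfl
  have hfun : (fun r : X.presheaf.stalk x => r • (RefHull.homSh F L).presheaf.germ W x hx (mulSec θ e)) =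
      c ∘ fun r : X.presheaf.stalk x => r • (RefHull.homSh F (Coh.structureModule X)).presheaf.germ W x hx θ :=
    funext fun r => by rw [Function.comp_apply, map_smul, hc]
  exact Eq.mpr (congrArg Function.Bijective hfun) (c.bijective.comp (hθ.bijective_germ x hx))

/-- Homomorphisms into an invertible module. -/
theorem nonempty_homSh_tensor [IsLocallyNoetherian X] (hF : Coh.IsCoh F)
    (hH : PicF.IsInvertible (RefHull.homSh F (Coh.structureModule X))) (hL : PicF.IsInvertible L) :
    Nonempty (CohB1.tensorMod (RefHull.homSh F (Coh.structureModule X)) L ≅ RefHull.homSh F L) := by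
  choose W θ hxW hθ using exists_gen_nhd hH
  choose W' e hxW' he using exists_gen_nhd hL
  let V : X → X.Opens := fun x => W x ⊓ W' x
  let H := RefHull.homSh F (Coh.structureModule X)
  let θ' : ∀ x, Γ(H, V x) := fun x => H.presheaf.map (homOfLE inf_le_left).op (θ x)
  let e' : ∀ x, Γ(L, V x) := fun x => L.presheaf.map (homOfLE inf_le_right).op (e x)
  have hθ' : ∀ x, Gen (V x) (θ' x) := fun x => (hθ x).res inf_le_left
  have he' : ∀ x, Gen (V x) (e' x) := fun x => (he x).res inf_le_right
  have hu : ∀ i j, ∃ a : Γ(X, V i ⊓ V j), H.presheaf.map (homOfLE inf_le_left).op (θ' i) =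
      a • H.presheaf.map (homOfLE inf_le_right).op (θ' j) := fun i j => by
    obtain ⟨a, -, ha⟩ := ((hθ' i).res inf_le_left).exists_unit ((hθ' j).res (inf_le_right : V i ⊓ V j ≤ V j))
    exact ⟨a, ha.symm⟩
  have hv : ∀ i j, ∃ a : Γ(X, V i ⊓ V j), L.presheaf.map (homOfLE inf_le_left).op (e' i) =
      a • L.presheaf.map (homOfLE inf_le_right).op (e' j) := fun i j => by
    obtain ⟨a, -, ha⟩ := ((he' i).res inf_le_left).exists_unit ((he' j).res (inf_le_right : V i ⊓ V j ≤ V j))
    exact ⟨a, ha.symm⟩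
  choose a ha using hu
  choose b hb using hv
  show Nonempty (DCohLib.tmod H L ≅ RefHull.homSh F L)
  refine nonempty_iso_of_bases (U := V) (s := fun x => DCohLib.pairS H L (θ' x) (e' x))
    (t := fun x => mulSec (θ' x) (e' x)) (eq_top_iff.2 fun x _ => Opens.mem_iSup.2 ⟨x, hxW x, hxW' x⟩)
    (fun x => AmpleLib.gen_pairS (hθ' x) (he' x))
    (fun x => gen_mulSec hF (CurveLib.isCoh_of_isInvertible hL).1 (hθ' x) (he' x)) (fun i j => a i j * b i j)
    (fun i j => ?_) fun i j => ?_
  · refine HomLib.ext_germ _ _ fun x hx => ?_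
    rw [TopCat.Presheaf.germ_res_apply, HomLib.germ_smul', TopCat.Presheaf.germ_res_apply, AmpleLib.germ_pairS,
      AmpleLib.germ_pairS, ← H.presheaf.germ_res_apply (homOfLE inf_le_left) x hx (θ' i), ha,
      ← L.presheaf.germ_res_apply (homOfLE inf_le_left) x hx (e' i), hb, HomLib.germ_smul', HomLib.germ_smul',
      TopCat.Presheaf.germ_res_apply, TopCat.Presheaf.germ_res_apply, ← TensorProduct.smul_tmul',
      TensorProduct.tmul_smul, smul_smul, map_mul]
    simp only [θ', e', TopCat.Presheaf.germ_res_apply]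
    exact (DCohLib.stalkTensor x H L).map_smul _ _
  · rw [mulSec_res, ha, hb, mulSec_smul, mulSec_res]

theorem genInvertible_of_free [IsIntegral X] [IsLocallyNoetherian X] {H : X.Modules} (hH : Coh.IsCoh H)
    (h : Nonempty (X.presheaf.stalk (genericPoint X) ≃ₗ[X.presheaf.stalk (genericPoint X)]
      H.presheaf.stalk (genericPoint X))) : RefHull.GenInvertible H := by
  haveI := hH.1
  obtain ⟨l⟩ := h
  obtain ⟨U, n, hU, ⟨e⟩⟩ := FlatLocus.exists_free_nhd H (QCohLib.isFP_of_isCoh _ hH) (genericPoint X)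
    (Module.Flat.of_linearEquiv l.symm)
  refine ⟨U, IsOpen.dense U.2 ⟨_, hU⟩, ?_⟩
  obtain ⟨l'⟩ := freeAt_of_restrict_iso H e hU
  obtain rfl : n = 1 := by
    have := (l.trans l').finrank_eq
    rw [Module.finrank_self, Module.finrank_fin_fun] at this
    exact this.symm
  exact ParaFLib.isInvertible_of_iso (e ≪≫ coproductUniqueIso fun _ : Fin 1 => Coh.structureModule (U : Scheme.{u})).symm
    ParaFLib.isInvertible_structureModule

/-- A generically rank one module has, into one invertible module, only one morphism up to constants. -/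
theorem exists_hom_one {K : Type u} [Field K] {Y : Scheme.{u}} (q : Y ⟶ Spec (CommRingCat.of K)) [IsIntegral Y]
    [Smooth q] (hO : Function.Bijective (Coh.toGlobal (A := K) q)) {F : Y.Modules} (hF : Coh.IsCoh F)
    (hη : Nonempty (Y.presheaf.stalk (genericPoint Y) ≃ₗ[Y.presheaf.stalk (genericPoint Y)]
      F.presheaf.stalk (genericPoint Y))) :
    ∃ (T : Y.Modules) (β : F ⟶ T), PicF.IsInvertible T ∧ β ≠ 0 ∧
      ∀ φ : F ⟶ T, ∃ c : K, φ = β ≫ (cE q T c : _ ⟶ _) := by
  haveI : IsLocallyNoetherian Y := LocallyOfFiniteType.isLocallyNoetherian q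
  letI : Y.Over (Spec (CommRingCat.of K)) := ⟨q⟩
  haveI : Smooth (Y ↘ Spec (CommRingCat.of K)) := ‹Smooth q›
  have hreg : ∀ x : Y, IsRegularLocalRing (Y.presheaf.stalk x) := CurveLib.isRegularLocalRing_stalk_of_smooth (k := K)
  let O := Coh.structureModule Y
  let H := RefHull.homSh F O
  have hOc : Coh.IsCoh O := DevLib.isCoh_structureModule Y
  have hHc : Coh.IsCoh H := HomLib.isCoh_homSh hF hOc
  obtain ⟨l⟩ := hη
  have hHi : PicF.IsInvertible H := S16491.result Y hreg H hHc
    (S16081.result Y F O hF hOc (isReflexive_invertible ParaFLib.isInvertible_structureModule))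
    (genInvertible_of_free hHc ⟨((dualStalk hF (genericPoint Y)).trans (l.dualMap.trans
      (LinearMap.ringLmapEquivSelf _ _ _))).symm⟩)
  obtain ⟨T, hT, ⟨z⟩⟩ := AmpleEmb.exists_isInverseOf hHi
  obtain ⟨μ⟩ := nonempty_homSh_tensor hF hHi hT
  let w : RefHull.homSh F T ≅ O := μ.symm ≪≫ z
  let u : Γ(RefHull.homSh F T, ⊤) := w.inv.app ⊤ (1 : Γ(Y, ⊤))
  refine ⟨T, HomLib.toHom u, hT, fun h => ?_, fun φ => ?_⟩
  · have h1 : u = 0 := by
      rw [← HomLib.ofHom_toHom u, h]
      refine HomLib.ext_stalk _ _ fun x hx => LinearMap.ext fun v => ?_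
      obtain ⟨U, hxU, m, rfl⟩ := TopCat.Presheaf.exists_germ_eq F.presheaf v
      rw [RefHull.ofHom_apply, RefHull.stalkMapₗ_germ, Scheme.Modules.Hom.zero_app]
      simp
    have h2 := congrArg (w.hom.app ⊤) h1
    rw [map_zero] at h2
    have h3 : (1 : Γ(Y, ⊤)) = 0 := by
      refine Eq.trans ?_ h2
      exact (ConcreteCategory.congr_hom (congrArg (fun t => Scheme.Modules.Hom.app t ⊤) w.inv_hom_id) _).symm
    haveI : Nonempty (⊤ : Y.Opens) := ⟨⟨genericPoint Y, trivial⟩⟩
    exact one_ne_zero h3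
  · let g : Γ(Y, ⊤) := w.hom.app ⊤ (RefHull.ofHom φ ⊤)
    obtain ⟨c, hc⟩ := hO.2 g
    refine ⟨c, ?_⟩
    have hu : RefHull.ofHom φ ⊤ = g • u := by
      have h1 := (Scheme.Modules.Hom.app_smul w.inv g (show Γ(O, ⊤) from (1 : Γ(Y, ⊤)))).symm
      refine Eq.trans ?_ h1.symm
      rw [show g • (show Γ(O, ⊤) from (1 : Γ(Y, ⊤))) = (show Γ(O, ⊤) from g) from mul_one g]
      exact (ConcreteCategory.congr_hom (congrArg (fun t => Scheme.Modules.Hom.app t ⊤) w.hom_inv_id) _).symm
    rw [← HomLib.toHom_ofHom φ, hu]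
    refine Eq.trans ?_ (ASBunKS.toHom_smul (k := K) c u)
    rw [show (show Γ(Y, ⊤) from Coh.toGlobal (Y ↘ Spec (CommRingCat.of K)) c) = g from hc]

end Groth.Agent.ASBunKS
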