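import Groth.Agent.ASBunKS.InvSummands
import Groth.Agent.ASBunKS.FinLocalAlg
import Groth.Agent.ASBunKS.EndBC
import Groth.Agent.KVbLib.ClopenMod
import Groth.Agent.PBundleLib.Split
import Groth.Agent.S10949
import Groth.Agent.CurveLib.Inv

/-!
# Indecomposable modules that are not geometrically indecomposable, over a finite field
-/

set_option autoImplicit false
set_option backward.isDefEq.respectTransparency false
set_option linter.style.haveILetI false
set_option linter.unusedSectionVars false

universe u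

open CategoryTheory CategoryTheory.Limits AlgebraicGeometry TopologicalSpace
open W4c1astiltbs12
open Groth.Agent.VBLib Groth.Agent.PullbackMod
open scoped TensorProduct

noncomputable section

namespace Groth.Agent.ASBunKS

variable {k : Type u} [Field k] {X : Scheme.{u}} (p : X ⟶ Spec (CommRingCat.of k))

/-- A field acting on a module of rank `r` with a rational point has degree dividing `r`. -/
theorem exists_card_pow [Finite k] (O : Spec (CommRingCat.of k) ⟶ X) {E : X.Modules} {r : ℕ}
    (hE : FlatMod.IsFinLocFreeOfRank r E) {F : Type u} [Field F] [Finite F] (φ : F →+* End E) :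
    ∃ m : ℕ, Nat.card F ^ m = Nat.card k ^ r := by
  classical
  let P := Scheme.Modules.pullback O
  haveI : P.Additive := Functor.additive_of_preserves_binary_products P
  let W := P.obj E
  have hW : FlatMod.IsFinLocFreeOfRank r W := PBundleLib.isFinLocFreeOfRank_pullback O hE
  have hWf := KVb.isFinLocFree_of_rank hW
  let x : Spec (CommRingCat.of k) := IsLocalRing.closedPoint k
  obtain ⟨e⟩ := KVb.isFinLocFree_freeAt hWf x
  rw [(KVb.isFinLocFreeOfRank_iff hWf r).1 hW x] at e
  let V := W.presheaf.stalk x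
  have hO : Nat.card ((Spec (CommRingCat.of k)).presheaf.stalk x) = Nat.card k := by
    refine (Nat.card_congr (StructureSheaf.stalkIso k x).toEquiv).symm.trans ?_
    exact (Nat.card_congr (Equiv.ofBijective _
      ((Field.toIsField k).localization_map_bijective (Rₘ := Localization.AtPrime x.asIdeal)
        (fun h : (0 : k) ∈ x.asIdeal.primeCompl => h x.asIdeal.zero_mem)))).symm
  have hV : Nat.card V = Nat.card k ^ r := by
    rw [Nat.card_congr e.toEquiv, Nat.card_fun, hO, Nat.card_fin]
  haveI : Finite V := Nat.finite_of_card_ne_zero (hV ▸ pow_ne_zero _ Nat.card_pos.ne')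
  let ρ : End E →+* AddMonoid.End V :=
    { toFun := fun f => (stalkLin (P.map f) x).toAddMonoidHom
      map_one' := AddMonoidHom.ext fun v => by
        show stalkLin (P.map (𝟙 E)) x v = v
        rw [P.map_id, S10949.stalkLin_id]; rfl
      map_mul' := fun f g => AddMonoidHom.ext fun v => by
        show stalkLin (P.map ((g : E ⟶ E) ≫ f)) x v = stalkLin (P.map f) x (stalkLin (P.map g) x v)
        rw [P.map_comp, stalkLin_comp]; rfl
      map_zero' := AddMonoidHom.ext fun v => by
        show stalkLin (P.map (0 : E ⟶ E)) x v = 0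
        rw [P.map_zero, (eq_zero_iff_stalk (0 : P.obj E ⟶ P.obj E)).1 rfl x]; rfl
      map_add' := fun f g => AddMonoidHom.ext fun v => by
        show stalkLin (P.map ((f : E ⟶ E) + g)) x v = stalkLin (P.map f) x v + stalkLin (P.map g) x v
        rw [P.map_add, S10949.stalkLin_add]; rfl }
  letI : Module F V := Module.compHom V (ρ.comp φ)
  exact ⟨Module.finrank F V, by rw [← hV, Module.natCard_eq_pow_finrank (K := F) (V := V)]⟩

/-- With residue field the ground field, the module is geometrically indecomposable. -/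
theorem indec_bc_of_decomp [IsProper p] {E : X.Modules} (hE : Coh.IsCoh E) (hEi : Indec E) (K : Type u) [Field K]
    [Algebra k K] (J : Ideal (End E)) [J.IsTwoSided] {n : ℕ} (hn : J ^ n = ⊥)
    (hdec : letI := endAlg p E; ∀ a : End E, ∃ c : k, a - algebraMap k (End E) c ∈ J)
    (A B : (W4bk4gw11416.baseChange p K).Modules) (e : bcMod p K E ≅ A ⊞ B) : IsZero A ∨ IsZero B := by
  haveI : Coh.IsQCoh E := hE.1
  haveI : Nontrivial (End E) := ⟨⟨1, 0, fun h => hEi.1 ((IsZero.iff_id_eq_zero E).2 h)⟩⟩
  letI := endAlg p E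
  letI := endAlg (snd p K) (bcMod p K E)
  let ε : End (bcMod p K E) := e.hom ≫ biprod.fst ≫ biprod.inl ≫ e.inv
  obtain ⟨z, hz⟩ := (bijective_endBC p K E hE).2 ε
  have hzz : z * z = z := (bijective_endBC p K E hE).1 (by
    rw [map_mul, hz]; show (ε : _ ⟶ _) ≫ ε = ε; simp [ε])
  rcases idem_trivial K J hn hdec hzz with rfl | rfl
  · left
    rw [map_zero] at hz
    rw [IsZero.iff_id_eq_zero]
    have h1 := congrArg (fun t : bcMod p K E ⟶ bcMod p K E => biprod.inl ≫ e.inv ≫ t ≫ e.hom ≫ biprod.fst) hz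
    simpa [ε] using h1.symm
  · right
    rw [map_one] at hz
    rw [IsZero.iff_id_eq_zero]
    have h1 := congrArg (fun t : bcMod p K E ⟶ bcMod p K E => biprod.inr ≫ e.inv ≫ t ≫ e.hom ≫ biprod.snd) hz
    simpa [ε] using h1

/-- The residue field of the endomorphisms is the extension of degree the rank. -/
theorem exists_section_of_nonGeom [Finite k] [IsProper p] {E : X.Modules} {r : ℕ} (hr : r.Prime)
    (O : Spec (CommRingCat.of k) ⟶ X) (hE : FlatMod.IsFinLocFreeOfRank r E) (hEi : Indec E)
    (L : Type u) [Field L] [Algebra k L] (A B : (W4bk4gw11416.baseChange p L).Modules)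
    (hA : ¬ IsZero A) (hB : ¬ IsZero B) (e : bcMod p L E ≅ A ⊞ B)
    (K : Type u) [Field K] [Algebra k K] (hK : Module.finrank k K = r) :
    letI := endAlg p E
    ∃ (π : End E →ₐ[k] K) (τ : K →ₐ[k] End E), Function.Surjective π ∧ (∀ x, π (τ x) = x) ∧
      ∀ a, π a = 0 → IsNilpotent a := by
  classical
  letI := endAlg p E
  haveI : IsLocallyNoetherian X := LocallyOfFiniteType.isLocallyNoetherian p
  have hEc : Coh.IsCoh E := DCohLib.isCoh_of_isFinLocFree (KVb.isFinLocFree_of_rank hE)
  haveI : IsLocalRing (End E) := (ind_of_indec' k p hEc hEi).2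
  haveI : Module.Finite k (End E) := finite_endAlg p hEc
  haveI : FiniteDimensional k K := Module.finite_of_finrank_pos (hK ▸ hr.pos)
  obtain ⟨F, iF, iA, π, hπ, hFfin, n, hn⟩ := exists_residue k (End E)
  haveI : Finite F := Module.finite_of_finite k
  haveI : Finite K := Module.finite_of_finite k
  have hnil : ∀ a, π a = 0 → IsNilpotent a := fun a ha => ⟨n, by
    have : a ^ n ∈ RingHom.ker π ^ n := Ideal.pow_mem_pow (RingHom.mem_ker.2 ha) n
    rwa [hn, Submodule.mem_bot] at this⟩
  obtain ⟨τ, hτ⟩ := exists_section π hπ hnil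
  obtain ⟨m, hm⟩ := exists_card_pow O hE τ.toRingHom
  rw [Module.natCard_eq_pow_finrank (K := k) (V := F), ← pow_mul] at hm
  have hdm : Module.finrank k F * m = r := Nat.pow_right_injective Finite.one_lt_card hm
  rcases (Nat.dvd_prime hr).1 ⟨m, hdm.symm⟩ with hd | hd
  · exfalso
    refine (indec_bc_of_decomp p hEc hEi L (RingHom.ker π) hn (fun a => ?_) A B e).elim hA hB
    have hbot : (⊥ : Subalgebra k F) = ⊤ := Subalgebra.bot_eq_top_of_finrank_eq_one hd
    have ha : π a ∈ (⊥ : Subalgebra k F) := hbot ▸ Algebra.mem_top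
    obtain ⟨c, hc⟩ := Algebra.mem_bot.1 ha
    exact ⟨c, by rw [RingHom.mem_ker, map_sub, AlgHom.commutes, ← hc, sub_self]⟩
  · obtain ⟨j⟩ := (FiniteField.nonempty_algHom_iff_finrank_dvd (F := k) (K := F) (L := K)).2 (by rw [hd, hK])
    have hj : Function.Bijective j.toLinearMap := by
      haveI : FiniteDimensional k F := hFfin
      exact ⟨j.toRingHom.injective, (LinearMap.injective_iff_surjective_of_finrank_eq_finrank (hd.trans hK.symm)).1
        j.toRingHom.injective⟩
    let i := AlgEquiv.ofBijective j hj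
    exact ⟨i.toAlgHom.comp π, τ.comp i.symm.toAlgHom, i.surjective.comp hπ, fun x => by simp [hτ],
      fun a ha => hnil a (i.injective (ha.trans (map_zero i).symm))⟩

/-- Base changed morphisms are independent over the extension. -/
theorem eq_zero_of_sum_bc (K : Type u) [Field K] [Algebra k K] {M N : X.Modules} [Coh.IsQCoh N] {ι : Type u}
    (b : Module.Basis ι k K) (s : Finset ι) (f : ι → (M ⟶ N))
    (h : ∑ i ∈ s, (Scheme.Modules.pullback (proj p K)).map (f i) ≫
      (cE (snd p K) (bcMod p K N) (b i) : bcMod p K N ⟶ bcMod p K N) = 0) :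
    ∀ i ∈ s, f i = 0 := by
  classical
  let adj := Scheme.Modules.pullbackPushforwardAdjunction (proj p K)
  let Q := Scheme.Modules.pushforward (proj p K)
  haveI : Q.Additive := Functor.additive_of_preserves_binary_products Q
  have h1 : ∑ i ∈ s, f i ≫ inc p K N (b i) = 0 := by
    have h0 := congrArg (fun t => adj.unit.app M ≫ Q.map t) h
    simp only [Functor.map_sum, Preadditive.comp_sum, Functor.map_zero, comp_zero] at h0
    refine Eq.trans (Finset.sum_congr rfl fun i _ => ?_) h0
    rw [Functor.map_comp, ← Category.assoc]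
    refine (Category.assoc _ _ _).symm.trans ?_
    exact congrArg (· ≫ _) (adj.unit.naturality (f i))
  intro j hj
  have h2 := congrArg (· ≫ retr p K N (b.coord j)) h1
  rw [Preadditive.sum_comp, zero_comp, Finset.sum_eq_single j] at h2
  · rw [Category.assoc, inc_comp_retr, show b.coord j (b j) = 1 by simp, cE_one] at h2
    exact (Category.comp_id _).symm.trans h2
  · intro i _ hi
    rw [Category.assoc, inc_comp_retr, show b.coord j (b i) = 0 by simp [Finsupp.single_eq_of_ne (Ne.symm hi)],
      cE_zero]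
    exact comp_zero
  · intro h; exact absurd hj h

variable (K : Type u) [Field K] [Algebra k K]

theorem isInvertible_of_splitting [ConnectedSpace ↥(W4bk4gw11416.baseChange p K)] {E : X.Modules} {r : ℕ}
    (hE : FlatMod.IsFinLocFreeOfRank r E) {ι : Type*} [Fintype ι] [DecidableEq ι] (hcard : Fintype.card ι = r)
    (N : ι → (W4bk4gw11416.baseChange p K).Modules) (inj : ∀ g, N g ⟶ bcMod p K E) (prj : ∀ g, bcMod p K E ⟶ N g)
    (hij : ∀ g h, inj g ≫ prj h = if e : g = h then eqToHom (by rw [e]) else 0)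
    (htot : ∑ g, prj g ≫ inj g = 𝟙 _) (hne : ∀ g, ¬ IsZero (N g)) : ∀ g, PicF.IsInvertible (N g) := by
  classical
  have hWr : FlatMod.IsFinLocFreeOfRank r (bcMod p K E) := PBundleLib.isFinLocFreeOfRank_pullback _ hE
  have hWf := KVb.isFinLocFree_of_rank hWr
  have hN : ∀ g, FlatMod.IsFinLocFree (N g) := fun g =>
    DCohLib.isFinLocFree_of_retract (inj g) (prj g) (by simp [hij]) hWf
  have hsum : ∀ x, ∑ g, fibreRank (N g) x = r := fun x => by
    let R := (W4bk4gw11416.baseChange p K).presheaf.stalk x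
    have hcomp : ∀ g h (z : (N g).presheaf.stalk x), stalkLin (prj h) x (stalkLin (inj g) x z) =
        stalkLin (inj g ≫ prj h) x z := fun g h z => by rw [stalkLin_comp]; rfl
    let T : (bcMod p K E).presheaf.stalk x ≃ₗ[R] ∀ g, (N g).presheaf.stalk x :=
      { toFun := fun z g => stalkLin (prj g) x z
        map_add' := fun a b => funext fun g => map_add _ a b
        map_smul' := fun c a => funext fun g => map_smul _ c a
        invFun := fun w => ∑ g, stalkLin (inj g) x (w g)
        left_inv := fun z => by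
          show ∑ g, stalkLin (inj g) x (stalkLin (prj g) x z) = z
          simp only [← LinearMap.comp_apply, ← stalkLin_comp]
          rw [← LinearMap.sum_apply, ← S10949.stalkLin_sum, htot, S10949.stalkLin_id]
          rfl
        right_inv := fun w => funext fun h => by
          show stalkLin (prj h) x (∑ g, stalkLin (inj g) x (w g)) = w h
          rw [map_sum, Finset.sum_eq_single h]
          · rw [hcomp, hij, dif_pos rfl, eqToHom_refl, S10949.stalkLin_id]; rfl
          · intro g _ hg
            rw [hcomp, hij, dif_neg hg, (eq_zero_iff_stalk (0 : N g ⟶ N h)).1 rfl x]; rfl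
          · simp }
    have eg' := fun g => KVb.isFinLocFree_freeAt (hN g) x
    let eg := fun g => (eg' g).some
    obtain ⟨eW⟩ := KVb.isFinLocFree_freeAt hWf x
    rw [(KVb.isFinLocFreeOfRank_iff hWf r).1 hWr x] at eW
    haveI : ∀ g, Module.Free R ((N g).presheaf.stalk x) := fun g => Module.Free.of_equiv (eg g).symm
    haveI : ∀ g, Module.Finite R ((N g).presheaf.stalk x) := fun g => Module.Finite.equiv (eg g).symm
    have h := (T.symm.trans eW).finrank_eq
    rw [Module.finrank_pi_fintype, Module.finrank_fin_fun] at h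
    rw [← h]
    exact Finset.sum_congr rfl fun g _ => by rw [(eg g).finrank_eq, Module.finrank_fin_fun]
  have hpos : ∀ g x, 1 ≤ fibreRank (N g) x := fun g x => by
    haveI := (isQCoh_and_isFP_of_isFinLocFree (N g) (hN g)).1
    by_contra h
    refine hne g (KVb.isZero_of_rank_zero (hN g) fun y => ?_)
    rw [(isFinLocFree_isLocallyConstant (N g) (hN g)).apply_eq_of_preconnectedSpace y x]
    omega
  intro g
  refine VBLib.isInvertible_of_rank ((KVb.isFinLocFreeOfRank_iff (hN g) 1).2 fun x => ?_)
  refine le_antisymm ?_ (hpos g x)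
  by_contra h
  have hlt : ∑ _h : ι, 1 < ∑ g, fibreRank (N g) x :=
    Finset.sum_lt_sum (fun g _ => hpos g x) ⟨g, Finset.mem_univ g, not_le.1 h⟩
  simp [hsum x, hcard] at hlt

/-- The splitting over the extension of degree the rank. -/
theorem exists_splitting [Finite k] [IsProper p] [GeometricallyIntegral p] {E : X.Modules} {r : ℕ} (hr : r.Prime)
    (O : Spec (CommRingCat.of k) ⟶ X) (hE : FlatMod.IsFinLocFreeOfRank r E) (hEi : Indec E)
    (L : Type u) [Field L] [Algebra k L] (A B : (W4bk4gw11416.baseChange p L).Modules)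
    (hA : ¬ IsZero A) (hB : ¬ IsZero B) (e : bcMod p L E ≅ A ⊞ B) (hK : Module.finrank k K = r) :
    ∃ (N : Fin r → (W4bk4gw11416.baseChange p K).Modules) (i : bcMod p K E ≅ ∐ N),
      (∀ a, PicF.IsInvertible (N a)) ∧ (∀ a b, a ≠ b → ¬ Nonempty (N a ≅ N b)) ∧
      (∀ a (M : X.Modules), PicF.IsInvertible M → ¬ Nonempty (N a ≅ bcMod p K M)) ∧
      (∀ (F : X.Modules) (v : F ⟶ E), v ≠ 0 → ∀ a,
        (Scheme.Modules.pullback (proj p K)).map v ≫ i.hom ≫ pr N a ≠ 0) ∧
      (∀ (F : X.Modules), Coh.IsQCoh F → ∀ (w : E ⟶ F), w ≠ 0 → ∀ a,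
        Sigma.ι N a ≫ i.inv ≫ (Scheme.Modules.pullback (proj p K)).map w ≠ 0) ∧
      (letI := endAlg p E; Nonempty (K ≃ₐ[k] End E)) := by
  classical
  letI := endAlg p E
  letI := endAlg (snd p K) (bcMod p K E)
  haveI : IsIntegral X := GeometricallyIntegral.isIntegral_of_subsingleton p
  haveI : IsIntegral (W4bk4gw11416.baseChange p K) := isIntegral_bc p K
  haveI : IsLocallyNoetherian X := LocallyOfFiniteType.isLocallyNoetherian p
  have hEc : Coh.IsCoh E := DCohLib.isCoh_of_isFinLocFree (KVb.isFinLocFree_of_rank hE)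
  haveI : Coh.IsQCoh E := hEc.1
  haveI : FiniteDimensional k K := Module.finite_of_finrank_pos (hK ▸ hr.pos)
  obtain ⟨π, τ, hπs, hπτ, hnil⟩ := exists_section_of_nonGeom p hr O hE hEi L A B hA hB e K hK
  haveI : Finite K := Module.finite_of_finite k
  haveI : IsGalois k K := inferInstance
  haveI : Nontrivial (End E) := ⟨⟨1, 0, fun h => hEi.1 ((IsZero.iff_id_eq_zero E).2 h)⟩⟩
  let G := K ≃ₐ[k] K
  have hG : Fintype.card G = r := by rw [Fintype.card_eq_nat_card, IsGalois.card_aut_eq_finrank, hK]
  let P := Scheme.Modules.pullback (proj p K)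
  haveI : P.Additive := Functor.additive_of_preserves_binary_products P
  let Φ := endBC p K E
  let Ψ : K ⊗[k] K →ₐ[K] End (bcMod p K E) := Φ.comp (Algebra.TensorProduct.map (AlgHom.id K K) τ)
  have hΨt : ∀ c x, (Ψ (c ⊗ₜ[k] x) : bcMod p K E ⟶ bcMod p K E) =
      P.map (τ x) ≫ (cE (snd p K) (bcMod p K E) c : bcMod p K E ⟶ bcMod p K E) := fun c x => by
    show (Φ (Algebra.TensorProduct.map (AlgHom.id K K) τ (c ⊗ₜ[k] x)) : _ ⟶ _) = _
    rw [Algebra.TensorProduct.map_tmul]
    exact endBC_tmul p K E c (τ x)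
  let b := Module.Free.chooseBasis k K
  have hτinj : ∀ (x : K), x ≠ 0 → IsIso (τ x : E ⟶ E) := fun x hx =>
    (isUnit_iff_isIso _).1 ((isUnit_iff_ne_zero.2 hx).map τ)
  have hgne : ∀ (F : X.Modules) (v : F ⟶ E), v ≠ 0 → ∀ g, P.map v ≫ (Ψ (galIdem k K g) : _ ⟶ _) ≠ 0 := by
    intro F v hv g h
    obtain ⟨s, hs⟩ := TensorProduct.eq_repr_basis_left b (galIdem k K g)
    rw [← hs, Finsupp.sum, map_sum] at h
    have h1 : ∀ i ∈ s.support, v ≫ (τ (s i) : E ⟶ E) = 0 :=
      eq_zero_of_sum_bc p K b s.support (fun i => v ≫ (τ (s i) : E ⟶ E)) (by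
        refine Eq.trans ?_ h
        refine Eq.trans (Finset.sum_congr rfl fun i _ => ?_) (Preadditive.comp_sum _ _ _).symm
        rw [hΨt, P.map_comp, Category.assoc])
    refine galIdem_ne_zero k K g ?_
    rw [← hs, Finsupp.sum]
    refine Finset.sum_eq_zero fun i hi => absurd (h1 i hi) ?_
    haveI := hτinj _ (Finsupp.mem_support_iff.1 hi)
    exact fun h2 => hv (by rw [← cancel_mono (τ (s i) : E ⟶ E), h2, zero_comp])
  have hgne' : ∀ (F : X.Modules), Coh.IsQCoh F → ∀ (w : E ⟶ F), w ≠ 0 → ∀ g,
      (Ψ (galIdem k K g) : _ ⟶ _) ≫ P.map w ≠ 0 := by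
    intro F hF w hw g h
    haveI := hF
    obtain ⟨s, hs⟩ := TensorProduct.eq_repr_basis_left b (galIdem k K g)
    rw [← hs, Finsupp.sum, map_sum] at h
    have h1 : ∀ i ∈ s.support, (τ (s i) : E ⟶ E) ≫ w = 0 :=
      eq_zero_of_sum_bc p K b s.support (fun i => (τ (s i) : E ⟶ E) ≫ w) (by
        refine Eq.trans ?_ h
        refine Eq.trans (Finset.sum_congr rfl fun i _ => ?_) (Preadditive.sum_comp _ _ _).symm
        rw [hΨt, P.map_comp, Category.assoc, Category.assoc]
        exact congrArg (P.map _ ≫ ·) (cE_natural (snd p K) (P.map w) (b i)).symm)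
    refine galIdem_ne_zero k K g ?_
    rw [← hs, Finsupp.sum]
    refine Finset.sum_eq_zero fun i hi => absurd (h1 i hi) ?_
    haveI := hτinj _ (Finsupp.mem_support_iff.1 hi)
    exact fun h2 => hw (by rw [← cancel_epi (τ (s i) : E ⟶ E), h2, comp_zero])
  have hidem : ∀ g, (Ψ (galIdem k K g) : _ ⟶ _) ≫ (Ψ (galIdem k K g) : _ ⟶ _) = Ψ (galIdem k K g) := fun g => by
    show Ψ (galIdem k K g) * Ψ (galIdem k K g) = _
    rw [← map_mul, galIdem_mul, if_pos rfl]
  choose N inj prj hip hpi using fun g => IsIdempotentComplete.idempotents_split (bcMod p K E)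
    (Ψ (galIdem k K g) : bcMod p K E ⟶ bcMod p K E) (hidem g)
  have horth : ∀ g h, g ≠ h → inj g ≫ prj h = 0 := fun g h hgh => by
    have h0 : (Ψ (galIdem k K g) : _ ⟶ _) ≫ (Ψ (galIdem k K h) : _ ⟶ _) = 0 := by
      show Ψ (galIdem k K h) * Ψ (galIdem k K g) = 0
      rw [← map_mul, galIdem_mul, if_neg (Ne.symm hgh), map_zero]
    rw [← hpi g, ← hpi h] at h0
    have h1 := congrArg (fun t => inj g ≫ t ≫ prj h) h0
    simpa [reassoc_of% hip, hip] using h1
  have hij : ∀ g h, inj g ≫ prj h = if e : g = h then eqToHom (by rw [e]) else 0 := fun g h => by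
    split_ifs with hgh
    · subst hgh; simp [hip]
    · exact horth g h hgh
  have htot : ∑ g, prj g ≫ inj g = 𝟙 (bcMod p K E) := by
    simp only [hpi]
    show ∑ g, Ψ (galIdem k K g) = 1
    rw [← map_sum, sum_galIdem, map_one]
  have hne : ∀ g, ¬ IsZero (N g) := fun g hz => hgne E (𝟙 E) (fun h => hEi.1 ((IsZero.iff_id_eq_zero E).2 h)) g (by
    rw [P.map_id, Category.id_comp, ← hpi g, hz.eq_of_tgt (prj g) 0, zero_comp])
  have hinv := isInvertible_of_splitting p K hE hG N inj prj hij htot hne
  have hbij := bijective_endBC p K E hEc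
  have hinj : ∀ g h, Nonempty (N g ≅ N h) → g = h := by
    rintro g h ⟨u⟩
    by_contra hgh
    obtain ⟨za, hza⟩ := hbij.2 (show End (bcMod p K E) from prj g ≫ u.hom ≫ inj h)
    obtain ⟨zb, hzb⟩ := hbij.2 (show End (bcMod p K E) from prj h ≫ u.inv ≫ inj g)
    let χ := Algebra.TensorProduct.map (AlgHom.id K K) π
    have hχ : ∀ z, χ (Algebra.TensorProduct.map (AlgHom.id K K) τ z) = z := fun z => by
      induction z using TensorProduct.induction_on with
      | zero => simp
      | tmul c x => simp [χ, hπτ]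
      | add a b ha hb => rw [map_add, map_add, ha, hb]
    have e1 : zb * za = Algebra.TensorProduct.map (AlgHom.id K K) τ (galIdem k K g) := hbij.1 (by
      rw [map_mul, hza, hzb]
      show (prj g ≫ u.hom ≫ inj h) ≫ (prj h ≫ u.inv ≫ inj g) = (Ψ (galIdem k K g) : _ ⟶ _)
      rw [← hpi g]; simp [reassoc_of% hip])
    have e2 : za * zb = Algebra.TensorProduct.map (AlgHom.id K K) τ (galIdem k K h) := hbij.1 (by
      rw [map_mul, hza, hzb]
      show (prj h ≫ u.inv ≫ inj g) ≫ (prj g ≫ u.hom ≫ inj h) = (Ψ (galIdem k K h) : _ ⟶ _)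
      rw [← hpi h]; simp [reassoc_of% hip])
    have h3 : galIdem k K g = galIdem k K h := by
      rw [← hχ (galIdem k K g), ← hχ (galIdem k K h), ← e1, ← e2, map_mul, map_mul, mul_comm]
    have h4 := galIdem_mul k K g h
    rw [if_neg hgh, ← h3, galIdem_mul, if_pos rfl] at h4
    exact galIdem_ne_zero k K g h4
  have hindE := ind_of_indec' k p hEc hEi
  have hnotbc : ∀ g (M : X.Modules), PicF.IsInvertible M → ¬ Nonempty (N g ≅ bcMod p K M) := by
    rintro g M hM ⟨u⟩
    have hMc := DCohLib.isCoh_of_isFinLocFree (CurveLib.isFinLocFree_of_isInvertible hM)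
    have hMi := indec_of_connected hM
    obtain ⟨κ, s, φ, ψ, hs⟩ := exists_sum_of_bc p K hMc hEc (𝟙 E) ({0} : Finset ℕ) (fun _ => u.inv ≫ inj g)
      (fun _ => prj g ≫ u.hom) (by simp [reassoc_of% hip])
    rw [Finset.sum_singleton] at hs
    obtain ⟨a, c, hac⟩ := retract_of_sum (ind_of_indec' k p hMc hMi) (𝟙 M) (𝟙 M) (Category.id_comp _) (s 0)
      (φ 0) (ψ 0) (by rw [hs]; simp)
    obtain ⟨i⟩ := iso_of_retract_ind hMi.1 hindE a c hac
    have h1 : FlatMod.IsFinLocFreeOfRank 1 M := CurveLib.isFinLocFreeOfRank_one hM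
    obtain ⟨x⟩ : Nonempty X := inferInstance
    have hMf := KVb.isFinLocFree_of_rank h1
    obtain ⟨eM⟩ := KVb.isFinLocFree_freeAt hMf x
    obtain ⟨eE⟩ := KVb.isFinLocFree_freeAt (KVb.isFinLocFree_of_rank hE) x
    let T : M.presheaf.stalk x ≃ₗ[X.presheaf.stalk x] E.presheaf.stalk x :=
      LinearEquiv.ofLinearMap (stalkLin i.hom x) (stalkLin i.inv x)
        (by rw [← stalkLin_comp, i.inv_hom_id, S10949.stalkLin_id])
        (by rw [← stalkLin_comp, i.hom_inv_id, S10949.stalkLin_id])
    have h2 := (eM.symm.trans (T.trans eE)).finrank_eq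
    rw [Module.finrank_fin_fun, Module.finrank_fin_fun, (KVb.isFinLocFreeOfRank_iff hMf 1).1 h1 x,
      (KVb.isFinLocFreeOfRank_iff (KVb.isFinLocFree_of_rank hE) r).1 hE x] at h2
    exact hr.ne_one h2.symm
  have hred : ∀ a : End E, π a = 0 → a = 0 := by
    intro a ha
    by_contra ha0
    haveI : (RingHom.ker π).IsTwoSided := inferInstance
    obtain ⟨g, a', ha', ha'0, htw⟩ := exists_twisted τ (RingHom.ker π) (RingHom.mem_ker.2 ha) ha0
    obtain ⟨n, hn⟩ := hnil a' ha'
    let Bm : bcMod p K E ⟶ bcMod p K E := P.map a'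
    have hrel : ∀ z, Bm ≫ (Ψ (Algebra.TensorProduct.map (AlgHom.id k K) g.toAlgHom z) : _ ⟶ _) =
        (Ψ z : _ ⟶ _) ≫ Bm := fun z => by
      induction z using TensorProduct.induction_on with
      | zero =>
        rw [map_zero, map_zero]
        exact comp_zero.trans zero_comp.symm
      | tmul c x =>
        rw [Algebra.TensorProduct.map_tmul, hΨt, hΨt, Category.assoc]
        show Bm ≫ P.map (τ (g x)) ≫ (cE (snd p K) (bcMod p K E) c : _ ⟶ _) = _
        rw [cE_natural (snd p K) Bm c, ← Category.assoc, ← Category.assoc, ← P.map_comp, ← P.map_comp]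
        exact congrArg (fun t => P.map t ≫ _) (htw x)
      | add z w hz hw =>
        rw [map_add, map_add, map_add]
        exact (Preadditive.comp_add _ _ _ _ _ _).trans ((congrArg₂ (· + ·) hz hw).trans (Preadditive.add_comp _ _ _ _ _ _).symm)
    let nx : G → G := fun i => i * g⁻¹
    have hstep : ∀ i, prj i ≫ inj i ≫ Bm = Bm ≫ prj (nx i) ≫ inj (nx i) := fun i => by
      rw [← Category.assoc, hpi i, hpi (nx i), ← map_galIdem, hrel]
    let U : ∀ i, N i ⟶ N (nx i) := fun i => inj i ≫ Bm ≫ prj (nx i)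
    have hU : ∀ i, inj i ≫ Bm = U i ≫ inj (nx i) := fun i => by
      have := congrArg (inj i ≫ ·) (hstep i)
      simpa [U, reassoc_of% hip] using this
    have hU0 : ∀ i, U i ≠ 0 := fun i h => hgne' E hEc.1 a' ha'0 i (by
      rw [← hpi i, Category.assoc, hU i, h, zero_comp, comp_zero])
    have hchain : ∀ m i, inj i ≫ ((bcEnd p K E a' : End (bcMod p K E)) ^ m : End (bcMod p K E)) ≠ 0 := by
      intro m
      induction m with
      | zero =>
        intro i h
        rw [pow_zero] at h
        refine hne i ((IsZero.iff_id_eq_zero _).2 ?_)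
        rw [← hip i]
        change inj i ≫ 𝟙 _ = 0 at h
        rw [Category.comp_id] at h
        rw [h, zero_comp]
      | succ m ih =>
        intro i h
        rw [pow_succ] at h
        change inj i ≫ Bm ≫ ((bcEnd p K E a' : End (bcMod p K E)) ^ m : End (bcMod p K E)) = 0 at h
        rw [← Category.assoc, hU i, Category.assoc] at h
        let wm : N (nx i) ⟶ bcMod p K E := inj (nx i) ≫ ((bcEnd p K E a' : End (bcMod p K E)) ^ m : End (bcMod p K E))
        obtain ⟨l, hl⟩ : ∃ l, wm ≫ prj l ≠ 0 := by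
          by_contra! hall
          refine ih (nx i) ?_
          show wm = 0
          rw [← Category.comp_id wm, ← htot, Preadditive.comp_sum]
          exact Finset.sum_eq_zero fun l _ => by rw [← Category.assoc, hall l, zero_comp]
        haveI := CurveLib.mono_of_ne_zero (hinv _) (hinv _) hl
        exact hU0 i (by rw [← cancel_mono (wm ≫ prj l), ← Category.assoc, show U i ≫ wm = 0 from h, zero_comp, zero_comp])
    refine hchain n 1 ?_
    rw [← map_pow, hn, map_zero]
    exact comp_zero
  let eF : Fin r ≃ G := (Fintype.equivFinOfCardEq hG).symm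
  let i : bcMod p K E ≅ ∐ fun a => N (eF a) :=
    { hom := ∑ a, prj (eF a) ≫ Sigma.ι (fun a => N (eF a)) a
      inv := Sigma.desc fun a => inj (eF a)
      hom_inv_id := by
        simp only [Preadditive.sum_comp, Category.assoc, colimit.ι_desc, Cofan.mk_ι_app]
        exact (eF.sum_comp fun g => prj g ≫ inj g).trans htot
      inv_hom_id := Sigma.hom_ext _ _ fun a => by
        rw [Sigma.ι_desc_assoc, Preadditive.comp_sum, Category.comp_id, Finset.sum_eq_single a]
        · rw [reassoc_of% hip]
        · intro c _ hc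
          rw [← Category.assoc, horth _ _ (fun h => hc (eF.injective h).symm), zero_comp]
        · simp }
  have hiout : ∀ a, i.hom ≫ pr (fun a => N (eF a)) a = prj (eF a) := fun a => by
    show (∑ c, prj (eF c) ≫ Sigma.ι (fun a => N (eF a)) c) ≫ _ = _
    rw [Preadditive.sum_comp, Finset.sum_eq_single a]
    · rw [Category.assoc, ι_pr, Category.comp_id]
    · intro c _ hc
      rw [Category.assoc, ι_pr_ne _ hc, comp_zero]
    · simp
  refine ⟨fun a => N (eF a), i, fun a => hinv _, fun a c hac hn => hac (eF.injective (hinj _ _ hn)),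
    fun a => hnotbc _, fun F v hv a h => ?_, fun F hF w hw a h => ?_, ?_⟩
  · rw [hiout] at h
    exact hgne F v hv (eF a) (by rw [← hpi, ← Category.assoc, h, zero_comp])
  · have : Sigma.ι (fun a => N (eF a)) a ≫ i.inv = inj (eF a) := Sigma.ι_desc _ _
    rw [← Category.assoc, this] at h
    exact hgne' F hF w hw (eF a) (by rw [← hpi, Category.assoc, h, comp_zero])
  · refine ⟨AlgEquiv.ofBijective τ ⟨τ.toRingHom.injective, fun a => ⟨π a, ?_⟩⟩⟩
    exact (sub_eq_zero.1 (hred (a - τ (π a)) (by rw [map_sub, hπτ, sub_self]))).symm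

end Groth.Agent.ASBunKS
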