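import Groth.Agent.ASBunKS.NonGeom
import Groth.Agent.CurveLib.Deg
import Groth.Agent.CurveLib.DegTensor
import Groth.Agent.DegDevLib.BC
import Groth.Agent.CurveFF.BC
import Groth.Agent.CurveP1Lib.H0One
import Mathlib.FieldTheory.Finite.Extension

/-!
# Automorphisms of a trivial plus a non-geometrically indecomposable module
-/

set_option autoImplicit false
set_option backward.isDefEq.respectTransparency false
set_option linter.style.haveILetI false
set_option linter.unusedSectionVars false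

universe u

open CategoryTheory CategoryTheory.Limits AlgebraicGeometry TopologicalSpace
open W4c1astiltbs12

noncomputable section

namespace Groth.Agent.ASBunKS

variable {C : Type*} [Category C] [Preadditive C] [HasBinaryBiproducts C]

/-- Endomorphisms of a sum without mixed maps. -/
def endBiprodEquiv {A B : C} (hAB : ∀ f : A ⟶ B, f = 0) (hBA : ∀ f : B ⟶ A, f = 0) :
    End (A ⊞ B) ≃* End A × End B where
  toFun f := (biprod.inl ≫ f ≫ biprod.fst, biprod.inr ≫ f ≫ biprod.snd)
  invFun g := biprod.map g.1 g.2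
  left_inv f := by
    apply biprod.hom_ext' <;> apply biprod.hom_ext
    · simp
    · simpa using (hAB (biprod.inl ≫ f ≫ biprod.snd)).symm
    · simpa using (hBA (biprod.inr ≫ f ≫ biprod.fst)).symm
    · simp
  right_inv g := by simp
  map_mul' f g := by
    have h1 := hAB (biprod.inl ≫ (g : A ⊞ B ⟶ A ⊞ B) ≫ biprod.snd)
    have h2 := hBA (biprod.inr ≫ (g : A ⊞ B ⟶ A ⊞ B) ≫ biprod.fst)
    refine Prod.ext ?_ ?_
    · show biprod.inl ≫ ((g : A ⊞ B ⟶ A ⊞ B) ≫ f) ≫ biprod.fst =
        (biprod.inl ≫ (g : A ⊞ B ⟶ A ⊞ B) ≫ biprod.fst) ≫ biprod.inl ≫ (f : A ⊞ B ⟶ A ⊞ B) ≫ biprod.fst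
      have hg : biprod.inl ≫ (g : A ⊞ B ⟶ A ⊞ B) = (biprod.inl ≫ (g : A ⊞ B ⟶ A ⊞ B) ≫ biprod.fst) ≫ biprod.inl := by
        apply biprod.hom_ext <;> simp [h1]
      simp only [Category.assoc] at hg ⊢
      rw [reassoc_of% hg]
    · show biprod.inr ≫ ((g : A ⊞ B ⟶ A ⊞ B) ≫ f) ≫ biprod.snd =
        (biprod.inr ≫ (g : A ⊞ B ⟶ A ⊞ B) ≫ biprod.snd) ≫ biprod.inr ≫ (f : A ⊞ B ⟶ A ⊞ B) ≫ biprod.snd
      have hg : biprod.inr ≫ (g : A ⊞ B ⟶ A ⊞ B) = (biprod.inr ≫ (g : A ⊞ B ⟶ A ⊞ B) ≫ biprod.snd) ≫ biprod.inr := by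
        apply biprod.hom_ext <;> simp [h2]
      simp only [Category.assoc] at hg ⊢
      rw [reassoc_of% hg]

variable (k : Type u) [Field k] [Finite k] (X : Scheme.{u}) [X.Over (Spec (CommRingCat.of k))]
  [IsProper (X ↘ Spec (CommRingCat.of k))] [Smooth (X ↘ Spec (CommRingCat.of k))]
  [GeometricallyIntegral (X ↘ Spec (CommRingCat.of k))]

theorem card_aut_biprod (hdim : topologicalKrullDim ↥X = 1) (O : Spec (CommRingCat.of k) ⟶ X) (G : X.Modules)
    (hG : FlatMod.IsFinLocFreeOfRank 2 G) (hdeg : Curv2.deg k X G 2 = 0) (hGi : Indec G)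
    (L : Type u) [Field L] [Algebra k L] (A B : (Curv2.bc k X L).Modules) (hA : ¬ IsZero A) (hB : ¬ IsZero B)
    (e : (Scheme.Modules.pullback (Curv2.bcFst k X L)).obj G ≅ A ⊞ B) :
    Nat.card (Aut (Coh.structureModule X ⊞ G)) = (Nat.card k - 1) * (Nat.card k ^ 2 - 1) := by
  classical
  obtain ⟨q, hq⟩ := CharP.exists k
  haveI := hq
  haveI : Fact q.Prime := ⟨(CharP.char_is_prime_or_zero k q).resolve_right (CharP.char_ne_zero_of_finite k q)⟩
  let K : Type u := ULift.{u} (FiniteField.Extension k q 2)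
  have hK : Module.finrank k K = 2 := by
    rw [(ULift.algEquiv (R := k) (A := FiniteField.Extension k q 2)).toLinearEquiv.finrank_eq,
      FiniteField.finrank_extension]
  obtain ⟨N, i, hinv, -, hbc, hv, hw, ⟨τ⟩⟩ := exists_splitting (X ↘ Spec (CommRingCat.of k)) K Nat.prime_two O hG hGi
    L A B hA hB e hK
  letI : (Curv2.bc k X K).Over (Spec (CommRingCat.of K)) := ⟨Curv2.bcSnd k X K⟩
  haveI : IsProper (Curv2.bc k X K ↘ Spec (CommRingCat.of K)) := inferInstanceAs (IsProper (pullback.snd _ _))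
  haveI : IsIntegral (Curv2.bc k X K) := isIntegral_bc (X ↘ Spec (CommRingCat.of k)) K
  haveI : IsLocallyNoetherian X := LocallyOfFiniteType.isLocallyNoetherian (X ↘ Spec (CommRingCat.of k))
  haveI : IsLocallyNoetherian (Curv2.bc k X K) :=
    LocallyOfFiniteType.isLocallyNoetherian (Curv2.bc k X K ↘ Spec (CommRingCat.of K))
  haveI : CompactSpace X := QuasiCompact.compactSpace_of_compactSpace (X ↘ Spec (CommRingCat.of k))
  haveI : QuasiSeparatedSpace X := quasiSeparatedSpace_of_quasiSeparated (X ↘ Spec (CommRingCat.of k))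
  have hdimK : topologicalKrullDim (Curv2.bc k X K) ≤ 1 := ((CurveFF.dim_bc k X K).trans hdim).le
  have hGc := DCohLib.isCoh_of_isFinLocFree (KVb.isFinLocFree_of_rank hG)
  haveI : Coh.IsQCoh G := hGc.1
  have hNc : ∀ a, Coh.IsCoh (N a) := fun a =>
    DCohLib.isCoh_of_isFinLocFree (CurveLib.isFinLocFree_of_isInvertible (hinv a))
  have hsum : Curv2.deg K (Curv2.bc k X K) (N 0) 1 + Curv2.deg K (Curv2.bc k X K) (N 1) 1 = 0 := by
    let S := ShortComplex.mk (Sigma.ι N 0) (pr N 1) (ι_pr_ne _ (by decide))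
    have hS : S.ShortExact := ShortComplex.Splitting.shortExact
      { r := pr N 0
        s := Sigma.ι N 1
        f_r := ι_pr _ _
        s_g := ι_pr _ _
        id := by
          show pr N 0 ≫ Sigma.ι N 0 + pr N 1 ≫ Sigma.ι N 1 = 𝟙 _
          rw [← pr_total (G := N), Fin.sum_univ_two] }
    have hWc := ShStabLib.isCoh_of_iso i (isCoh_bcMod (X ↘ Spec (CommRingCat.of k)) K hGc)
    have h := CurveLib.deg_shortExact (k := K) hS (n₁ := 1) (n₂ := 2) (n₃ := 1) (hNc 0) hWc (hNc 1) rfl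
    rw [← h]
    refine (CurveLib.deg_iso (k := K) (X := Curv2.bc k X K) i 2).symm.trans ?_
    exact (DegDevLib.deg_bc k X K G 2).trans hdeg
  let eO : (Scheme.Modules.pullback (Curv2.bcFst k X K)).obj (Coh.structureModule X) ≅
      Coh.structureModule (Curv2.bc k X K) := DCohLib.pullStructureIso _
  have hOG : ∀ v : Coh.structureModule X ⟶ G, v = 0 := by
    intro v
    by_contra h
    have hne : ∀ a, eO.inv ≫ (Scheme.Modules.pullback (Curv2.bcFst k X K)).map v ≫ i.hom ≫ pr N a ≠ 0 := fun a h0 =>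
      hv _ v h a (by rw [← cancel_epi eO.inv, comp_zero]; exact h0)
    have hge : ∀ a, 0 ≤ Curv2.deg K (Curv2.bc k X K) (N a) 1 := fun a => by
      have := (CurveLib.deg_le_of_ne_zero (k := K) hdimK ParaFLib.isInvertible_structureModule (hinv a) (hne a)).1
      rwa [CurveLib.deg_structureModule] at this
    obtain ⟨t⟩ := CurveLib.nonempty_iso_structureModule (k := K) hdimK (hinv 0) _ (hne 0) (by
      have := hge 1; omega)
    exact hbc 0 _ ParaFLib.isInvertible_structureModule ⟨t ≪≫ eO.symm⟩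
  have hGO : ∀ w : G ⟶ Coh.structureModule X, w = 0 := by
    intro w
    by_contra h
    have hne : ∀ a, (Sigma.ι N a ≫ i.inv ≫ (Scheme.Modules.pullback (Curv2.bcFst k X K)).map w) ≫ eO.hom ≠ 0 :=
      fun a h0 => hw _ (DevLib.isCoh_structureModule X).1 w h a (by rw [← cancel_mono eO.hom, zero_comp]; exact h0)
    have hle : ∀ a, Curv2.deg K (Curv2.bc k X K) (N a) 1 ≤ 0 := fun a => by
      have := (CurveLib.deg_le_of_ne_zero (k := K) hdimK (hinv a) ParaFLib.isInvertible_structureModule (hne a)).1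
      rwa [CurveLib.deg_structureModule] at this
    have h0 : Curv2.deg K (Curv2.bc k X K) (N 0) 1 = 0 := by have := hle 0; have := hle 1; omega
    haveI := (CurveLib.deg_le_of_ne_zero (k := K) hdimK (hinv 0) ParaFLib.isInvertible_structureModule (hne 0)).2
      (by rw [CurveLib.deg_structureModule, h0])
    exact hbc 0 _ ParaFLib.isInvertible_structureModule
      ⟨asIso ((Sigma.ι N 0 ≫ i.inv ≫ (Scheme.Modules.pullback (Curv2.bcFst k X K)).map w) ≫ eO.hom) ≪≫ eO.symm⟩
  letI := endAlg (X ↘ Spec (CommRingCat.of k)) G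
  letI := endAlg (X ↘ Spec (CommRingCat.of k)) (Coh.structureModule X)
  haveI : GeometricallyConnected (X ↘ Spec (CommRingCat.of k)) := ⟨fun F _ y Z fst snd hpb => by
    haveI : IsIntegral Z := GeometricallyIntegral.geometrically_isIntegral y fst snd hpb
    infer_instance⟩
  have hO := bijective_cE_structure (X ↘ Spec (CommRingCat.of k)) (CurveP1Lib.bijective_toGlobal_of_smooth (k := k) (X := X))
  let σ : k ≃ₐ[k] End (Coh.structureModule X) := AlgEquiv.ofBijective (Algebra.ofId k _) hO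
  let u : (End (Coh.structureModule X ⊞ G))ˣ ≃* kˣ × Kˣ :=
    (Units.mapEquiv ((endBiprodEquiv hOG hGO).trans (σ.toMulEquiv.symm.prodCongr τ.toMulEquiv.symm))).trans MulEquiv.prodUnits
  rw [← Nat.card_congr (Aut.unitsEndEquivAut _).toEquiv, Nat.card_congr u.toEquiv, Nat.card_prod, Nat.card_units,
    Nat.card_units]
  congr 2
  haveI : Module.Finite k K := Module.finite_of_finrank_pos (by omega)
  rw [Module.natCard_eq_pow_finrank (K := k) (V := K), hK]

end Groth.Agent.ASBunKS
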