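import Groth.Agent.BCLib.SecBC
import Groth.Agent.KoszShLib.AffHom
import Groth.Agent.HomLib.Completion
import Groth.Agent.ASBunKS.HomFinite
import Groth.Prelude.Def_W4c1astiltbs12AS

/-!
# Morphisms into a base change along a field extension
-/

set_option autoImplicit false
set_option backward.isDefEq.respectTransparency false
set_option linter.style.haveILetI false

universe u

open CategoryTheory CategoryTheory.Limits AlgebraicGeometry TopologicalSpace Opposite TensorProduct
open Groth.Agent.CohBase Groth.Agent.ProjCoh Groth.Agent.PullbackMod Groth.Agent.BCLib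
open W4c1astiltbs12

noncomputable section

namespace Groth.Agent.ASBunKS

variable {k : Type u} [Field k] {X : Scheme.{u}} (p : X ⟶ Spec (CommRingCat.of k))
  (K : Type u) [Field K] [Algebra k K]

/-- The structure morphism of the base change. -/
abbrev snd : W4bk4gw11416.baseChange p K ⟶ Spec (CommRingCat.of K) :=
  pullback.snd p (Spec.map (CommRingCat.ofHom (algebraMap k K)))

/-- The push-forward of the base change of a module. -/
abbrev pushBC (M : X.Modules) : X.Modules :=
  (Scheme.Modules.pushforward (proj p K)).obj (bcMod p K M)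

/-- A constant of the extension as a function over an open. -/
def cK (W : X.Opens) (c : K) : Γ(W4bk4gw11416.baseChange p K, proj p K ⁻¹ᵁ W) :=
  (secHom (snd p K) (proj p K ⁻¹ᵁ W)).hom c

/-- A constant of the ground field as a function over an open. -/
def ck (W : X.Opens) (r : k) : Γ(X, W) := (secHom p W).hom r

theorem app_ck (W : X.Opens) (r : k) : (proj p K).app W (ck p W r) = cK p K W (algebraMap k K r) := by
  have h := secHom_comm (f := p) (f' := snd p K) (g' := proj p K) (φ := CommRingCat.ofHom (algebraMap k K))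
    pullback.condition (W := W) (W' := proj p K ⁻¹ᵁ W) le_rfl
  rw [← Scheme.Hom.app_eq_appLE] at h
  exact ConcreteCategory.congr_hom h r

theorem res_cK {V W : X.Opens} (h : V ≤ W) (c : K) :
    (W4bk4gw11416.baseChange p K).presheaf.map (homOfLE ((proj p K).preimage_mono h)).op (cK p K W c) = cK p K V c :=
  res_φV (Coh.toGlobal (A := K) (snd p K)) ((proj p K).preimage_mono h) c

theorem res_ck {V W : X.Opens} (h : V ≤ W) (r : k) : X.presheaf.map (homOfLE h).op (ck p W r) = ck p V r :=
  res_φV (Coh.toGlobal (A := k) p) h r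

variable (M : X.Modules)

/-- The canonical map on sections. -/
abbrev pu (W : X.Opens) : Γ(M, W) →+ Γ(bcMod p K M, proj p K ⁻¹ᵁ W) :=
  pullMap (proj p K) M (le_refl (proj p K ⁻¹ᵁ W))

theorem gen_induction {W : X.Opens} (hW : IsAffineOpen W) [Coh.IsQCoh M]
    {motive : Γ(bcMod p K M, proj p K ⁻¹ᵁ W) → Prop} (h0 : motive 0)
    (hadd : ∀ a b, motive a → motive b → motive (a + b))
    (hgen : ∀ (c : K) (m : Γ(M, W)), motive (cK p K W c • pu p K M W m))
    (x : Γ(bcMod p K M, proj p K ⁻¹ᵁ W)) : motive x := by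
  let φ : CommRingCat.of k ⟶ CommRingCat.of K := CommRingCat.ofHom (algebraMap k K)
  letI := φ.hom.toAlgebra
  let S := Sec (Coh.toGlobal (A := K) (snd p K)) (bcMod p K M) (proj p K ⁻¹ᵁ W)
  letI : Module k S := Module.compHom _ φ.hom
  haveI : IsScalarTower k K S := .of_algebraMap_smul fun _ _ => rfl
  have hb := isBaseChange_secPull (IsPullback.of_hasPullback p (Spec.map φ)) M hW (rfl : _ = proj p K ⁻¹ᵁ W)
  obtain ⟨z, hz⟩ := hb.equiv.surjective (show S from x)
  change motive (show Γ(bcMod p K M, proj p K ⁻¹ᵁ W) from (show S from x))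
  rw [← hz]
  clear hz x
  induction z using TensorProduct.induction_on with
  | zero => rw [map_zero]; exact h0
  | tmul c m => rw [IsBaseChange.equiv_tmul]; exact hgen c m
  | add a b ha hb' => rw [map_add]; exact hadd _ _ ha hb'

theorem exists_coord (lam : K →ₗ[k] k) {W : X.Opens} (hW : IsAffineOpen W) [Coh.IsQCoh M] :
    ∃ L : Γ(bcMod p K M, proj p K ⁻¹ᵁ W) →+ Γ(M, W), ∀ (c : K) (m : Γ(M, W)),
      L (cK p K W c • pu p K M W m) = ck p W (lam c) • m := by
  let φ : CommRingCat.of k ⟶ CommRingCat.of K := CommRingCat.ofHom (algebraMap k K)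
  let S := Sec (Coh.toGlobal (A := K) (snd p K)) (bcMod p K M) (proj p K ⁻¹ᵁ W)
  let S0 := Sec (Coh.toGlobal (A := k) p) M W
  have hl : ∀ (r : k) (y : K), lam (algebraMap k K r * y) = r * lam y := fun r y => by
    rw [← Algebra.smul_def, map_smul, smul_eq_mul]
  letI := φ.hom.toAlgebra
  let lam' : K →ₗ[k] k := { toFun := lam, map_add' := map_add lam, map_smul' := fun r y => hl r y }
  letI : Module k S := Module.compHom _ φ.hom
  haveI : IsScalarTower k K S := .of_algebraMap_smul fun _ _ => rfl
  let hb := isBaseChange_secPull (IsPullback.of_hasPullback p (Spec.map φ)) M hW (rfl : _ = proj p K ⁻¹ᵁ W)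
  let L0 : S →+ S0 := ((TensorProduct.lid k S0).toLinearMap ∘ₗ TensorProduct.map lam' LinearMap.id).toAddMonoidHom.comp
    hb.equiv.symm.toLinearMap.toAddMonoidHom
  refine ⟨L0, fun c m => ?_⟩
  have h1 : hb.equiv.symm (c • secPull p (snd p K) (proj p K) φ W M pullback.condition le_rfl (show S0 from m)) =
      c ⊗ₜ[k] (show S0 from m) := by
    rw [LinearEquiv.symm_apply_eq, IsBaseChange.equiv_tmul]
    rfl
  show (TensorProduct.lid k S0) (TensorProduct.map lam' LinearMap.id
    (hb.equiv.symm (c • secPull p (snd p K) (proj p K) φ W M pullback.condition le_rfl (show S0 from m)))) = _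
  rw [h1, TensorProduct.map_tmul, TensorProduct.lid_tmul]
  rfl

/-- The coordinate of sections. -/
def coordSec (lam : K →ₗ[k] k) {W : X.Opens} (hW : IsAffineOpen W) [Coh.IsQCoh M] :
    Γ(bcMod p K M, proj p K ⁻¹ᵁ W) →+ Γ(M, W) := (exists_coord p K M lam hW).choose

theorem coordSec_gen (lam : K →ₗ[k] k) {W : X.Opens} (hW : IsAffineOpen W) [Coh.IsQCoh M] (c : K) (m : Γ(M, W)) :
    coordSec p K M lam hW (cK p K W c • pu p K M W m) = ck p W (lam c) • m :=
  (exists_coord p K M lam hW).choose_spec c m

theorem coordSec_smul (lam : K →ₗ[k] k) {W : X.Opens} (hW : IsAffineOpen W) [Coh.IsQCoh M] (a : Γ(X, W))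
    (x : Γ(bcMod p K M, proj p K ⁻¹ᵁ W)) :
    coordSec p K M lam hW ((proj p K).app W a • x) = a • coordSec p K M lam hW x := by
  induction x using gen_induction p K M hW with
  | h0 => rw [smul_zero, map_zero, smul_zero]
  | hadd u v hu hv => rw [smul_add, map_add, map_add, hu, hv, smul_add]
  | hgen c m =>
    have h : pu p K M W (a • m) = (proj p K).app W a • pu p K M W m := by
      rw [Scheme.Hom.app_eq_appLE]
      exact pullMap_smul _ _ _ a m
    rw [smul_comm, ← h, coordSec_gen, coordSec_gen, smul_comm]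

theorem coordSec_res (lam : K →ₗ[k] k) {V W : X.Opens} (hV : IsAffineOpen V) (hW : IsAffineOpen W) (hVW : V ≤ W)
    [Coh.IsQCoh M] (x : Γ(bcMod p K M, proj p K ⁻¹ᵁ W)) :
    coordSec p K M lam hV ((bcMod p K M).presheaf.map (homOfLE ((proj p K).preimage_mono hVW)).op x) =
      M.presheaf.map (homOfLE hVW).op (coordSec p K M lam hW x) := by
  induction x using gen_induction p K M hW with
  | h0 => simp only [map_zero]
  | hadd u v hu hv => simp only [map_add, hu, hv]
  | hgen c m =>
    rw [Scheme.Modules.map_smul, res_cK p K hVW, pu, pullMap_res (proj p K) M _ hVW _ le_rfl, coordSec_gen,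
      coordSec_gen, Scheme.Modules.map_smul, res_ck p hVW]

theorem exists_retr (lam : K →ₗ[k] k) [Coh.IsQCoh M] :
    ∃ r : pushBC p K M ⟶ M, ∀ (W : X.affineOpens) (x : Γ(bcMod p K M, proj p K ⁻¹ᵁ W.1)),
      r.app W.1 x = coordSec p K M lam W.2 x :=
  KoszShLib.exists_hom_of_affine (M := pushBC p K M) (N := M)
    (fun W => { toFun := fun x => coordSec p K M lam W.2 x
                map_add' := fun a b => map_add (coordSec p K M lam W.2) a b
                map_smul' := fun a x => coordSec_smul p K M lam W.2 a x })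
    (fun V W hVW x => coordSec_res p K M lam V.2 W.2 hVW x)

/-- The map attached to a functional on the extension. -/
def retr (lam : K →ₗ[k] k) [Coh.IsQCoh M] : pushBC p K M ⟶ M := (exists_retr p K M lam).choose

theorem retr_app (lam : K →ₗ[k] k) [Coh.IsQCoh M] {W : X.Opens} (hW : IsAffineOpen W)
    (x : Γ(bcMod p K M, proj p K ⁻¹ᵁ W)) : (retr p K M lam).app W x = coordSec p K M lam hW x :=
  (exists_retr p K M lam).choose_spec ⟨W, hW⟩ x

theorem unit_app (W : X.Opens) (m : Γ(M, W)) :
    ((Scheme.Modules.pullbackPushforwardAdjunction (proj p K)).unit.app M).app W m = pu p K M W m :=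
  (restr_self _ (le_refl (proj p K ⁻¹ᵁ W)) _).symm

theorem cK_one (W : X.Opens) : cK p K W 1 = 1 := map_one _

theorem unit_retr (lam : K →ₗ[k] k) (h1 : lam 1 = 1) [Coh.IsQCoh M] :
    (Scheme.Modules.pullbackPushforwardAdjunction (proj p K)).unit.app M ≫ retr p K M lam = 𝟙 M := by
  refine KoszShLib.hom_ext_affine _ _ fun W m => ?_
  show (retr p K M lam).app W.1 (((Scheme.Modules.pullbackPushforwardAdjunction (proj p K)).unit.app M).app W.1 m) = m
  rw [retr_app p K M lam W.2, unit_app, ← one_smul Γ(W4bk4gw11416.baseChange p K, proj p K ⁻¹ᵁ W.1) (pu p K M W.1 m),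
    ← cK_one p K W.1, coordSec_gen, h1, ck, map_one, one_smul]

/-- Multiplication by a constant of the extension, after the unit. -/
def inc (c : K) : M ⟶ pushBC p K M :=
  (Scheme.Modules.pullbackPushforwardAdjunction (proj p K)).unit.app M ≫
    (Scheme.Modules.pushforward (proj p K)).map
      (FactorOne.mulEnd (bcMod p K M) (Coh.toGlobal (A := K) (snd p K) c))

theorem inc_app (c : K) (W : X.Opens) (m : Γ(M, W)) : (inc p K M c).app W m = cK p K W c • pu p K M W m := by
  show (FactorOne.mulEnd (bcMod p K M) _).app (proj p K ⁻¹ᵁ W)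
    (((Scheme.Modules.pullbackPushforwardAdjunction (proj p K)).unit.app M).app W m) = _
  rw [FactorOne.mulEnd_app, unit_app]
  rfl

variable {ι : Type u} (b : Module.Basis ι k K)

theorem exists_support {W : X.Opens} (hW : IsAffineOpen W) [Coh.IsQCoh M] (x : Γ(bcMod p K M, proj p K ⁻¹ᵁ W)) :
    ∃ s0 : Finset ι, ∀ s : Finset ι, s0 ⊆ s →
      x = ∑ i ∈ s, cK p K W (b i) • pu p K M W (coordSec p K M (b.coord i) hW x) := by
  classical
  induction x using gen_induction p K M hW with
  | h0 => exact ⟨∅, fun s _ => by simp⟩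
  | hadd u v hu hv =>
    obtain ⟨s, hs⟩ := hu
    obtain ⟨t, ht⟩ := hv
    refine ⟨s ∪ t, fun w hw => ?_⟩
    simp only [map_add, smul_add, Finset.sum_add_distrib]
    rw [← hs w (Finset.subset_union_left.trans hw), ← ht w (Finset.subset_union_right.trans hw)]
  | hgen c m =>
    refine ⟨(b.repr c).support, fun s hs => ?_⟩
    have hsum : c = ∑ i ∈ s, algebraMap k K (b.repr c i) * b i := by
      conv_lhs => rw [← b.linearCombination_repr c, Finsupp.linearCombination_apply]
      rw [Finsupp.sum_of_support_subset _ hs _ (fun i _ => zero_smul k (b i))]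
      exact Finset.sum_congr rfl fun i _ => Algebra.smul_def _ _
    have hc : cK p K W c = ∑ i ∈ s, cK p K W (b i) * (proj p K).app W (ck p W (b.repr c i)) := by
      conv_lhs => rw [hsum]
      rw [cK, map_sum]
      refine Finset.sum_congr rfl fun i _ => ?_
      rw [map_mul, mul_comm, app_ck]
      rfl
    conv_lhs => rw [hc, Finset.sum_smul]
    refine Finset.sum_congr rfl fun i _ => ?_
    have h : pu p K M W (ck p W (b.repr c i) • m) = (proj p K).app W (ck p W (b.repr c i)) • pu p K M W m := by
      rw [Scheme.Hom.app_eq_appLE]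
      exact pullMap_smul _ _ _ _ m
    rw [coordSec_gen, mul_smul, show b.coord i c = b.repr c i from rfl, h]

/-- A morphism from a coherent module into a base change is a finite combination of constants. -/
theorem exists_decomposition [CompactSpace X] [IsLocallyNoetherian X] {F : X.Modules} (hF : Coh.IsCoh F)
    [Coh.IsQCoh M] (φ : F ⟶ pushBC p K M) :
    ∃ s : Finset ι, φ = ∑ i ∈ s, φ ≫ retr p K M (b.coord i) ≫ inc p K M (b i) := by
  classical
  haveI : Coh.IsQCoh F := hF.1
  obtain ⟨t, ht⟩ := isCompact_univ.elim_finite_subcover (fun W : X.affineOpens => (W.1 : Set X))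
    (fun W => W.1.2) fun x _ => by
      obtain ⟨_, ⟨V, hV, rfl⟩, hxV, -⟩ := X.isBasis_affineOpens.exists_subset_of_mem_open (Set.mem_univ x) isOpen_univ
      exact Set.mem_iUnion.2 ⟨⟨V, hV⟩, hxV⟩
  have hex : ∀ W : X.affineOpens, ∃ G : Finset Γ(F, W.1), Submodule.span Γ(X, W.1) (G : Set Γ(F, W.1)) = ⊤ :=
    fun W => (QCohLib.finite_sections_of_isCoh hF W.2).fg_top
  choose G hG using hex
  choose S hS using fun (W : X.affineOpens) (g : Γ(F, W.1)) => exists_support p K M b W.2 (φ.app W.1 g)
  let s : Finset ι := t.biUnion fun W => (G W).biUnion fun g => S W g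
  refine ⟨s, sub_eq_zero.1 ?_⟩
  refine HomLib.eq_zero_of_cover _ fun x => ?_
  obtain ⟨W, hWt, hxW⟩ := Set.mem_iUnion₂.1 (ht (Set.mem_univ x))
  refine ⟨W.1, W.2, hxW, ?_⟩
  let D := φ - ∑ i ∈ s, φ ≫ retr p K M (b.coord i) ≫ inc p K M (b i)
  have hker : (⊤ : Submodule Γ(X, W.1) Γ(F, W.1)) ≤ LinearMap.ker (PullbackMod.appLin D W.1) := by
    rw [← hG W, Submodule.span_le]
    intro g hg
    show D.app W.1 g = 0
    let ev : (F ⟶ pushBC p K M) →+ Γ(pushBC p K M, W.1) :=
      { toFun := fun f => f.app W.1 g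
        map_zero' := by simp [Scheme.Modules.Hom.zero_app]
        map_add' := fun a c => by simp [Scheme.Modules.Hom.add_app] }
    show ev D = 0
    rw [map_sub, map_sum, sub_eq_zero]
    refine (hS W g s fun i hi => Finset.mem_biUnion.2 ⟨W, hWt, Finset.mem_biUnion.2 ⟨g, hg, hi⟩⟩).trans
      (Finset.sum_congr rfl fun i _ => ?_)
    show _ = (inc p K M (b i)).app W.1 ((retr p K M (b.coord i)).app W.1 (φ.app W.1 g))
    rw [retr_app p K M _ W.2, inc_app]
  exact fun m => hker (Submodule.mem_top : m ∈ (⊤ : Submodule Γ(X, W.1) Γ(F, W.1)))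

end Groth.Agent.ASBunKS
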