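import Groth.Agent.ASBunKS.SBBase
import Groth.Agent.GenSeesawLib.TwistBC
import Groth.Agent.AffLim.Points
import Groth.Agent.AffLim.Presentation

/-!
# A splitting over an algebraic extension comes from a finite one
-/

set_option autoImplicit false
set_option backward.isDefEq.respectTransparency false
set_option backward.defeqAttrib.useBackward true
set_option linter.style.haveILetI false
set_option linter.unusedSectionVars false

universe u

open CategoryTheory CategoryTheory.Limits AlgebraicGeometry
open W4c1astiltbs12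

noncomputable section

namespace Groth.Agent.ASBunKS

variable {k : Type u} [Field k] {X : Scheme.{u}} {f : X ⟶ Spec (CommRingCat.of k)} {n : ℕ}

theorem bcMap_tower (n : ℕ) (Z A B : Type u) [CommRing Z] [CommRing A] [CommRing B] [Algebra Z A] [Algebra A B] [Algebra Z B]
    [IsScalarTower Z A B] :
    GenSeesawLib.bcMap n A B ≫ GenSeesawLib.bcMap n Z A = GenSeesawLib.bcMap n Z B := by
  have h : (GenSeesawLib.coordMap n A B).comp (GenSeesawLib.coordMap n Z A) = GenSeesawLib.coordMap n Z B := by
    refine DFunLike.ext _ _ fun x => ?_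
    show MvPolynomial.map (algebraMap A B) (MvPolynomial.map (algebraMap Z A) x) = MvPolynomial.map (algebraMap Z B) x
    rw [MvPolynomial.map_map, ← IsScalarTower.algebraMap_eq]
  have h2 := Proj.map_comp (GenSeesawLib.coordMap n Z A) (GenSeesawLib.coordMap n A B)
    (GenSeesawLib.irrelevant_le n Z A) (GenSeesawLib.irrelevant_le n A B)
  simp only [h] at h2
  exact h2.symm

/-- An algebraic splitting field contains a finite one. -/
theorem exists_finite_splitting [IsProper f] {K : Type u} [Field K] [Algebra k K] [Algebra.IsAlgebraic k K]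
    (e : BrSev.Splitting f K n) :
    ∃ E : IntermediateField k K, FiniteDimensional k E ∧ Nonempty (BrSev.Splitting f E n) := by
  classical
  let Ef : Finset K → IntermediateField k K := fun s => IntermediateField.adjoin k (s : Set K)
  have hmono : ∀ {s t : Finset K}, s ≤ t → Ef s ≤ Ef t := fun h =>
    IntermediateField.adjoin.mono k _ _ (Finset.coe_subset.mpr h)
  let F : Finset K ⥤ CommRingCat.{u} :=
    { obj := fun s => CommRingCat.of (Ef s).toSubalgebra
      map := fun {s t} h => CommRingCat.ofHom (Subalgebra.inclusion (show (Ef s).toSubalgebra ≤ (Ef t).toSubalgebra from hmono h.le)).toRingHom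
      map_id := fun s => CommRingCat.hom_ext (RingHom.ext fun x => Subtype.ext rfl)
      map_comp := fun h h' => CommRingCat.hom_ext (RingHom.ext fun x => Subtype.ext rfl) }
  let c : Cocone F :=
    { pt := CommRingCat.of K
      ι :=
        { app := fun s => CommRingCat.ofHom (Ef s).toSubalgebra.val.toRingHom
          naturality := fun s t h => CommRingCat.hom_ext (RingHom.ext fun x => rfl) } }
  obtain ⟨hc⟩ := AffLim.nonempty_isColimit_of_elementwise c
    (fun x => ⟨{x}, ⟨x, IntermediateField.subset_adjoin k _ (by simp)⟩, rfl⟩)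
    (fun S x y h => ⟨S, le_rfl, by rw [show x = y from Subtype.ext h]⟩)
  let D : (Finset K)ᵒᵖ ⥤ Scheme.{u} := F.op ⋙ Scheme.Spec
  let c' : Cone D := Scheme.Spec.mapCone c.op
  have hc' : IsLimit c' := isLimitOfPreserves Scheme.Spec hc.op
  haveI : ∀ {i j : (Finset K)ᵒᵖ} (a : i ⟶ j), IsAffineHom (D.map a) := fun a =>
    inferInstanceAs (IsAffineHom (Spec.map _))
  let i₀ : (Finset K)ᵒᵖ := Opposite.op ∅
  let π : ∀ s : Finset K, CommRingCat.of k ⟶ F.obj s := fun s => CommRingCat.ofHom (algebraMap k (Ef s).toSubalgebra)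
  haveI : IsIso (π ∅) := by
    rw [ConcreteCategory.isIso_iff_bijective]
    refine ⟨fun a b hab => (algebraMap k (Ef ∅)).injective hab, fun ⟨x, hx⟩ => ?_⟩
    have hx' : x ∈ IntermediateField.adjoin k ((∅ : Finset K) : Set K) := hx
    rw [Finset.coe_empty, IntermediateField.adjoin_empty, IntermediateField.mem_bot] at hx'
    obtain ⟨a, ha⟩ := hx'
    exact ⟨a, Subtype.ext ha⟩
  let p : D.obj i₀ ⟶ Spec (CommRingCat.of k) := Spec.map (π ∅)
  haveI : IsIso p := inferInstanceAs (IsIso (Spec.map (π ∅)))
  let a : X ⟶ D.obj i₀ := f ≫ inv p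
  haveI : CompactSpace X := QuasiCompact.compactSpace_of_compactSpace f
  haveI : QuasiSeparated a := by
    show QuasiSeparated (f ≫ inv p)
    infer_instance
  let B := AffLim.baseChange D i₀ a
  obtain ⟨hB⟩ := AffLim.nonempty_isLimit_baseChangeCone D c' hc' i₀ a
  let C := AffLim.baseChangeCone D c' i₀ a
  haveI : ∀ j, QuasiSeparatedSpace (B.obj j) := fun j => by
    haveI : QuasiSeparatedSpace X := quasiSeparatedSpace_of_quasiSeparated f
    haveI : IsAffineHom (pullback.fst a (D.map j.hom)) :=
      MorphismProperty.pullback_fst (P := @IsAffineHom) a (D.map j.hom) inferInstance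
    exact quasiSeparatedSpace_of_quasiSeparated (pullback.fst a (D.map j.hom))
  let t : B ⟶ (Functor.const _).obj (Spec (CommRingCat.of k)) :=
    { app := fun j => pullback.fst a (D.map j.hom) ≫ f
      naturality := fun i j g => by simp [B] }
  have hp : c'.π.app i₀ ≫ p = Spec.map (CommRingCat.ofHom (algebraMap k K)) := by
    show Spec.map (c.ι.app ∅) ≫ Spec.map (π ∅) = _
    rw [← Spec.map_comp]
    rfl
  let ε : C.pt ⟶ BrSev.bc f K := pullback.map _ _ _ _ (𝟙 X) (𝟙 _) p (by simp [a]) (by rw [hp, Category.id_comp])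
  haveI : IsIso ε := inferInstanceAs (IsIso (pullback.map _ _ _ _ _ _ _ _ _))
  let h : BrSev.bc f K ⟶ CohB1.ProjSpace n k := e.iso.hom ≫ GenSeesawLib.bcMap n k K
  haveI : LocallyOfFiniteType (CohB1.ProjSpace.toSpec n k) := inferInstance
  haveI : LocallyOfFinitePresentation (CohB1.ProjSpace.toSpec n k) :=
    LocallyOfFinitePresentation.iff_locallyOfFiniteType.2 inferInstance
  have hh : h ≫ CohB1.ProjSpace.toSpec n k = BrSev.proj f K ≫ f := by
    rw [Category.assoc, (GenSeesawLib.isPullback_bcMap n k K).w, ← Category.assoc, e.comm]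
    exact pullback.condition.symm
  obtain ⟨j, g, hg, hgf⟩ := Scheme.exists_π_app_comp_eq_of_locallyOfFinitePresentation B t
    (CohB1.ProjSpace.toSpec n k) C hB (ε ≫ h) (by
      ext j
      simp only [NatTrans.comp_app, Functor.const_map_app, Category.assoc, hh]
      simp [t, C, ε])
  let s : Finset K := j.left.unop
  let E := Ef s
  haveI : FiniteDimensional k E :=
    IntermediateField.finiteDimensional_adjoin fun x _ => Algebra.IsIntegral.isIntegral x
  refine ⟨E, inferInstance, ?_⟩
  have hj : D.map j.hom ≫ p = Spec.map (CommRingCat.ofHom (algebraMap k E)) := by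
    show Spec.map (F.map j.hom.unop) ≫ Spec.map (π ∅) = _
    rw [← Spec.map_comp]
    rfl
  let εE : BrSev.bc f E ⟶ B.obj j := pullback.map _ _ _ _ (𝟙 X) (𝟙 _) (inv p) (by simp [a]) (by
    rw [Category.id_comp, ← hj, Category.assoc, IsIso.hom_inv_id, Category.comp_id])
  let τ : E →ₐ[k] K := E.val
  letI := τ.toRingHom.toAlgebra
  let hP := GenSeesawLib.isPullback_bcMap n k E
  have hεf : εE ≫ t.app j = BrSev.proj f E ≫ f := by simp [εE, t]
  let gE : BrSev.bc f E ⟶ CohB1.ProjSpace n E :=
    hP.lift (εE ≫ g) (snd f E) (by rw [Category.assoc, hgf, hεf]; exact pullback.condition)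
  have hg1 : gE ≫ GenSeesawLib.bcMap n k E = εE ≫ g := hP.lift_fst _ _ _
  have hg2 : gE ≫ CohB1.ProjSpace.toSpec n E = snd f E := hP.lift_snd _ _ _
  have hcm : e.iso.hom ≫ GenSeesawLib.bcMap n E K = embMap f E K τ ≫ gE := by
    refine hP.hom_ext ?_ ?_
    · rw [Category.assoc, Category.assoc, hg1]
      have h1 : GenSeesawLib.bcMap n E K ≫ GenSeesawLib.bcMap n k E = GenSeesawLib.bcMap n k K :=
        bcMap_tower n k E K
      rw [h1]
      have h2 : embMap f E K τ ≫ εE = inv ε ≫ C.π.app j := by
        rw [IsIso.eq_inv_comp]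
        apply pullback.hom_ext
        · simp [εE, ε, C, embMap]
        · simp [εE, ε, C, embMap]
          rfl
      rw [← Category.assoc, h2, Category.assoc, hg, IsIso.inv_hom_id_assoc]
    · rw [Category.assoc, Category.assoc, hg2, (GenSeesawLib.isPullback_bcMap n E K).w, ← Category.assoc, e.comm,
        embMap_snd]
      rfl
  let hK := GenSeesawLib.isPullback_bcMap n E K
  have hbig : IsPullback (embMap f E K τ) (snd f K) (gE ≫ CohB1.ProjSpace.toSpec n E)
      (Spec.map (CommRingCat.ofHom (algebraMap E K))) := by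
    rw [hg2]
    exact isPullback_embMap f E K τ
  have hsq : IsPullback (embMap f E K τ) e.iso.hom gE (GenSeesawLib.bcMap n E K) := by
    refine IsPullback.of_bot ?_ hcm.symm hK
    rw [e.comm]
    exact hbig
  haveI : Surjective (Spec.map (CommRingCat.ofHom (algebraMap E K))) := by
    haveI : Nonempty (Spec (CommRingCat.of K) : Scheme.{u}) := inferInstanceAs (Nonempty (PrimeSpectrum K))
    exact ⟨fun y => ⟨Classical.arbitrary _, Subsingleton.elim _ y⟩⟩
  haveI : Flat (Spec.map (CommRingCat.ofHom (algebraMap E K))) :=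
    (HasRingHomProperty.Spec_iff (P := @Flat)).2 (RingHom.flat_algebraMap_iff.2 inferInstance)
  haveI : Flat (GenSeesawLib.bcMap n E K) := MorphismProperty.of_isPullback (P := @Flat) hK.flip inferInstance
  haveI : Surjective (GenSeesawLib.bcMap n E K) := MorphismProperty.of_isPullback (P := @Surjective) hK.flip inferInstance
  haveI : QuasiCompact (GenSeesawLib.bcMap n E K) :=
    MorphismProperty.of_isPullback (P := @QuasiCompact) hK.flip inferInstance
  haveI : IsIso gE := MorphismProperty.of_isPullback_of_descendsAlong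
    (P := MorphismProperty.isomorphisms Scheme.{u})
    (Q := (@Surjective ⊓ @Flat ⊓ @QuasiCompact : MorphismProperty Scheme.{u})) hsq.flip
    ⟨⟨inferInstance, inferInstance⟩, inferInstance⟩ (inferInstanceAs (IsIso e.iso.hom))
  exact ⟨⟨asIso gE, hg2⟩⟩

end Groth.Agent.ASBunKS
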