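import Groth.Agent.SubLib.Basic
import Groth.Agent.GrassShLib.Chart
import Groth.Agent.SBSplitLib.Main
import Groth.Agent.BCLib.SecBC
import Groth.Prelude.Def_BrSev2

/-!
# The tautological module of left ideals on a Severi–Brauer scheme
-/

set_option autoImplicit false
set_option backward.isDefEq.respectTransparency false
set_option linter.style.haveILetI false
set_option linter.unusedSectionVars false

universe u

open CategoryTheory CategoryTheory.Limits AlgebraicGeometry TopologicalSpace Opposite
open Groth.Agent.PullbackMod Groth.Agent.DegDevLib Groth.Agent.GrassShLib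
open scoped TensorProduct

noncomputable section

namespace Groth.Agent.ASBunKS

section Span

variable {k : Type u} [Field k] {A : Type u} [Ring A] [Algebra k A] {c : ℕ}
  {R S : Type u} [CommRing R] [Algebra k R] [CommRing S] [Algebra k S]

theorem map_eq_span (g : R →ₐ[k] S) (N : Module.Grassmannian R (R ⊗[k] A) c) :
    (Module.Grassmannian.map g N).toSubmodule =
      Submodule.span S (Algebra.TensorProduct.map g (AlgHom.id k A) '' (N.toSubmodule : Set (R ⊗[k] A))) := by
  refine le_antisymm (fun z hz => ?_) (Submodule.span_le.2 ?_)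
  · letI : Algebra R S := g.toAlgebra
    haveI : IsScalarTower k R S := IsScalarTower.of_algebraMap_eq' (IsScalarTower.algebraMap_eq k R S)
    rw [Module.Grassmannian.map_toSubmodule, LinearMap.mem_ker] at hz
    let cb := TensorProduct.AlgebraTensorModule.cancelBaseChange k R S S A
    have hex : Function.Exact (N.toSubmodule.subtype.baseChange S) (N.toSubmodule.mkQ.baseChange S) :=
      lTensor_exact S (LinearMap.exact_subtype_mkQ N.toSubmodule) (Submodule.mkQ_surjective _)
    obtain ⟨w, hw⟩ := (hex (cb.symm z)).1 hz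
    rw [show z = cb (N.toSubmodule.subtype.baseChange S w) by rw [hw, LinearEquiv.apply_symm_apply]]
    clear hw hz
    induction w using TensorProduct.induction_on with
    | zero => simp
    | add a b ha hb => rw [map_add, map_add]; exact add_mem ha hb
    | tmul t v =>
      rw [LinearMap.baseChange_tmul]
      have h1 : cb (t ⊗ₜ[R] (v : R ⊗[k] A)) = t • Algebra.TensorProduct.map g (AlgHom.id k A) (v : R ⊗[k] A) := by
        generalize (v : R ⊗[k] A) = x
        induction x using TensorProduct.induction_on with
        | zero => simp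
        | add a b ha hb => rw [TensorProduct.tmul_add, map_add, map_add, smul_add, ha, hb]
        | tmul r a =>
          rw [TensorProduct.AlgebraTensorModule.cancelBaseChange_tmul, Algebra.TensorProduct.map_tmul,
            TensorProduct.smul_tmul', Algebra.smul_def, smul_eq_mul, mul_comm]
          rfl
      rw [show (N.toSubmodule.subtype v) = (v : R ⊗[k] A) from rfl, h1]
      exact Submodule.smul_mem _ _ (Submodule.subset_span (Set.mem_image_of_mem _ v.2))
  · rintro _ ⟨x, hx, rfl⟩
    exact SBSplitLib.map_mem_map g N hx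

end Span

variable (k : Type u) [Field k] {X : Scheme.{u}} (p : X ⟶ Spec (CommRingCat.of k)) (A : Type u) [Ring A]
  [Algebra k A] [Module.Finite k A]

/-- The free module with the coordinates of the algebra. -/
abbrev freeA (k : Type u) [Field k] (A : Type u) [Ring A] [Algebra k A] {X : Scheme.{u}} : X.Modules := FlatMod.freeMod X (Module.finrank k A)

variable {k}

/-- The algebra structure on the functions at a point. -/
@[reducible] def algPt {R : CommRingCat.{u}} (h : Spec R ⟶ X) : Algebra k R :=
  (Spec.preimage (h ≫ p)).hom.toAlgebra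

theorem algPt_spec {R : CommRingCat.{u}} (h : Spec R ⟶ X) :
    letI := algPt p h
    h ≫ p = Spec.map (CommRingCat.ofHom (algebraMap k R)) := by
  letI := algPt p h
  exact (Spec.map_preimage _).symm

theorem germ_secHom (x : X) (r : k) :
    letI := algPt p (X.fromSpecStalk x)
    (X.presheaf.germ ⊤ x trivial).hom ((BCLib.secHom p ⊤).hom r) = algebraMap k (X.presheaf.stalk x) r := by
  letI := algPt p (X.fromSpecStalk x)
  have h : BCLib.secHom p ⊤ ≫ X.presheaf.germ ⊤ x trivial =
      CommRingCat.ofHom (algebraMap k (X.presheaf.stalk x)) := by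
    refine Spec.map_injective ?_
    rw [← algPt_spec p (X.fromSpecStalk x)]
    refine Eq.trans ?_ (congrArg (fun t => t ≫ p) (rfl : X.fromSpecStalk x = _))
    rw [BCLib.secHom, show (homOfLE (le_top : (⊤ : X.Opens) ≤ ⊤)) = 𝟙 _ from Subsingleton.elim _ _, op_id,
      CategoryTheory.Functor.map_id, Category.assoc, Category.assoc, Category.id_comp, Spec.map_comp, Spec.map_comp,
      ← Scheme.fromSpecStalk_toSpecΓ, Category.assoc]
    refine (Category.assoc _ _ _).trans (congrArg (X.fromSpecStalk x ≫ ·) ?_)
    show X.toSpecΓ ≫ Spec.map p.appTop ≫ Spec.map (Scheme.ΓSpecIso (CommRingCat.of k)).inv = p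
    rw [← Category.assoc, ← Scheme.toSpecΓ_naturality, Category.assoc, ← SpecMap_ΓSpecIso_hom, ← Spec.map_comp,
      Iso.inv_hom_id, Spec.map_id, Category.comp_id]
  exact ConcreteCategory.congr_hom h r

section Vec

variable (k)

variable (x : X) [Algebra k (X.presheaf.stalk x)]

/-- Coordinates in the stalk of the free module. -/
def vecSt : X.presheaf.stalk x ⊗[k] A →ₗ[X.presheaf.stalk x] (freeA k A (X := X)).presheaf.stalk x :=
  (Algebra.TensorProduct.basis (X.presheaf.stalk x) (Module.finBasis k A)).constr (X.presheaf.stalk x)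
    (stdGerm (Module.finrank k A) x)

theorem vecSt_basis (i : Fin (Module.finrank k A)) :
    vecSt k A x (1 ⊗ₜ Module.finBasis k A i) = stdGerm (Module.finrank k A) x i := by
  rw [← Algebra.TensorProduct.basis_apply, vecSt, Module.Basis.constr_basis]

theorem bijective_vecSt : Function.Bijective (vecSt k A x) := by
  let B := Algebra.TensorProduct.basis (X.presheaf.stalk x) (Module.finBasis k A)
  have h : ⇑(vecSt k A x) = ⇑(Fintype.linearCombination (X.presheaf.stalk x) (stdGerm (Module.finrank k A) x)) ∘
      ⇑B.equivFun := by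
    funext z
    rw [vecSt, Module.Basis.constr_apply_fintype, Function.comp_apply, Fintype.linearCombination_apply]
  rw [h]
  exact (stdGerm_bijective _ x).comp B.equivFun.bijective

end Vec

/-- The section of the free module given by an element of the algebra. -/
def secA (W : X.Opens) (a : A) : Γ(freeA k A (X := X), W) :=
  ∑ i, (BCLib.secHom p W).hom ((Module.finBasis k A).repr a i) •
    (freeA k A (X := X)).presheaf.map (homOfLE (le_top : W ≤ ⊤)).op (stdSec X (Module.finrank k A) i)

theorem germ_secA (x : X) (a : A) :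
    letI := algPt p (X.fromSpecStalk x)
    (freeA k A (X := X)).presheaf.germ ⊤ x trivial (secA p A ⊤ a) = vecSt k A x (1 ⊗ₜ[k] a) := by
  letI := algPt p (X.fromSpecStalk x)
  conv_rhs => rw [← (Module.finBasis k A).sum_repr a, TensorProduct.tmul_sum, map_sum]
  rw [secA, map_sum]
  refine Finset.sum_congr rfl fun i _ => ?_
  rw [SubLib.germ_smul', TopCat.Presheaf.germ_res_apply, germ_stdSec, germ_secHom, TensorProduct.tmul_smul,
    ← vecSt_basis, ← map_smul, algebraMap_smul]

/-- Multiplication on the left. -/
def lmulA (a : A) : freeA k A (X := X) ⟶ freeA k A (X := X) :=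
  descS fun i => secA p A ⊤ (a * Module.finBasis k A i)

theorem stalk_lmulA (x : X) (a : A) :
    letI := algPt p (X.fromSpecStalk x)
    ∀ z, stalkLin (lmulA p A a) x (vecSt k A x z) = vecSt k A x ((1 ⊗ₜ[k] a) * z) := by
  letI := algPt p (X.fromSpecStalk x)
  intro z
  have h : stalkLin (lmulA p A a) x ∘ₗ vecSt k A x =
      vecSt k A x ∘ₗ LinearMap.mulLeft (X.presheaf.stalk x) ((1 : X.presheaf.stalk x) ⊗ₜ[k] a) := by
    refine (Algebra.TensorProduct.basis (X.presheaf.stalk x) (Module.finBasis k A)).ext fun i => ?_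
    rw [Algebra.TensorProduct.basis_apply, LinearMap.comp_apply, LinearMap.comp_apply, vecSt_basis,
      LinearMap.mulLeft_apply, Algebra.TensorProduct.tmul_mul_tmul, one_mul, lmulA, descS_stdGerm, germ_secA]
  exact LinearMap.congr_fun h z

variable {A} {c : ℕ} (s : BrSev.SBStr k A c p)

/-- The ideal of a point. -/
def idealPt {R : CommRingCat.{u}} [Algebra k R] (h : Spec R ⟶ X)
    (w : h ≫ p = Spec.map (CommRingCat.ofHom (algebraMap k R))) : Module.Grassmannian R (R ⊗[k] A) c :=
  (s.bij R ⟨h, w⟩).1

theorem mul_mem_idealPt {R : CommRingCat.{u}} [Algebra k R] (h : Spec R ⟶ X)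
    (w : h ≫ p = Spec.map (CommRingCat.ofHom (algebraMap k R))) (a : R ⊗[k] A) {z : R ⊗[k] A}
    (hz : z ∈ (idealPt p s h w).toSubmodule) : a * z ∈ (idealPt p s h w).toSubmodule :=
  (s.bij R ⟨h, w⟩).2 a z hz

theorem idealPt_map {R S : CommRingCat.{u}} [Algebra k R] [Algebra k S] (g : R →ₐ[k] S) {h : Spec R ⟶ X}
    {h' : Spec S ⟶ X} (w : h ≫ p = Spec.map (CommRingCat.ofHom (algebraMap k R)))
    (w' : h' ≫ p = Spec.map (CommRingCat.ofHom (algebraMap k S)))
    (hh : h' = Spec.map (CommRingCat.ofHom (g : R →+* S)) ≫ h) :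
    (idealPt p s h' w').toSubmodule =
      Submodule.span S (Algebra.TensorProduct.map g (AlgHom.id k A) ''
        ((idealPt p s h w).toSubmodule : Set (R ⊗[k] A))) := by
  subst hh
  exact (s.natural R S g ⟨h, w⟩).trans (map_eq_span g _)

/-- The stalks of the tautological module inside the free module. -/
def tautSt : SubLib.StalkSub (freeA k A (X := X)) := fun x =>
  letI := algPt p (X.fromSpecStalk x)
  (idealPt p s (X.fromSpecStalk x) (algPt_spec p _)).toSubmodule.map (vecSt k A x)

variable (k A) in
/-- A section of the free module with given coordinates. -/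
def vecW (W : X.Opens) [Algebra k Γ(X, W)] : Γ(X, W) ⊗[k] A →ₗ[Γ(X, W)] Γ(freeA k A (X := X), W) :=
  (Algebra.TensorProduct.basis Γ(X, W) (Module.finBasis k A)).constr Γ(X, W) fun i =>
    (freeA k A (X := X)).presheaf.map (homOfLE (le_top : W ≤ ⊤)).op (stdSec X (Module.finrank k A) i)

theorem genOn {W : X.Opens} (hW : IsAffineOpen W) : SubLib.GenOn (tautSt p s) W := by
  classical
  letI := algPt p hW.fromSpec
  let N := idealPt p s hW.fromSpec (algPt_spec p _)
  haveI := N.finite_quotient
  haveI := N.projective_quotient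
  haveI : Module.Finite Γ(X, W) N.toSubmodule := by
    obtain ⟨σ, hσ⟩ := Module.projective_lifting_property N.toSubmodule.mkQ LinearMap.id (Submodule.mkQ_surjective _)
    have hmem : ∀ x : Γ(X, W) ⊗[k] A, ((LinearMap.id : Γ(X, W) ⊗[k] A →ₗ[Γ(X, W)] Γ(X, W) ⊗[k] A) - σ ∘ₗ N.toSubmodule.mkQ) x ∈ N.toSubmodule := fun x => by
      rw [← Submodule.Quotient.mk_eq_zero, ← Submodule.mkQ_apply, LinearMap.sub_apply, map_sub, LinearMap.comp_apply,
        ← LinearMap.comp_apply N.toSubmodule.mkQ σ, hσ]
      simp
    refine Module.Finite.of_surjective ((LinearMap.id - σ ∘ₗ N.toSubmodule.mkQ).codRestrict N.toSubmodule hmem)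
      fun z => ⟨z.1, Subtype.ext ?_⟩
    show z.1 - σ (N.toSubmodule.mkQ z.1) = z.1
    rw [Submodule.mkQ_apply, (Submodule.Quotient.mk_eq_zero _).2 z.2, map_zero, sub_zero]
  obtain ⟨G, hG⟩ := (Module.Finite.iff_fg.1 ‹Module.Finite Γ(X, W) N.toSubmodule›)
  refine ⟨G.image (vecW k A W), fun y hy => ?_⟩
  letI := algPt p (X.fromSpecStalk y)
  have hh : X.fromSpecStalk y = Spec.map (X.presheaf.germ W y hy) ≫ hW.fromSpec :=
    (hW.fromSpecStalk_eq_fromSpecStalk hy).symm
  have hk : (X.presheaf.germ W y hy).hom.comp (algebraMap k Γ(X, W)) = algebraMap k (X.presheaf.stalk y) := by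
    refine congrArg CommRingCat.Hom.hom (Spec.map_injective (a₁ := CommRingCat.ofHom (algebraMap k Γ(X, W)) ≫ X.presheaf.germ W y hy)
      (a₂ := CommRingCat.ofHom (algebraMap k (X.presheaf.stalk y))) ?_)
    rw [Spec.map_comp, ← algPt_spec p hW.fromSpec, ← algPt_spec p (X.fromSpecStalk y), hh, Category.assoc]
  let g : Γ(X, W) →ₐ[k] X.presheaf.stalk y :=
    { (X.presheaf.germ W y hy).hom with commutes' := fun r => RingHom.congr_fun hk r }
  have hW1 : ∀ (r : k) (z : Γ(X, W) ⊗[k] A), vecW k A W (r • z) = algebraMap k Γ(X, W) r • vecW k A W z :=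
    fun r z => by rw [← algebraMap_smul Γ(X, W) r z, map_smul]
  have hy1 : ∀ (r : k) (z : X.presheaf.stalk y ⊗[k] A),
      vecSt k A y (r • z) = algebraMap k (X.presheaf.stalk y) r • vecSt k A y z :=
    fun r z => by rw [← algebraMap_smul (X.presheaf.stalk y) r z, map_smul]
  have hgv : ∀ z, (freeA k A (X := X)).presheaf.germ W y hy (vecW k A W z) =
      vecSt k A y (Algebra.TensorProduct.map g (AlgHom.id k A) z) := by
    intro z
    induction z using TensorProduct.induction_on with
    | zero => simp only [map_zero]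
    | add a b ha hb => simp only [map_add, ha, hb]
    | tmul r a =>
      rw [Algebra.TensorProduct.map_tmul, AlgHom.id_apply,
        ← mul_one r, ← smul_eq_mul, ← TensorProduct.smul_tmul', map_smul, SubLib.germ_smul',
        smul_eq_mul, mul_one, ← mul_one (g r), ← smul_eq_mul, ← TensorProduct.smul_tmul', map_smul]
      refine congrArg₂ (· • ·) rfl ?_
      rw [← (Module.finBasis k A).sum_repr a, TensorProduct.tmul_sum, TensorProduct.tmul_sum, map_sum, map_sum,
        map_sum]
      refine Finset.sum_congr rfl fun i _ => ?_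
      rw [TensorProduct.tmul_smul, TensorProduct.tmul_smul, hW1, hy1, SubLib.germ_smul', vecW,
        ← Algebra.TensorProduct.basis_apply (A := Γ(X, W)), Module.Basis.constr_basis,
        TopCat.Presheaf.germ_res_apply, germ_stdSec, vecSt_basis]
      exact congrArg (· • stdGerm _ y i) (RingHom.congr_fun hk _)
  have key := idealPt_map p s g (algPt_spec p hW.fromSpec) (algPt_spec p (X.fromSpecStalk y)) hh
  show Submodule.map (vecSt k A y) (idealPt p s (X.fromSpecStalk y) (algPt_spec p _)).toSubmodule = _
  rw [key, Submodule.map_span, Set.image_image, Finset.coe_image, Set.image_image]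
  simp only [← hgv]
  refine le_antisymm (Submodule.span_le.2 ?_) (Submodule.span_mono (Set.image_mono fun z hz => hG ▸ Submodule.subset_span hz))
  rintro _ ⟨z, hz, rfl⟩
  rw [← hG] at hz
  refine Submodule.span_induction (p := fun z _ => (freeA k A (X := X)).presheaf.germ W y hy (vecW k A W z) ∈ Submodule.span (X.presheaf.stalk y) _) ?_ ?_ ?_ ?_ hz
  · intro z hz
    exact Submodule.subset_span (Set.mem_image_of_mem _ hz)
  · rw [map_zero, map_zero]; exact zero_mem _
  · intro a b _ _ ha hb; rw [map_add, map_add]; exact add_mem ha hb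
  · intro r a _ ha; rw [map_smul, SubLib.germ_smul']; exact Submodule.smul_mem _ _ ha

end Groth.Agent.ASBunKS
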