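import Groth.Agent.ASBunKS.TautMod

/-!
# The tautological module over a splitting field
-/

set_option autoImplicit false
set_option backward.isDefEq.respectTransparency false
set_option linter.style.haveILetI false
set_option linter.unusedSectionVars false

universe u

open CategoryTheory CategoryTheory.Limits AlgebraicGeometry TopologicalSpace Opposite
open W4c1astiltbs12
open Groth.Agent.PullbackMod Groth.Agent.DegDevLib Groth.Agent.GrassShLib
open scoped TensorProduct

noncomputable section

namespace Groth.Agent.ASBunKS

theorem tmul_eq_smul {k R A : Type u} [CommRing k] [CommRing R] [Algebra k R] [Ring A] [Algebra k A] (r : R) (a : A) :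
    r ⊗ₜ[k] a = r • ((1 : R) ⊗ₜ[k] a) := by
  rw [TensorProduct.smul_tmul', smul_eq_mul, mul_one]

theorem germ_toGlobal {K : Type u} [Field K] {Y : Scheme.{u}} (q : Y ⟶ Spec (CommRingCat.of K)) (y : Y) (r : K) :
    letI := algPt q (Y.fromSpecStalk y)
    (Y.presheaf.germ ⊤ y trivial).hom (Coh.toGlobal (A := K) q r) = algebraMap K (Y.presheaf.stalk y) r := by
  letI := algPt q (Y.fromSpecStalk y)
  rw [← germ_secHom]
  congr 1
  show Coh.toGlobal (A := K) q r = Y.presheaf.map _ (Coh.toGlobal (A := K) q r)
  rw [show (homOfLE (le_top : (⊤ : Y.Opens) ≤ ⊤)) = 𝟙 _ from Subsingleton.elim _ _, op_id,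
    CategoryTheory.Functor.map_id]
  rfl

variable {k : Type u} [Field k] {X : Scheme.{u}} (p : X ⟶ Spec (CommRingCat.of k)) (A : Type u) [Ring A]
  [Algebra k A] [Module.Finite k A] (K : Type u) [Field K] [Algebra k K]

/-- The functions at a point of the base change, over the extension. -/
@[reducible] def algK (y : W4bk4gw11416.baseChange p K) :
    Algebra K ((W4bk4gw11416.baseChange p K).presheaf.stalk y) :=
  algPt (snd p K) ((W4bk4gw11416.baseChange p K).fromSpecStalk y)

/-- The functions at a point of the base change, over the ground field. -/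
@[reducible] def algk (y : W4bk4gw11416.baseChange p K) :
    Algebra k ((W4bk4gw11416.baseChange p K).presheaf.stalk y) :=
  ((Spec.preimage ((W4bk4gw11416.baseChange p K).fromSpecStalk y ≫ snd p K)).hom.comp (algebraMap k K)).toAlgebra

theorem tower (y : W4bk4gw11416.baseChange p K) :
    letI := algK p K y
    letI := algk p K y
    IsScalarTower k K ((W4bk4gw11416.baseChange p K).presheaf.stalk y) := by
  letI := algK p K y
  letI := algk p K y
  exact IsScalarTower.of_algebraMap_eq' rfl

theorem point_spec (y : W4bk4gw11416.baseChange p K) :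
    letI := algk p K y
    ((W4bk4gw11416.baseChange p K).fromSpecStalk y ≫ proj p K) ≫ p =
      Spec.map (CommRingCat.ofHom (algebraMap k ((W4bk4gw11416.baseChange p K).presheaf.stalk y))) :=
  (SBSplitLib.point_comp (f := p) (E := K) _).trans (Spec.map_comp _ _).symm

/-- The stalk map over the ground field. -/
def stalkAlgHom (y : W4bk4gw11416.baseChange p K) :
    letI := algk p K y
    letI := algPt p (X.fromSpecStalk (proj p K y))
    X.presheaf.stalk (proj p K y) →ₐ[k] (W4bk4gw11416.baseChange p K).presheaf.stalk y :=
  letI := algk p K y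
  letI := algPt p (X.fromSpecStalk (proj p K y))
  { ((proj p K).stalkMap y).hom with
    commutes' := fun r => by
      refine RingHom.congr_fun (congrArg CommRingCat.Hom.hom (Spec.map_injective
        (a₁ := CommRingCat.ofHom (algebraMap k (X.presheaf.stalk (proj p K y))) ≫ (proj p K).stalkMap y)
        (a₂ := CommRingCat.ofHom (algebraMap k ((W4bk4gw11416.baseChange p K).presheaf.stalk y))) ?_)) r
      rw [Spec.map_comp, ← algPt_spec p (X.fromSpecStalk (proj p K y)), ← point_spec p K y, ← Category.assoc]
      exact congrArg (· ≫ p) (Scheme.SpecMap_stalkMap_fromSpecStalk _) }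

/-- Coordinates in the stalk of the base change of the free module. -/
def vecY (y : W4bk4gw11416.baseChange p K) :
    letI := algk p K y
    (W4bk4gw11416.baseChange p K).presheaf.stalk y ⊗[k] A →ₗ[(W4bk4gw11416.baseChange p K).presheaf.stalk y]
      (bcMod p K (freeA k A)).presheaf.stalk y :=
  letI := algk p K y
  (Algebra.TensorProduct.basis ((W4bk4gw11416.baseChange p K).presheaf.stalk y) (Module.finBasis k A)).constr
    ((W4bk4gw11416.baseChange p K).presheaf.stalk y)
    fun i => pullStalk (proj p K) (freeA k A) y (stdGerm (Module.finrank k A) (proj p K y) i)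

theorem vecY_basis (y : W4bk4gw11416.baseChange p K) (i : Fin (Module.finrank k A)) :
    letI := algk p K y
    vecY p A K y (1 ⊗ₜ Module.finBasis k A i) =
      pullStalk (proj p K) (freeA k A) y (stdGerm (Module.finrank k A) (proj p K y) i) := by
  letI := algk p K y
  rw [← Algebra.TensorProduct.basis_apply, vecY, Module.Basis.constr_basis]

theorem bijective_vecY (y : W4bk4gw11416.baseChange p K) :
    letI := algk p K y
    Function.Bijective (vecY p A K y) := by
  letI := algk p K y
  let N := Module.finrank k A
  let v : Fin N → Γ(bcMod p K (freeA k A), (⊤ : (W4bk4gw11416.baseChange p K).Opens)) := fun i =>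
    pullMap (proj p K) (freeA k A) (W := ⊤) (W' := ⊤) le_top (stdSec X N i)
  haveI : Coh.IsQCoh (freeA k A (X := X)) :=
    (isQCoh_and_isFP_of_isFinLocFree _ (DCohLib.isFinLocFree_freeMod _)).1
  have hL : FlatMod.IsFinLocFreeOfRank N (bcMod p K (freeA k A)) :=
    FlagLib.rank_pullback (proj p K) _ (fun _ => ⟨⊤, trivial, ⟨DCohLib.restrictFreeMod _ N⟩⟩)
  have hs : SpanAt (W := (⊤ : (W4bk4gw11416.baseChange p K).Opens)) v y trivial :=
    spanAt_pullMap (proj p K) (W := ⊤) (W' := ⊤) le_top (show y ∈ (⊤ : (W4bk4gw11416.baseChange p K).Opens) from trivial) ((spanAt_iff_surjective (stdSec X N) (proj p K y) trivial).2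
      ((isFrame_stdSec X N) (proj p K y) trivial).2)
  have hb := bijective_of_spanAt hL hs
  have hv : ∀ i, (bcMod p K (freeA k A)).presheaf.germ ⊤ y trivial (v i) =
      pullStalk (proj p K) (freeA k A) y (stdGerm N (proj p K y) i) := fun i => by
    rw [← germ_stdSec]
    exact (pullStalk_germ' (proj p K) (freeA k A) y (W := ⊤) trivial (W' := ⊤) trivial le_top _).symm
  let B := Algebra.TensorProduct.basis ((W4bk4gw11416.baseChange p K).presheaf.stalk y) (Module.finBasis k A)
  have h : ⇑(vecY p A K y) = ⇑(Fintype.linearCombination ((W4bk4gw11416.baseChange p K).presheaf.stalk y)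
      fun i => (bcMod p K (freeA k A)).presheaf.germ ⊤ y trivial (v i)) ∘ ⇑B.equivFun := by
    funext z
    rw [vecY, Module.Basis.constr_apply_fintype, Function.comp_apply, Fintype.linearCombination_apply]
    simp only [hv]
    rfl
  rw [h]
  exact hb.comp B.equivFun.bijective

theorem pullStalk_vecSt (y : W4bk4gw11416.baseChange p K) :
    letI := algk p K y
    letI := algPt p (X.fromSpecStalk (proj p K y))
    ∀ z, pullStalk (proj p K) (freeA k A) y (vecSt k A (proj p K y) z) =
      vecY p A K y (Algebra.TensorProduct.map (stalkAlgHom p K y) (AlgHom.id k A) z) := by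
  letI := algk p K y
  letI := algPt p (X.fromSpecStalk (proj p K y))
  intro z
  induction z using TensorProduct.induction_on with
  | zero => simp only [map_zero]
  | add a b ha hb => simp only [map_add, ha, hb]
  | tmul r a =>
    rw [← (Module.finBasis k A).sum_repr a, TensorProduct.tmul_sum, map_sum, map_sum, map_sum, map_sum]
    refine Finset.sum_congr rfl fun i _ => ?_
    generalize (Module.finBasis k A).repr a i = q
    have e1 : r ⊗ₜ[k] (q • Module.finBasis k A i) =
        (algebraMap k (X.presheaf.stalk (proj p K y)) q * r) • ((1 : X.presheaf.stalk (proj p K y)) ⊗ₜ[k] Module.finBasis k A i) := by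
      rw [TensorProduct.tmul_smul, TensorProduct.smul_tmul', TensorProduct.smul_tmul', smul_eq_mul, mul_one,
        Algebra.smul_def]
    rw [e1, map_smul, vecSt_basis, pullStalk_smul, TensorProduct.smul_tmul', Algebra.TensorProduct.map_tmul,
      smul_eq_mul, mul_one, AlgHom.id_apply, tmul_eq_smul (stalkAlgHom p K y _), map_smul, vecY_basis]
    rfl

variable {c : ℕ} (s : BrSev.SBStr k A c p)

/-- The inclusion after extension of the field. -/
abbrev tautιK : bcMod p K (taut p A s) ⟶ bcMod p K (freeA k A) :=
  (Scheme.Modules.pullback (proj p K)).map (tautι p A s)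

theorem range_tautιK (y : W4bk4gw11416.baseChange p K) :
    letI := algk p K y
    LinearMap.range (stalkLin (tautιK p A K s) y) =
      (idealPt p s ((W4bk4gw11416.baseChange p K).fromSpecStalk y ≫ proj p K) (point_spec p K y)).toSubmodule.map
        (vecY p A K y) := by
  letI := algk p K y
  letI := algPt p (X.fromSpecStalk (proj p K y))
  haveI : Coh.IsQCoh (taut p A s) := (isCoh_taut p A s).1
  let g := stalkAlgHom p K y
  rw [idealPt_map p s g (algPt_spec p (X.fromSpecStalk (proj p K y))) (point_spec p K y)
    (Scheme.SpecMap_stalkMap_fromSpecStalk _).symm, Submodule.map_span, Set.image_image]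
  have hspan : Submodule.span ((W4bk4gw11416.baseChange p K).presheaf.stalk y)
      (Set.range (pullStalk (proj p K) (taut p A s) y)) = ⊤ := by
    letI : Algebra (X.presheaf.stalk (proj p K y)) ((W4bk4gw11416.baseChange p K).presheaf.stalk y) :=
      ((proj p K).stalkMap y).hom.toAlgebra
    letI := Module.compHom ((bcMod p K (taut p A s)).presheaf.stalk y) ((proj p K).stalkMap y).hom
    haveI : IsScalarTower (X.presheaf.stalk (proj p K y)) ((W4bk4gw11416.baseChange p K).presheaf.stalk y)
        ((bcMod p K (taut p A s)).presheaf.stalk y) := .of_algebraMap_smul fun _ _ => rfl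
    have hb := isBaseChange_pullStalkL (proj p K) (taut p A s) y
    refine Submodule.eq_top_iff'.2 fun w => ?_
    obtain ⟨t, rfl⟩ := hb.equiv.surjective w
    induction t using TensorProduct.induction_on with
    | zero => rw [map_zero]; exact zero_mem _
    | add a b ha hb' => rw [map_add]; exact add_mem ha hb'
    | tmul a b =>
      rw [IsBaseChange.equiv_tmul]
      exact Submodule.smul_mem _ _ (Submodule.subset_span ⟨b, rfl⟩)
  rw [← Submodule.map_top, ← hspan, Submodule.map_span, ← Set.range_comp]
  refine le_antisymm (Submodule.span_le.2 ?_) (Submodule.span_le.2 ?_)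
  · rintro _ ⟨z, rfl⟩
    have h : stalkLin (tautι p A s) (proj p K y) z ∈ tautSt p s (proj p K y) :=
      range_stalk_tautι p A s (proj p K y) ▸ LinearMap.mem_range_self _ z
    obtain ⟨u, hu, hu'⟩ := h
    refine Submodule.subset_span ⟨u, hu, ?_⟩
    show vecY p A K y (Algebra.TensorProduct.map (stalkAlgHom p K y) (AlgHom.id k A) u) = _
    rw [← pullStalk_vecSt, hu', Function.comp_apply, pullStalk_natural]
  · rintro _ ⟨u, hu, rfl⟩
    have h : vecSt k A (proj p K y) u ∈ tautSt p s (proj p K y) := Submodule.mem_map_of_mem hu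
    rw [← range_stalk_tautι p A s] at h
    obtain ⟨z, hz⟩ := h
    refine Submodule.subset_span ⟨z, ?_⟩
    show _ = vecY p A K y (Algebra.TensorProduct.map (stalkAlgHom p K y) (AlgHom.id k A) u)
    rw [← pullStalk_vecSt, ← hz, Function.comp_apply, pullStalk_natural]

/-- The action after extension of the field. -/
def actK :
    letI := endAlg (snd p K) (bcMod p K (taut p A s))
    K ⊗[k] A →ₐ[K] End (bcMod p K (taut p A s)) :=
  letI := endAlg p (taut p A s)
  letI := endAlg (snd p K) (bcMod p K (taut p A s))
  haveI : Coh.IsQCoh (taut p A s) := (isCoh_taut p A s).1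
  (endBC p K (taut p A s)).comp (Algebra.TensorProduct.map (AlgHom.id K K) (tautAct p A s))

theorem stalk_actK (y : W4bk4gw11416.baseChange p K) :
    letI := algk p K y
    letI := algK p K y
    haveI := tower p K y
    letI := endAlg (snd p K) (bcMod p K (taut p A s))
    ∀ (z : K ⊗[k] A) (w : (bcMod p K (taut p A s)).presheaf.stalk y)
      (u : (W4bk4gw11416.baseChange p K).presheaf.stalk y ⊗[k] A),
      stalkLin (tautιK p A K s) y w = vecY p A K y u →
      stalkLin (tautιK p A K s) y (stalkLin (actK p A K s z : bcMod p K (taut p A s) ⟶ bcMod p K (taut p A s)) y w) =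
        vecY p A K y (Algebra.TensorProduct.map (IsScalarTower.toAlgHom k K _) (AlgHom.id k A) z * u) := by
  letI := algk p K y
  letI := algK p K y
  haveI := tower p K y
  letI := endAlg (snd p K) (bcMod p K (taut p A s))
  letI := endAlg p (taut p A s)
  haveI : Coh.IsQCoh (taut p A s) := (isCoh_taut p A s).1
  intro z w u hw
  induction z using TensorProduct.induction_on with
  | zero =>
    rw [map_zero, map_zero, zero_mul, map_zero]
    show stalkLin _ y (stalkLin (0 : bcMod p K (taut p A s) ⟶ _) y w) = 0
    rw [(eq_zero_iff_stalk _).1 rfl y, LinearMap.zero_apply, map_zero]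
  | add a b ha hb =>
    rw [map_add, map_add, add_mul, map_add]
    show stalkLin _ y (stalkLin ((actK p A K s a : bcMod p K (taut p A s) ⟶ _) + (actK p A K s b : bcMod p K (taut p A s) ⟶ _)) y w) = _
    rw [stalkLin_add', LinearMap.add_apply, map_add, ha, hb]
  | tmul r a =>
    have h1 : (actK p A K s (r ⊗ₜ[k] a) : bcMod p K (taut p A s) ⟶ bcMod p K (taut p A s)) =
        (Scheme.Modules.pullback (proj p K)).map (lmulT p A s a : taut p A s ⟶ taut p A s) ≫
          (cE (snd p K) (bcMod p K (taut p A s)) r : bcMod p K (taut p A s) ⟶ bcMod p K (taut p A s)) := by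
      show endBC p K (taut p A s) (Algebra.TensorProduct.map (AlgHom.id K K) (tautAct p A s) (r ⊗ₜ[k] a)) = _
      rw [Algebra.TensorProduct.map_tmul, AlgHom.id_apply, endBC_tmul]
      rfl
    rw [h1, stalkLin_comp, LinearMap.comp_apply, stalkLin_cE, map_smul, germ_toGlobal, ← LinearMap.comp_apply
      (stalkLin (tautιK p A K s) y), ← stalkLin_comp, ← Functor.map_comp, lmulT_ι, Functor.map_comp, stalkLin_comp,
      LinearMap.comp_apply, hw, Algebra.TensorProduct.map_tmul, IsScalarTower.toAlgHom_apply, AlgHom.id_apply]
    have h2 : stalkLin ((Scheme.Modules.pullback (proj p K)).map (lmulA p A a)) y ∘ₗ vecY p A K y =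
        vecY p A K y ∘ₗ LinearMap.mulLeft ((W4bk4gw11416.baseChange p K).presheaf.stalk y) (1 ⊗ₜ[k] a) := by
      refine (Algebra.TensorProduct.basis ((W4bk4gw11416.baseChange p K).presheaf.stalk y) (Module.finBasis k A)).ext fun i => ?_
      letI := algPt p (X.fromSpecStalk (proj p K y))
      rw [Algebra.TensorProduct.basis_apply, LinearMap.comp_apply, LinearMap.comp_apply, vecY_basis, pullStalk_natural,
        ← vecSt_basis, stalk_lmulA, pullStalk_vecSt, LinearMap.mulLeft_apply, map_mul,
        Algebra.TensorProduct.map_tmul, Algebra.TensorProduct.map_tmul, AlgHom.id_apply, map_one, AlgHom.id_apply]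
    refine (congrArg (_ • ·) (LinearMap.congr_fun h2 u)).trans ?_
    rw [LinearMap.comp_apply, ← map_smul, LinearMap.mulLeft_apply, ← smul_mul_assoc, TensorProduct.smul_tmul',
      smul_eq_mul, mul_one]

end Groth.Agent.ASBunKS
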