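import Groth.Agent.ASBunKS.TensorEnd
import Groth.Agent.DCohLib.TensorPerf
import Groth.Agent.CurveLib.TensorDeg
import Groth.Agent.DCohLib.ProjMap
import Groth.Agent.BrauerClassLib.Period

/-!
# The Brauer class attached to a twisting type
-/

set_option autoImplicit false
set_option backward.isDefEq.respectTransparency false
set_option linter.style.haveILetI false
set_option linter.unusedSectionVars false

universe u v

open CategoryTheory CategoryTheory.Limits AlgebraicGeometry
open Groth.Agent.BrauerClassLib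
open scoped TensorProduct

noncomputable section

namespace Groth.Agent.ASBunKS

variable {k : Type u} [Field k] {X : Scheme.{u}} (f : X ⟶ Spec (CommRingCat.of k)) [IsProper f] {n : ℕ}

/-- The class of the endomorphisms of a coherent module. -/
def eCls {M : X.Modules} (hM : Coh.IsCoh M) : Br k :=
  letI := endAlg f M
  haveI := finite_endAlg f hM
  cls (k := k) (End M)

theorem eCls_congr {M N : X.Modules} (hM : Coh.IsCoh M) (hN : Coh.IsCoh N) (φ : M ≅ N) :
    eCls f hM = eCls f hN := by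
  letI := endAlg f M
  letI := endAlg f N
  haveI := finite_endAlg f hM
  haveI := finite_endAlg f hN
  obtain ⟨a⟩ := nonempty_endCongr f φ
  exact cls_congr a

theorem eCls_pow {M : X.Modules} (hM : Coh.IsCoh M) {s : ℕ} (hs : 0 < s)
    (hMs : Coh.IsCoh (W4c1astiltbs12.pow M s)) : eCls f hMs = eCls f hM := by
  letI := endAlg f M
  letI := endAlg f (W4c1astiltbs12.pow M s)
  haveI := finite_endAlg f hM
  haveI := finite_endAlg f hMs
  obtain ⟨a⟩ := nonempty_endPowMat f M s
  exact cls_of_equiv_matrix hs.ne' a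

variable {K : Type u} [Field K] [Algebra k K] [IsAlgClosed K] (e : BrSev.Splitting f K n)

include e in
theorem csa_of_type {M : X.Modules} (hM : Coh.IsCoh M) {j : ℤ} {r : ℕ} (hr : 0 < r)
    (h : BrSev.IsTwPow e j r M) :
    letI := endAlg f M
    Algebra.IsCentral k (End M) ∧ IsSimpleRing (End M) ∧ Module.Finite k (End M) ∧
      Module.finrank k (End M) = r ^ 2 := by
  haveI : IsIntegral (W4bk4gw11416.baseChange f K) := isIntegral_bcK f e
  obtain ⟨φ⟩ := h
  exact csa_end f K hM (isInvertible_twistK f e j) hr φ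

theorem eCls_eq_of_type {M N : X.Modules} (hM : Coh.IsCoh M) (hN : Coh.IsCoh N) {j : ℤ} {r s : ℕ}
    (hr : 0 < r) (hs : 0 < s) (hMt : BrSev.IsTwPow e j r M) (hNt : BrSev.IsTwPow e j s N) :
    eCls f hM = eCls f hN := by
  haveI : IsLocallyNoetherian X := LocallyOfFiniteType.isLocallyNoetherian f
  have hMs := isCoh_pow hM s
  have hNr := isCoh_pow hN r
  obtain ⟨a⟩ := hMt
  obtain ⟨b⟩ := hNt
  obtain ⟨φ⟩ := nonempty_iso_of_iso_bc f K hMs hNr
    (bcPow f K M s ≪≫ powIso a s ≪≫ powPow (e.twist j) r s ≪≫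
      eqToIso (by rw [Nat.mul_comm]) ≪≫ (powPow (e.twist j) s r).symm ≪≫ powIso b.symm r ≪≫ (bcPow f K N r).symm)
  rw [← eCls_pow f hM hs hMs, ← eCls_pow f hN hr hNr]
  exact eCls_congr f hMs hNr φ

set_option synthInstance.maxHeartbeats 400000 in
set_option maxHeartbeats 2000000 in
include e in
theorem eCls_tensor {M N : X.Modules} (hM : Coh.IsCoh M) (hN : Coh.IsCoh N)
    (hMN : Coh.IsCoh (CohB1.tensorMod M N)) {j l : ℤ} {r s : ℕ} (hr : 0 < r) (hs : 0 < s)
    (hMt : BrSev.IsTwPow e j r M) (hNt : BrSev.IsTwPow e l s N) :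
    eCls f hMN = eCls f hM * eCls f hN := by
  letI := endAlg f M
  letI := endAlg f N
  letI := endAlg f (CohB1.tensorMod M N)
  haveI := finite_endAlg f hM
  haveI := finite_endAlg f hN
  haveI := finite_endAlg f hMN
  obtain ⟨h1, h2, -, hd⟩ := csa_of_type f e hM hr hMt
  obtain ⟨h3, h4, -, hd'⟩ := csa_of_type f e hN hs hNt
  obtain ⟨-, h6, -, hdT⟩ := csa_of_type f e hMN (Nat.mul_pos hr hs) (isTwPow_tensor f e hMt hNt)
  obtain ⟨h7, h8⟩ := csa_tensor (k := k) (End M) (End N)
  haveI := h8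
  haveI := h6
  obtain ⟨ψ⟩ := nonempty_tensorEnd f M N
  have hinj : Function.Injective ψ := ψ.toRingHom.injective
  have hbij : Function.Bijective ψ := ⟨hinj,
    (LinearMap.injective_iff_surjective_of_finrank_eq_finrank (f := ψ.toLinearMap) (by
      rw [Module.finrank_tensorProduct, hd, hd', hdT, mul_pow])).1 hinj⟩
  refine (cls_congr (AlgEquiv.ofBijective ψ hbij)).symm.trans ?_
  exact cls_mul (End M) (End N)

include e in
theorem eCls_eq_one {M : X.Modules} (hM : Coh.IsCoh M) (h : BrSev.IsTwPow e 0 1 M) : eCls f hM = 1 := by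
  letI := endAlg f M
  haveI := finite_endAlg f hM
  obtain ⟨h1, h2, -, hd⟩ := csa_of_type f e hM one_pos h
  rw [one_pow] at hd
  have hinj : Function.Injective (Algebra.ofId k (End M)) := (algebraMap k (End M)).injective
  exact (cls_congr (AlgEquiv.ofBijective (Algebra.ofId k (End M)) ⟨hinj,
    (LinearMap.injective_iff_surjective_of_finrank_eq_finrank (f := (Algebra.ofId k (End M)).toLinearMap) (by
      rw [hd, Module.finrank_self])).1 hinj⟩)).symm

include e in
theorem isTwPow_structure : BrSev.IsTwPow e 0 1 (Coh.structureModule X) := by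
  obtain ⟨a⟩ := ProjTwistLib.nonempty_zero_iso (𝒜 := CohB1.polyGrading n K)
  exact ⟨DCohLib.pullStructureIso (BrSev.proj f K) ≪≫ (DCohLib.pullStructureIso e.iso.hom).symm ≪≫
    (Scheme.Modules.pullback e.iso.hom).mapIso a.symm ≪≫
    (coproductUniqueIso (fun _ : Fin 1 => e.twist 0)).symm⟩

/-- Some finite locally free module of the given type has the given class. -/
def HasCls (j : ℤ) (c : Br k) : Prop :=
  ∃ (M : X.Modules) (hM : Coh.IsCoh M) (r : ℕ), 0 < r ∧ BrSev.IsTwPow e j r M ∧ eCls f hM = c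

variable {f e}

theorem HasCls.intro {M : X.Modules} (hM : Coh.IsCoh M) {j : ℤ} {r : ℕ} (hr : 0 < r)
    (h : BrSev.IsTwPow e j r M) : HasCls f e j (eCls f hM) :=
  ⟨M, hM, r, hr, h, rfl⟩

theorem HasCls.unique {j : ℤ} {c c' : Br k} (h : HasCls f e j c) (h' : HasCls f e j c') : c = c' := by
  obtain ⟨M, hM, r, hr, ht, rfl⟩ := h
  obtain ⟨N, hN, s, hs, ht', rfl⟩ := h'
  exact eCls_eq_of_type f e hM hN hr hs ht ht'

theorem HasCls.mul {j l : ℤ} {c c' : Br k} (h : HasCls f e j c) (h' : HasCls f e l c') :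
    HasCls f e (j + l) (c * c') := by
  haveI : IsLocallyNoetherian X := LocallyOfFiniteType.isLocallyNoetherian f
  obtain ⟨M, hM, r, hr, ht, rfl⟩ := h
  obtain ⟨N, hN, s, hs, ht', rfl⟩ := h'
  exact ⟨_, CurveLib.isCoh_tmod hM hN, r * s, Nat.mul_pos hr hs, isTwPow_tensor f e ht ht',
    eCls_tensor f e hM hN _ hr hs ht ht'⟩

variable (f e) in
theorem hasCls_zero : HasCls f e 0 1 := by
  haveI : IsLocallyNoetherian X := LocallyOfFiniteType.isLocallyNoetherian f
  have hO : FlatMod.IsFinLocFree (Coh.structureModule X) := CurveLib.isFinLocFree_of_isInvertible ParaFLib.isInvertible_structureModule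
  exact ⟨_, DCohLib.isCoh_of_isFinLocFree hO, 1, one_pos, isTwPow_structure f e,
    eCls_eq_one f e _ (isTwPow_structure f e)⟩

theorem HasCls.mul_neg {j : ℤ} {c c' : Br k} (h : HasCls f e j c) (h' : HasCls f e (-j) c') : c * c' = 1 :=
  (h.mul h').unique (by rw [add_neg_cancel]; exact hasCls_zero f e)

theorem HasCls.npow {j : ℤ} {c : Br k} (h : HasCls f e j c) : ∀ m : ℕ, HasCls f e (m * j) (c ^ m)
  | 0 => by rw [Nat.cast_zero, zero_mul, pow_zero]; exact hasCls_zero f e
  | m + 1 => by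
    rw [pow_succ, Nat.cast_succ, add_mul, one_mul]
    exact (h.npow m).mul h

include e in
theorem exists_div_of_type {W : X.Modules} (hW : Coh.IsCoh W) (hWi : Indec W) {j : ℤ} {r : ℕ} (hr : 0 < r)
    (h : BrSev.IsTwPow e j r W) :
    ∃ (D : Type u) (_ : DivisionRing D) (_ : Algebra k D) (_ : Algebra.IsCentral k D) (_ : Module.Finite k D),
      Module.finrank k D = r ^ 2 ∧ eCls f hW = cls D := by
  haveI : IsIntegral (W4bk4gw11416.baseChange f K) := isIntegral_bcK f e
  letI := endAlg f W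
  haveI := finite_endAlg f hW
  obtain ⟨h1, h2, -, hd⟩ := csa_of_type f e hW hr h
  obtain ⟨φ⟩ := h
  have hiso := exists_div_end f K hW hWi (isInvertible_twistK f e j) hr φ
  obtain ⟨m, D, _, _, hm, hDc, hDf, ⟨ψ⟩⟩ := exists_div (k := k) (End W)
  have hm1 : m = 1 := by
    by_contra hne
    haveI : NeZero m := ⟨hm.ne'⟩
    have h01 : (⟨0, hm⟩ : Fin m) ≠ ⟨1, by omega⟩ := fun h => by simp at h
    let x : Matrix (Fin m) (Fin m) D := Matrix.single ⟨0, hm⟩ ⟨1, by omega⟩ 1
    have hx : x ≠ 0 := fun h => by simpa [x] using congrFun (congrFun h ⟨0, hm⟩) ⟨1, by omega⟩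
    have hx2 : x * x = 0 := by simp [x, h01.symm]
    haveI := hiso (ψ.symm x : End W) (fun h => hx (ψ.symm.injective (h.trans (map_zero ψ.symm).symm)))
    have hu : IsUnit (ψ.symm x : End W) := (isUnit_iff_isIso _).2 inferInstance
    have hu' : IsUnit x := by simpa using hu.map ψ
    exact hx (hu'.mul_left_cancel (hx2.trans (mul_zero _).symm))
  subst hm1
  refine ⟨D, inferInstance, inferInstance, hDc, hDf, ?_, cls_of_equiv_matrix one_ne_zero ψ⟩
  rw [← hd, ψ.toLinearEquiv.finrank_eq, Module.finrank_matrix]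
  simp

theorem dvd_of_inverse_type {W W' : X.Modules} (hW : FlatMod.IsFinLocFree W) (hW' : FlatMod.IsFinLocFree W')
    (hWi : Indec W) (hW'i : Indec W') {j : ℤ} {r r' : ℕ} (hr : 0 < r) (hr' : 0 < r')
    (h : BrSev.IsTwPow e j r W) (h' : BrSev.IsTwPow e (-j) r' W') : r' ∣ r := by
  haveI : IsLocallyNoetherian X := LocallyOfFiniteType.isLocallyNoetherian f
  obtain ⟨D, _, _, _, _, hD, hc⟩ := exists_div_of_type (DCohLib.isCoh_of_isFinLocFree hW) hWi hr h
  obtain ⟨D', _, _, _, _, hD', hc'⟩ := exists_div_of_type (DCohLib.isCoh_of_isFinLocFree hW') hW'i hr' h'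
  have h1 := (HasCls.intro (DCohLib.isCoh_of_isFinLocFree hW) hr h).mul_neg (HasCls.intro (DCohLib.isCoh_of_isFinLocFree hW') hr' h')
  rw [hc, hc'] at h1
  refine dvd_of_cls_eq_pow hD hD' (r := r - 1) ?_
  calc cls (k := k) D' = cls (k := k) D' * cls (k := k) D ^ r := by rw [cls_pow_deg hD, mul_one]
    _ = cls (k := k) D' * (cls (k := k) D * cls (k := k) D ^ (r - 1)) := by
        rw [← pow_succ', Nat.sub_add_cancel hr]
    _ = cls (k := k) D ^ (r - 1) := by rw [← mul_assoc, mul_comm (cls (k := k) D'), h1, one_mul]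

variable {A : Type v} [Ring A] [Algebra k A] [Algebra.IsCentral k A] [IsSimpleRing A] [Module.Finite k A]

include e in
/-- The rank of an indecomposable module is the index of any algebra in its class. -/
theorem isIndex_of_type {W : X.Modules} (hW : FlatMod.IsFinLocFree W) (hWi : Indec W) {j : ℤ} {r : ℕ} (hr : 0 < r)
    (h : BrSev.IsTwPow e j r W) (hA : HasCls f e j (cls (k := k) A)) : CSAGal.IsIndex k A r := by
  haveI : IsLocallyNoetherian X := LocallyOfFiniteType.isLocallyNoetherian f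
  obtain ⟨D, _, _, _, _, hd, hc⟩ := exists_div_of_type (DCohLib.isCoh_of_isFinLocFree hW) hWi hr h
  have hA' : cls (k := k) A = cls D := (hA.unique (HasCls.intro (DCohLib.isCoh_of_isFinLocFree hW) hr h)).trans hc
  obtain ⟨d, hd0⟩ := exists_index (k := k) A
  obtain ⟨D', _, _, _, _, hd', hc'⟩ := cls_of_isIndex hd0
  obtain rfl : d = r := deg_eq_of_cls_eq hd' hd (hc'.symm.trans hA')
  exact hd0

end Groth.Agent.ASBunKS
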