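import Groth.Agent.ASBunKS.TautDeg
import Groth.Agent.ASBunKS.TypeCls
import Groth.Agent.ASBunKS.SBType
import Groth.Agent.BrauerClassLib.Period

/-!
# The class of the tautological type and the index of a type
-/

set_option autoImplicit false
set_option backward.isDefEq.respectTransparency false
set_option linter.style.haveILetI false
set_option linter.unusedSectionVars false

universe u v w

open CategoryTheory CategoryTheory.Limits AlgebraicGeometry
open W4c1astiltbs12
open Groth.Agent.BrauerClassLib Groth.Agent.PicProjLib Groth.Agent.PullbackMod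
open scoped TensorProduct

noncomputable section

namespace Groth.Agent.ASBunKS

theorem isInvertible_iff_rank_one' {Y : Scheme.{u}} {L : Y.Modules} :
    PicF.IsInvertible L ↔ FlatMod.IsFinLocFreeOfRank 1 L :=
  forall_congr' fun _ => exists_congr fun U => and_congr_right fun _ =>
    ⟨fun ⟨e⟩ => ⟨e ≪≫ (coproductUniqueIso fun _ : Fin 1 => Coh.structureModule (↑U : Scheme.{u})).symm⟩,
      fun ⟨e⟩ => ⟨e ≪≫ coproductUniqueIso fun _ : Fin 1 => Coh.structureModule (↑U : Scheme.{u})⟩⟩

/-- A finite locally free module on a connected space has a rank. -/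
theorem exists_rank' {X : Scheme.{u}} [PreconnectedSpace X] [Nonempty X] {E : X.Modules}
    (hE : FlatMod.IsFinLocFree E) : ∃ r : ℕ, FlatMod.IsFinLocFreeOfRank r E := by
  haveI := (isQCoh_and_isFP_of_isFinLocFree E hE).1
  let ρ : X → ℕ := fun x => Module.finrank (X.presheaf.stalk x) (E.presheaf.stalk x)
  have hρ : ∀ (U : X.Opens) (n : ℕ), Nonempty (E.restrict U.ι ≅ FlatMod.freeMod (↑U) n) → ∀ y ∈ U, ρ y = n := by
    rintro U n ⟨e⟩ y hy
    obtain ⟨l⟩ := PullbackMod.freeAt_of_restrict_iso E e hy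
    rw [show ρ y = Module.finrank (X.presheaf.stalk y) (E.presheaf.stalk y) from rfl, l.finrank_eq,
      Module.finrank_fin_fun]
  have hlc : IsLocallyConstant ρ := (IsLocallyConstant.iff_exists_open ρ).2 fun x => by
    obtain ⟨U, n, hx, he⟩ := hE x
    exact ⟨U, U.2, hx, fun y hy => (hρ U n he y hy).trans (hρ U n he x hx).symm⟩
  obtain ⟨x₀⟩ := ‹Nonempty X›
  refine ⟨ρ x₀, fun x => ?_⟩
  obtain ⟨U, n, hx, he⟩ := hE x
  rw [hlc.apply_eq_of_preconnectedSpace x₀ x, hρ U n he x hx]
  exact ⟨U, hx, he⟩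

section Classes

variable {k : Type u} [Field k]

/-- Inverse classes have the same index. -/
theorem deg_eq_of_mul_eq_one {D : Type v} [DivisionRing D] [Algebra k D] [Algebra.IsCentral k D] [Module.Finite k D]
    {D' : Type w} [DivisionRing D'] [Algebra k D'] [Algebra.IsCentral k D'] [Module.Finite k D'] {d d' : ℕ}
    (hd : Module.finrank k D = d ^ 2) (hd' : Module.finrank k D' = d' ^ 2)
    (h : cls (k := k) D * cls D' = 1) : d = d' := by
  have hd0 : 0 < d := Nat.pos_of_ne_zero fun h0 => (Module.finrank_pos (R := k) (M := D)).ne' (by simp [hd, h0])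
  have hd0' : 0 < d' := Nat.pos_of_ne_zero fun h0 => (Module.finrank_pos (R := k) (M := D')).ne' (by simp [hd', h0])
  refine Nat.dvd_antisymm (dvd_of_cls_eq_pow hd' hd (r := d' - 1) ?_) (dvd_of_cls_eq_pow hd hd' (r := d - 1) ?_)
  · calc cls (k := k) D = cls (k := k) D * cls (k := k) D' ^ (d' - 1 + 1) := by
          rw [Nat.sub_add_cancel hd0', cls_pow_deg hd', mul_one]
      _ = cls (k := k) D' ^ (d' - 1) := by rw [pow_succ', ← mul_assoc, h, one_mul]
  · calc cls (k := k) D' = cls (k := k) D' * cls (k := k) D ^ (d - 1 + 1) := by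
          rw [Nat.sub_add_cancel hd0, cls_pow_deg hd, mul_one]
      _ = cls (k := k) D ^ (d - 1) := by rw [pow_succ', ← mul_assoc, mul_comm (cls (k := k) D'), h, one_mul]

/-- Congruent exponents give powers of each other. -/
theorem exists_pow_eq {M : Type v} [Monoid M] (a : M) {p : ℕ} (hp : a ^ p = 1) (hp0 : 0 < p) {j l : ℤ}
    (h : (p : ℤ) ∣ l - j) : ∃ t : ℕ, a ^ l.natAbs = (a ^ j.natAbs) ^ t := by
  haveI : NeZero p := ⟨hp0.ne'⟩
  have hl : (l : ZMod p) = (j : ZMod p) := by
    rw [← sub_eq_zero, ← Int.cast_sub, ZMod.intCast_zmod_eq_zero_iff_dvd]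
    exact h
  have habs : ∀ x : ℤ, ((x.natAbs : ℕ) : ZMod p) = (x : ZMod p) ∨ ((x.natAbs : ℕ) : ZMod p) = -(x : ZMod p) := by
    intro x
    rcases Int.natAbs_eq x with hx | hx
    · exact Or.inl (by conv_rhs => rw [hx, Int.cast_natCast])
    · exact Or.inr (by conv_rhs => rw [hx, Int.cast_neg, Int.cast_natCast, neg_neg])
  have key : ∃ t : ℕ, ((l.natAbs : ℕ) : ZMod p) = ((j.natAbs * t : ℕ) : ZMod p) := by
    rcases habs j with hj | hj <;> rcases habs l with hl' | hl'
    · exact ⟨1, by rw [mul_one, hl', hj, hl]⟩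
    · exact ⟨p - 1, by rw [Nat.cast_mul, Nat.cast_sub hp0, hl', hj, hl, ZMod.natCast_self]; ring⟩
    · exact ⟨p - 1, by rw [Nat.cast_mul, Nat.cast_sub hp0, hl', hj, hl, ZMod.natCast_self]; ring⟩
    · exact ⟨1, by rw [mul_one, hl', hj, hl]⟩
  obtain ⟨t, ht⟩ := key
  refine ⟨t, ?_⟩
  rw [← pow_mul, pow_eq_pow_mod l.natAbs hp, pow_eq_pow_mod (j.natAbs * t) hp]
  exact congrArg (a ^ ·) ((ZMod.natCast_eq_natCast_iff' _ _ _).1 ht)

theorem isIndex_eq_one {A : Type v} [Ring A] [Algebra k A] [Algebra.IsCentral k A] [IsSimpleRing A]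
    [Module.Finite k A] {d : ℕ} (hd : CSAGal.IsIndex k A d) (h : cls (k := k) A = 1) : d = 1 := by
  obtain ⟨D, _, _, _, _, hD, hc⟩ := cls_of_isIndex hd
  exact deg_eq_of_cls_eq hD (D' := k) (by rw [Module.finrank_self, one_pow]) (hc.symm.trans h)

theorem cls_eq_one_of_finrank {A : Type v} [Ring A] [Nontrivial A] [Algebra k A] [Module.Finite k A]
    (h : Module.finrank k A = 1) : cls (k := k) A = 1 :=
  (cls_congr (AlgEquiv.ofBijective (Algebra.ofId k A) ⟨(algebraMap k A).injective,
    (LinearMap.injective_iff_surjective_of_finrank_eq_finrank (f := (Algebra.ofId k A).toLinearMap)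
      (by rw [h, Module.finrank_self])).1 (algebraMap k A).injective⟩)).symm

end Classes

variable {k : Type u} [Field k] {X : Scheme.{u}} {f : X ⟶ Spec (CommRingCat.of k)} {K : Type u} [Field K]
  [Algebra k K]

theorem nonempty_twist_zero_dim (e e' : BrSev.Splitting f K 0) (j l : ℤ) : Nonempty (e.twist j ≅ e'.twist l) := by
  obtain ⟨a⟩ := nonempty_iso_twist_zero (L := (Scheme.Modules.pullback e.iso.inv).obj (e'.twist l))
    (AmpleLib.isInvertible_pullback _ (isInvertible_twistK f e' l))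
  obtain ⟨b⟩ := nonempty_iso_twist_zero (isInvertible_twist (n := 0) (R := K) j)
  exact ⟨((Scheme.Modules.pullbackId _).symm.app _ ≪≫ (Scheme.Modules.pullbackCongr e.iso.hom_inv_id.symm).app _ ≪≫
      ((Scheme.Modules.pullbackComp e.iso.hom e.iso.inv).app _).symm ≪≫
      (Scheme.Modules.pullback e.iso.hom).mapIso (a ≪≫ b.symm)).symm⟩

/-- The twists do not depend on the splitting. -/
theorem nonempty_twist_iso {n : ℕ} (e e' : BrSev.Splitting f K n) (j : ℤ) : Nonempty (e.twist j ≅ e'.twist j) := by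
  rcases eq_or_ne n 0 with rfl | hn
  · exact nonempty_twist_zero_dim e e' j j
  let φ := e.iso.inv ≫ e'.iso.hom
  have hw : φ ≫ CohB1.ProjSpace.toSpec n K = CohB1.ProjSpace.toSpec n K := by
    show (e.iso.inv ≫ e'.iso.hom) ≫ _ = _
    rw [Category.assoc, e'.comm, ← e.comm, Iso.inv_hom_id_assoc]
  have hid : Spec.map (CommRingCat.ofHom (algebraMap K K)) = 𝟙 (Spec (CommRingCat.of K)) := by
    rw [Algebra.algebraMap_self]
    exact Spec.map_id _
  have hφ : IsPullback φ (CohB1.ProjSpace.toSpec n K) (CohB1.ProjSpace.toSpec n K)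
      (Spec.map (CommRingCat.ofHom (algebraMap K K))) := by
    rw [hid]
    haveI : IsIso φ := inferInstance
    exact IsPullback.of_horiz_isIso ⟨by rw [hw, Category.comp_id]⟩
  obtain ⟨a⟩ := nonempty_pullback_twist hn φ hφ j
  exact ⟨((Scheme.Modules.pullbackCongr (show e'.iso.hom = e.iso.hom ≫ φ from (e.iso.hom_inv_id_assoc _).symm)).app _ ≪≫
    ((Scheme.Modules.pullbackComp e.iso.hom φ).app _).symm ≪≫ (Scheme.Modules.pullback e.iso.hom).mapIso a).symm⟩

variable [IsProper f]

theorem HasCls.of_twist {n n' : ℕ} {e : BrSev.Splitting f K n} {e' : BrSev.Splitting f K n'} {j l : ℤ} {c : Br k}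
    (h : HasCls f e j c) (α : e.twist j ≅ e'.twist l) : HasCls f e' l c := by
  obtain ⟨M, hM, r, hr, ⟨φ⟩, hc⟩ := h
  exact ⟨M, hM, r, hr, ⟨φ ≪≫ powIso α r⟩, hc⟩

theorem isInvertible_of_type {n : ℕ} (e : BrSev.Splitting f K n) {W : X.Modules} (hW : FlatMod.IsFinLocFree W) {j : ℤ}
    (h : BrSev.IsTwPow e j 1 W) : PicF.IsInvertible W := by
  obtain ⟨φ⟩ := h
  haveI : IsIntegral (W4bk4gw11416.baseChange f K) := isIntegral_bcK f e
  haveI : Nonempty (Spec (CommRingCat.of K) : Scheme.{u}) := inferInstanceAs (Nonempty (PrimeSpectrum K))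
  haveI hS : Surjective (Spec.map (CommRingCat.ofHom (algebraMap k K))) :=
    ⟨fun y => ⟨Classical.arbitrary _, Subsingleton.elim _ y⟩⟩
  haveI : Surjective (proj f K) := MorphismProperty.pullback_fst (P := @Surjective) _ _ hS
  have hsurj := (proj f K).surjective
  haveI : Nonempty X := ⟨proj f K (Classical.arbitrary _)⟩
  haveI : PreconnectedSpace X := hsurj.denseRange.preconnectedSpace (proj f K).continuous
  obtain ⟨n', hn'⟩ := exists_rank' hW
  have h1 : FlatMod.IsFinLocFreeOfRank 1 (bcMod f K W) := isInvertible_iff_rank_one'.1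
    (ParaFLib.isInvertible_of_iso (φ ≪≫ coproductUniqueIso fun _ : Fin 1 => e.twist j).symm (isInvertible_twistK f e j))
  have hn : FlatMod.IsFinLocFreeOfRank n' (bcMod f K W) := FlagLib.rank_pullback (proj f K) W hn'
  let y : W4bk4gw11416.baseChange f K := Classical.arbitrary _
  obtain ⟨U, hy, ⟨a⟩⟩ := h1 y
  obtain ⟨U', hy', ⟨a'⟩⟩ := hn y
  haveI : Coh.IsQCoh (bcMod f K W) := (isQCoh_and_isFP_of_isFinLocFree _ fun x => ⟨(h1 x).choose, 1, (h1 x).choose_spec.1, (h1 x).choose_spec.2⟩).1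
  obtain ⟨l⟩ := PullbackMod.freeAt_of_restrict_iso (bcMod f K W) a hy
  obtain ⟨l'⟩ := PullbackMod.freeAt_of_restrict_iso (bcMod f K W) a' hy'
  have hr := l.finrank_eq.symm.trans l'.finrank_eq
  rw [Module.finrank_fin_fun, Module.finrank_fin_fun] at hr
  exact isInvertible_iff_rank_one'.2 (hr ▸ hn')

variable [IsAlgClosed K] {A : Type u} [Ring A] [Algebra k A] [Algebra.IsCentral k A] [IsSimpleRing A]

include f in
/-- The twist by minus one has the class of the algebra. -/
theorem hasCls_neg_one {m : ℕ} (hA : Module.finrank k A = (m + 1) * (m + 1))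
    (hX : BrSev.IsSBOf k A ((m + 1) * (m + 1) - (m + 1)) f) (e : BrSev.Splitting f K m) :
    haveI : Module.Finite k A := Module.finite_of_finrank_pos (by rw [hA]; positivity)
    HasCls f e (-1) (cls (k := k) A) := by
  haveI : Module.Finite k A := Module.finite_of_finrank_pos (by rw [hA]; positivity)
  rcases eq_or_ne m 0 with rfl | hm
  · rw [cls_eq_one_of_finrank (A := A) (by simpa using hA)]
    obtain ⟨α⟩ := nonempty_twist_zero_dim e e 0 (-1)
    exact (hasCls_zero f e).of_twist α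
  obtain ⟨s⟩ := hX
  obtain ⟨n, hn, ⟨φ⟩⟩ := CSALib.splits_of_isSepClosed (k := k) (A := A) K
  obtain rfl : n = m + 1 := Nat.mul_self_inj.1 ((CSALib.finrank_of_splits φ).symm.trans hA)
  let e₀ := splitT f K φ s
  have hT : Coh.IsCoh (taut f A s) := isCoh_taut f A s
  have ht := isTwPow_taut f K φ s hm
  letI := endAlg f (taut f A s)
  haveI := finite_endAlg f hT
  obtain ⟨-, -, -, hd⟩ := csa_of_type f e₀ hT (Nat.succ_pos m) ht
  haveI : Nontrivial (End (taut f A s)) := Module.nontrivial_of_finrank_pos (R := k) (by rw [hd]; positivity)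
  have hinj : Function.Injective (tautAct f A s) := (tautAct f A s).toRingHom.injective
  have hbij : Function.Bijective (tautAct f A s) := ⟨hinj,
    (LinearMap.injective_iff_surjective_of_finrank_eq_finrank (f := (tautAct f A s).toLinearMap)
      (by rw [hd, hA, sq])).1 hinj⟩
  rw [show cls (k := k) A = eCls f hT from cls_congr (AlgEquiv.ofBijective _ hbij)]
  obtain ⟨α⟩ := nonempty_twist_iso e₀ e (-1)
  exact (HasCls.intro hT (Nat.succ_pos m) ht).of_twist α

/-- The multiplicity of a type is the index of the tensor power. -/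
theorem isIndex_tpow {n : ℕ} (hn : 0 < n) (hA : Module.finrank k A = n * n) (hX : BrSev.IsSBOf k A (n * n - n) f)
    (e : BrSev.Splitting f K (n - 1)) {W : X.Modules} (hW : FlatMod.IsFinLocFree W) (hWi : Indec W) {j : ℤ} {r : ℕ}
    (hr : 0 < r) (h : BrSev.IsTwPow e j r W) : CSAGal.IsIndex k (CSAGal.tpow k A j.natAbs) r := by
  obtain ⟨m, rfl⟩ : ∃ m, n = m + 1 := ⟨n - 1, by omega⟩
  haveI : Module.Finite k A := Module.finite_of_finrank_pos (by rw [hA]; positivity)
  have h1 : HasCls f e (-1) (cls (k := k) A) := hasCls_neg_one hA hX e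
  obtain ⟨ht1, ht2⟩ := csa_pi_fin (k := k) fun _ : Fin j.natAbs => A
  rcases le_total j 0 with hj | hj
  · have hc := h1.npow j.natAbs
    rw [show ((j.natAbs : ℕ) : ℤ) * (-1) = j by omega, ← cls_tpow] at hc
    exact isIndex_of_type hW hWi hr h hc
  · haveI : IsLocallyNoetherian X := LocallyOfFiniteType.isLocallyNoetherian f
    have hWc := DCohLib.isCoh_of_isFinLocFree hW
    obtain ⟨D, _, _, _, _, hD, hc⟩ := exists_div_of_type hWc hWi hr h
    obtain ⟨d, hd⟩ := exists_index (k := k) (CSAGal.tpow k A j.natAbs)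
    obtain ⟨D', _, _, _, _, hD', hc'⟩ := cls_of_isIndex hd
    have hmul : cls (k := k) D * cls D' = 1 := by
      rw [← hc, ← hc', cls_tpow]
      refine (HasCls.intro hWc hr h).mul_neg ?_
      have hp := h1.npow j.natAbs
      rwa [show ((j.natAbs : ℕ) : ℤ) * (-1) = -j by omega] at hp
    rw [deg_eq_of_mul_eq_one hD hD' hmul]
    exact hd

end Groth.Agent.ASBunKS
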