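import Groth.Agent.ASBunKS.TautBC
import Groth.Agent.ASBunKS.TensorPowSum
import Groth.Agent.RelTildeLib.Morph
import Groth.Agent.AmpleEmb.ComposeRel
import Groth.Agent.AmpleEmb.Ratio

/-!
# The degree of the tautological module
-/

set_option autoImplicit false
set_option backward.isDefEq.respectTransparency false
set_option linter.style.haveILetI false
set_option linter.unusedSectionVars false

universe u

open CategoryTheory CategoryTheory.Limits AlgebraicGeometry TopologicalSpace Opposite
open W4c1astiltbs12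
open Groth.Agent.PullbackMod Groth.Agent.DegDevLib Groth.Agent.GrassShLib Groth.Agent.AmpleEmb Groth.Agent.AmpleLib
open Groth.Agent.ParaFLib Groth.Agent.PicProjLib
open scoped TensorProduct

noncomputable section

namespace Groth.Agent.ASBunKS

theorem exists_section_of_germ {X : Scheme.{u}} {L M : X.Modules} (j : L ⟶ M) [Mono j] {U : X.Opens}
    (σ : Γ(M, U)) (h : ∀ (x : X) (hx : x ∈ U), M.presheaf.germ U x hx σ ∈ LinearMap.range (stalkLin j x)) :
    ∃ t : Γ(L, U), j.app U t = σ := by
  have loc : ∀ x : U, ∃ (V : X.Opens) (_ : x.1 ∈ V) (hV : V ≤ U) (t : Γ(L, V)),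
      j.app V t = M.presheaf.map (homOfLE hV).op σ := by
    rintro ⟨x, hx⟩
    obtain ⟨z, hz⟩ := h x hx
    obtain ⟨V, hxV, t, rfl⟩ := TopCat.Presheaf.exists_germ_eq L.presheaf z
    rw [stalkLin_germ] at hz
    obtain ⟨W, hxW, iV, iU, e⟩ := TopCat.Presheaf.germ_eq M.presheaf x hxV hx _ _ hz
    refine ⟨W, hxW, iU.le, L.presheaf.map iV.op t, ?_⟩
    exact (ConcreteCategory.congr_hom (j.mapPresheaf.naturality iV.op) t).trans e
  choose V hxV hVU t ht using loc
  let F : TopCat.Sheaf Ab.{u} X.carrier := ⟨L.presheaf, L.isSheaf⟩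
  obtain ⟨g, hg, -⟩ := F.existsUnique_gluing' V U (fun x => homOfLE (hVU x))
    (fun x hx => Opens.mem_iSup.2 ⟨⟨x, hx⟩, hxV ⟨x, hx⟩⟩) t fun a b => by
      refine RelTildeLib.app_injective_of_mono j _ ?_
      rw [show j.app _ (L.presheaf.map (Opens.infLELeft (V a) (V b)).op (t a)) = _ from
        ConcreteCategory.congr_hom (j.mapPresheaf.naturality (Opens.infLELeft (V a) (V b)).op) (t a),
        show j.app _ (L.presheaf.map (Opens.infLERight (V a) (V b)).op (t b)) = _ from
        ConcreteCategory.congr_hom (j.mapPresheaf.naturality (Opens.infLERight (V a) (V b)).op) (t b)]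
      show M.presheaf.map _ (j.app (V a) (t a)) = M.presheaf.map _ (j.app (V b) (t b))
      rw [ht, ht, ← ConcreteCategory.comp_apply, ← ConcreteCategory.comp_apply, ← Functor.map_comp, ← Functor.map_comp]
      rfl
  refine ⟨g, TopCat.Presheaf.section_ext ⟨M.presheaf, M.isSheaf⟩ U _ _ fun x hx => ?_⟩
  rw [← M.presheaf.germ_res_apply (homOfLE (hVU ⟨x, hx⟩)) x (hxV ⟨x, hx⟩) σ, ← ht ⟨x, hx⟩, ← hg ⟨x, hx⟩,
    show j.app _ (L.presheaf.map (homOfLE (hVU ⟨x, hx⟩)).op g) = M.presheaf.map (homOfLE (hVU ⟨x, hx⟩)).op (j.app U g)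
      from ConcreteCategory.congr_hom (j.mapPresheaf.naturality (homOfLE (hVU ⟨x, hx⟩)).op) g]
  exact (M.presheaf.germ_res_apply (homOfLE (hVU ⟨x, hx⟩)) x (hxV ⟨x, hx⟩) (j.app U g)).symm

theorem appLE_of_eq_id {Z : Scheme.{u}} (g : Z ⟶ Z) (hg : g = 𝟙 Z) (U : Z.Opens) (h : U ≤ g ⁻¹ᵁ U) :
    g.appLE U U h = Z.presheaf.map (𝟙 _) := by
  subst hg
  simp only [Scheme.Hom.appLE, Scheme.Hom.id_app]
  exact (Category.id_comp _)

/-- The chart map at a point of projective space. -/
theorem chart_point {m : ℕ} {R : Type u} [CommRing R] (c : Fin (m + 1)) (η : CohB1.ProjSpace m R)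
    (hη : η ∈ stdOpen m R c) :
    ∃ ψ : SBSplitLib.Ac R m c ⟶ (CohB1.ProjSpace m R).presheaf.stalk η,
      Spec.map ψ ≫ ProjMap.chart c = (CohB1.ProjSpace m R).fromSpecStalk η ∧
      ∀ a, ProjMap.coords (R := R) c ψ.hom a =
        (CohB1.ProjSpace m R).presheaf.germ (stdOpen m R c) η hη (coordRatio m R c a) := by
  let 𝒢 := CohB1.polyGrading m R
  refine ⟨Proj.awayToSection 𝒢 (MvPolynomial.X c) ≫ (CohB1.ProjSpace m R).presheaf.germ (stdOpen m R c) η hη, ?_, ?_⟩
  · rw [Spec.map_comp, ProjMap.chart, Proj.awayι, Category.assoc]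
    have h1 := Scheme.Opens.fromSpecStalkOfMem_toSpecΓ (stdOpen m R c) η hη
    rw [← h1, Category.assoc, ← Scheme.Opens.fromSpecStalkOfMem_ι (stdOpen m R c) η hη]
    refine congrArg ((stdOpen m R c).fromSpecStalkOfMem η hη ≫ ·) ?_
    rw [← Category.assoc, ← Category.assoc]
    refine Eq.trans (congrArg (· ≫ _) ?_) (Category.id_comp _)
    exact Eq.trans (congrArg (· ≫ _) (Proj.basicOpenIsoSpec_hom 𝒢 (MvPolynomial.X c) (ProjMap.X_mem c) one_pos).symm)
      (Proj.basicOpenIsoSpec 𝒢 (MvPolynomial.X c) (ProjMap.X_mem c) one_pos).hom_inv_id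
  · intro a
    exact congrArg ((CohB1.ProjSpace m R).presheaf.germ (stdOpen m R c) η hη)
      (ProjCoh.awayToSection_ratio 𝒢 (coordForm m R c) (coordForm m R a))

variable {k : Type u} [Field k] {X : Scheme.{u}} (p : X ⟶ Spec (CommRingCat.of k)) {A : Type u} [Ring A]
  [Algebra k A] [Module.Finite k A] (K : Type u) [Field K] [Algebra k K] {m : ℕ}
  (φ : K ⊗[k] A ≃ₐ[K] Matrix (Fin (m + 1)) (Fin (m + 1)) K)
  (s : BrSev.SBStr k A ((m + 1) * (m + 1) - (m + 1)) p)

/-- The splitting given by the lines. -/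
def splitT : BrSev.Splitting p K m :=
  haveI := SBSplitLib.isIso_Φ (SBSplitLib.lineData φ s)
  { iso := (asIso (SBSplitLib.Φ (SBSplitLib.lineData φ s))).symm
    comm := by
      show inv (SBSplitLib.Φ (SBSplitLib.lineData φ s)) ≫ _ = _
      rw [IsIso.inv_comp_eq, SBSplitLib.Φ_comp] }

/-- The standard opens. -/
abbrev uOpen (c : Fin (m + 1)) : (W4bk4gw11416.baseChange p K).Opens :=
  (splitT p K φ s).iso.hom ⁻¹ᵁ stdOpen m K c

/-- The coordinate ratios. -/
def ratioU (c a : Fin (m + 1)) : Γ(W4bk4gw11416.baseChange p K, uOpen p K φ s c) :=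
  (splitT p K φ s).iso.hom.app (stdOpen m K c) (coordRatio m K c a)

/-- The coordinates of a point. -/
def vAt (c : Fin (m + 1)) (y : W4bk4gw11416.baseChange p K) (hy : y ∈ uOpen p K φ s c) (a : Fin (m + 1)) :
    (W4bk4gw11416.baseChange p K).presheaf.stalk y :=
  (W4bk4gw11416.baseChange p K).presheaf.germ (uOpen p K φ s c) y hy (ratioU p K φ s c a)

theorem N_point (c : Fin (m + 1)) (y : W4bk4gw11416.baseChange p K) (hy : y ∈ uOpen p K φ s c) :
    vAt p K φ s c y hy c = 1 ∧
    (SBSplitLib.lineData φ s).N ((W4bk4gw11416.baseChange p K).fromSpecStalk y) =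
      SBSplitLib.rows (vAt p K φ s c y hy) := by
  haveI := SBSplitLib.isIso_Φ (SBSplitLib.lineData φ s)
  let Φ := SBSplitLib.Φ (SBSplitLib.lineData φ s)
  let g := (splitT p K φ s).iso.hom
  obtain ⟨ψ, h1, h2⟩ := chart_point c (g y) hy
  let ψ' := ψ ≫ g.stalkMap y
  have h3 : ∀ a, ProjMap.coords (R := K) c ψ'.hom a = vAt p K φ s c y hy a := fun a => by
    show g.stalkMap y (ψ.hom _) = _
    rw [show ψ.hom _ = _ from h2 a]
    exact Scheme.Hom.germ_stalkMap_apply g (stdOpen m K c) y hy (coordRatio m K c a)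
  refine ⟨(h3 c).symm.trans (SBSplitLib.coords_self' c ψ'), ?_⟩
  have h4 : (W4bk4gw11416.baseChange p K).fromSpecStalk y =
      Spec.map ψ' ≫ SBSplitLib.chartPt (SBSplitLib.lineData φ s) c := by
    rw [← SBSplitLib.chart_Φ, Spec.map_comp, Category.assoc, ← Category.assoc (Spec.map ψ), h1, ← Category.assoc,
      Scheme.SpecMap_stalkMap_fromSpecStalk, Category.assoc]
    exact ((congrArg (_ ≫ ·) (IsIso.inv_hom_id Φ)).trans (Category.comp_id _)).symm
  rw [h4, SBSplitLib.N_chartPt_comp]
  exact congrArg SBSplitLib.rows (funext h3)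

/-- Matrices as coordinates. -/
def thetaY (y : W4bk4gw11416.baseChange p K) :
    letI := algK p K y
    letI := algk p K y
    (W4bk4gw11416.baseChange p K).presheaf.stalk y ⊗[k] A ≃ₐ[(W4bk4gw11416.baseChange p K).presheaf.stalk y]
      Matrix (Fin (m + 1)) (Fin (m + 1)) ((W4bk4gw11416.baseChange p K).presheaf.stalk y) :=
  letI := algK p K y
  letI := algk p K y
  haveI := tower p K y
  SBSplitLib.theta φ _

theorem mem_range_tautιK (y : W4bk4gw11416.baseChange p K) :
    letI := algk p K y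
    ∀ u, vecY p A K y u ∈ LinearMap.range (stalkLin (tautιK p A K s) y) ↔
      thetaY p K φ y u ∈ (SBSplitLib.lineData φ s).N ((W4bk4gw11416.baseChange p K).fromSpecStalk y) := by
  letI := algK p K y
  letI := algk p K y
  haveI := tower p K y
  intro u
  rw [range_tautιK p A K s y]
  show _ ↔ thetaY p K φ y u ∈
    (idealPt p s ((W4bk4gw11416.baseChange p K).fromSpecStalk y ≫ proj p K) (point_spec p K y)).toSubmodule.map
      (thetaY p K φ y).toLinearEquiv.toLinearMap
  constructor
  · rintro ⟨u', hu', he⟩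
    exact ⟨u', hu', congrArg (thetaY p K φ y) ((bijective_vecY p A K y).1 he)⟩
  · rintro ⟨u', hu', he⟩
    exact ⟨u', hu', congrArg (vecY p A K y) ((thetaY p K φ y).injective he)⟩

/-- Constants over a point. -/
def zS (y : W4bk4gw11416.baseChange p K) (z : K ⊗[k] A) :
    letI := algk p K y
    (W4bk4gw11416.baseChange p K).presheaf.stalk y ⊗[k] A :=
  letI := algK p K y
  letI := algk p K y
  haveI := tower p K y
  Algebra.TensorProduct.map (IsScalarTower.toAlgHom k K _) (AlgHom.id k A) z

theorem thetaY_zS (y : W4bk4gw11416.baseChange p K) (z : K ⊗[k] A) :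
    letI := algK p K y
    thetaY p K φ y (zS p K y z) = (φ z).map (algebraMap K ((W4bk4gw11416.baseChange p K).presheaf.stalk y)) := by
  letI := algK p K y
  letI := algk p K y
  haveI := tower p K y
  exact SBSplitLib.thetaHom_map φ _ z

/-- A constant over an open. -/
def cU (U : (W4bk4gw11416.baseChange p K).Opens) (r : K) : Γ(W4bk4gw11416.baseChange p K, U) :=
  (W4bk4gw11416.baseChange p K).presheaf.map (homOfLE (le_top : U ≤ ⊤)).op (Coh.toGlobal (A := K) (snd p K) r)

theorem germ_cU (U : (W4bk4gw11416.baseChange p K).Opens) (r : K) (y : W4bk4gw11416.baseChange p K) (hy : y ∈ U) :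
    letI := algK p K y
    (W4bk4gw11416.baseChange p K).presheaf.germ U y hy (cU p K U r) = algebraMap K _ r := by
  letI := algK p K y
  rw [cU, TopCat.Presheaf.germ_res_apply]
  exact germ_toGlobal (snd p K) y r

/-- The standard sections after extension of the field. -/
def stdK (A : Type u) [Ring A] [Algebra k A] [Module.Finite k A] (U : (W4bk4gw11416.baseChange p K).Opens)
    (i : Fin (Module.finrank k A)) : Γ(bcMod p K (freeA k A), U) :=
  pullMap (proj p K) (freeA k A) (W := ⊤) (W' := U) le_top (stdSec X (Module.finrank k A) i)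

theorem vecY_zS (y : W4bk4gw11416.baseChange p K) (z : K ⊗[k] A) :
    letI := algK p K y
    letI := algk p K y
    vecY p A K y (zS p K y z) = ∑ i, algebraMap K ((W4bk4gw11416.baseChange p K).presheaf.stalk y)
      ((Algebra.TensorProduct.basis K (Module.finBasis k A)).repr z i) •
        pullStalk (proj p K) (freeA k A) y (stdGerm (Module.finrank k A) (proj p K y) i) := by
  letI := algK p K y
  letI := algk p K y
  haveI := tower p K y
  conv_lhs => rw [← (Algebra.TensorProduct.basis K (Module.finBasis k A)).sum_repr z]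
  rw [zS, map_sum, map_sum]
  refine Finset.sum_congr rfl fun i _ => ?_
  rw [Algebra.TensorProduct.basis_apply, TensorProduct.smul_tmul', smul_eq_mul, mul_one, Algebra.TensorProduct.map_tmul,
    AlgHom.id_apply, tmul_eq_smul, map_smul, vecY_basis]
  rfl

/-- The section with prescribed row coordinates. -/
def rowSec (c : Fin (m + 1)) : Γ(bcMod p K (freeA k A), uOpen p K φ s c) :=
  ∑ i, (∑ a, ratioU p K φ s c a * cU p K _ ((Algebra.TensorProduct.basis K (Module.finBasis k A)).repr
    (φ.symm (Matrix.single 0 a 1)) i)) • stdK p K A _ i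

theorem germ_rowSec (c : Fin (m + 1)) (y : W4bk4gw11416.baseChange p K) (hy : y ∈ uOpen p K φ s c) :
    letI := algk p K y
    ∃ u, (bcMod p K (freeA k A)).presheaf.germ (uOpen p K φ s c) y hy (rowSec p K φ s c) = vecY p A K y u ∧
      thetaY p K φ y u = Matrix.vecMulVec (Pi.single 0 1) (vAt p K φ s c y hy) := by
  letI := algK p K y
  letI := algk p K y
  haveI := tower p K y
  refine ⟨∑ a, vAt p K φ s c y hy a • zS p K y (φ.symm (Matrix.single 0 a 1)), ?_, ?_⟩
  · rw [rowSec, map_sum, map_sum]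
    simp only [map_smul, vecY_zS, Finset.smul_sum]
    rw [Finset.sum_comm]
    refine Finset.sum_congr rfl fun i _ => ?_
    rw [SubLib.germ_smul', map_sum, Finset.sum_smul]
    refine Finset.sum_congr rfl fun a _ => ?_
    rw [map_mul, germ_cU, mul_smul, stdK, ← pullStalk_germ' (proj p K) (freeA k A) y (W := ⊤) trivial hy le_top,
      germ_stdSec]
    rfl
  · rw [map_sum]
    refine Matrix.ext fun i b => ?_
    simp only [map_smul, thetaY_zS, AlgEquiv.apply_symm_apply, Matrix.sum_apply, Matrix.smul_apply, Matrix.map_apply,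
      Matrix.vecMulVec_apply]
    rw [Finset.sum_eq_single b]
    · rcases eq_or_ne i 0 with rfl | hi
      · simp
      · simp [Ne.symm hi, Pi.single_eq_of_ne hi]
    · intro a _ hab
      simp [hab]
    · simp

variable [IsAlgClosed K] [IsProper p]

include φ in
/-- The tautological module becomes a power of the dual of the hyperplane sheaf. -/
theorem isTwPow_taut (hm : m ≠ 0) : BrSev.IsTwPow (splitT p K φ s) (-1) (m + 1) (taut p A s) := by
  classical
  haveI := SBSplitLib.isIso_Φ (SBSplitLib.lineData φ s)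
  letI := endAlg (snd p K) (bcMod p K (taut p A s))
  let G := bcMod p K (taut p A s)
  haveI : Flat (Spec.map (CommRingCat.ofHom (algebraMap k K))) :=
    (HasRingHomProperty.Spec_iff (P := @Flat)).2 (RingHom.flat_algebraMap_iff.2 inferInstance)
  haveI : Flat (proj p K) := MorphismProperty.pullback_fst (P := @Flat) _ _ inferInstance
  haveI : Mono (tautιK p A K s) := mono_map_pullback (proj p K) (tautι p A s)
  let E : Fin (m + 1) → Fin (m + 1) → K ⊗[k] A := fun a b => φ.symm (Matrix.single a b 1)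
  let ρ : K ⊗[k] A → (G ⟶ G) := fun z => actK p A K s z
  have hE : ∀ a b b' d, E a b * E b' d = if b = b' then E a d else 0 := fun a b b' d => by
    simp only [E]
    rw [← map_mul]
    split_ifs with h
    · subst h; simp
    · rw [show Matrix.single a b (1 : K) * Matrix.single b' d 1 = 0 by simp [Matrix.single_mul_single_of_ne, h], map_zero]
  have hρ : ∀ z z', ρ (z * z') = ρ z' ≫ ρ z := fun z z' => map_mul (actK p A K s) z z'
  have hP : ρ (E 0 0) ≫ ρ (E 0 0) = ρ (E 0 0) := by rw [← hρ, hE, if_pos rfl]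
  obtain ⟨L, i, r, hir, hri⟩ := IsIdempotentComplete.idempotents_split G (ρ (E 0 0)) hP
  have hi : i ≫ ρ (E 0 0) = i := by rw [← hri, ← Category.assoc, hir, Category.id_comp]
  haveI : Mono i := (SplitMono.mk r hir).mono
  let j := i ≫ tautιK p A K s
  haveI : Mono j := mono_comp _ _
  -- the stalks of the summand
  have hrange : ∀ (y : W4bk4gw11416.baseChange p K), letI := algk p K y
      ∀ u, vecY p A K y u ∈ LinearMap.range (stalkLin j y) ↔
        thetaY p K φ y u ∈ (SBSplitLib.lineData φ s).N ((W4bk4gw11416.baseChange p K).fromSpecStalk y) ∧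
          Matrix.single 0 0 1 * thetaY p K φ y u = thetaY p K φ y u := by
    intro y
    letI := algK p K y
    letI := algk p K y
    haveI := tower p K y
    intro u
    have hfix : ∀ w, stalkLin (tautιK p A K s) y w = vecY p A K y u →
        (stalkLin (ρ (E 0 0)) y w = w ↔ Matrix.single 0 0 1 * thetaY p K φ y u = thetaY p K φ y u) := by
      intro w hw
      have h := stalk_actK p A K s y (E 0 0) w u hw
      have h' : thetaY p K φ y (zS p K y (E 0 0) * u) = Matrix.single 0 0 1 * thetaY p K φ y u := by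
        rw [map_mul, thetaY_zS, AlgEquiv.apply_symm_apply, Matrix.map_single _ _ _ _, map_one]
      rw [← h', (thetaY p K φ y).injective.eq_iff, ← (bijective_vecY p A K y).1.eq_iff, zS, ← h, ← hw]
      exact ((mono_iff_stalk (tautιK p A K s)).1 inferInstance y).eq_iff.symm
    constructor
    · rintro ⟨w, hw⟩
      rw [stalkLin_comp, LinearMap.comp_apply] at hw
      refine ⟨(mem_range_tautιK p K φ s y u).1 ⟨_, hw⟩, (hfix _ hw).1 ?_⟩
      rw [← LinearMap.comp_apply, ← stalkLin_comp, hi]
    · rintro ⟨hu, hu0⟩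
      obtain ⟨w, hw⟩ := (mem_range_tautιK p K φ s y u).2 hu
      refine ⟨stalkLin r y w, ?_⟩
      rw [← hw, stalkLin_comp, LinearMap.comp_apply, ← LinearMap.comp_apply (stalkLin i y), ← stalkLin_comp, hri,
        (hfix w hw).2 hu0]
  -- generators
  have hsec : ∀ c, ∃ l : Γ(L, uOpen p K φ s c), j.app (uOpen p K φ s c) l = rowSec p K φ s c := by
    intro c
    refine exists_section_of_germ j _ fun y hy => ?_
    letI := algk p K y
    obtain ⟨u, hu, hθ⟩ := germ_rowSec p K φ s c y hy
    rw [hu, hrange, hθ, (N_point p K φ s c y hy).2]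
    refine ⟨⟨_, rfl⟩, ?_⟩
    ext a b
    rcases eq_or_ne a 0 with rfl | ha
    · simp [Matrix.mul_apply, Matrix.single_apply, Matrix.vecMulVec_apply]
    · simp [Matrix.mul_apply, Matrix.single_apply, Matrix.vecMulVec_apply, ha, Ne.symm ha]
  choose l hl using hsec
  have hjl : ∀ c y (hy : y ∈ uOpen p K φ s c), letI := algk p K y
      ∃ u, stalkLin j y (L.presheaf.germ (uOpen p K φ s c) y hy (l c)) = vecY p A K y u ∧
        thetaY p K φ y u = Matrix.vecMulVec (Pi.single 0 1) (vAt p K φ s c y hy) := by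
    intro c y hy
    letI := algk p K y
    obtain ⟨u, hu, hθ⟩ := germ_rowSec p K φ s c y hy
    exact ⟨u, by rw [stalkLin_germ, hl, hu], hθ⟩
  have hjinj : ∀ y, Function.Injective (stalkLin j y) := (mono_iff_stalk j).1 inferInstance
  have hgen : ∀ c, Gen (uOpen p K φ s c) (l c) := fun c => gen_of_germ fun y hy => by
    letI := algK p K y
    letI := algk p K y
    haveI := tower p K y
    obtain ⟨hvc, hN⟩ := N_point p K φ s c y hy
    obtain ⟨u, hu, hθ⟩ := hjl c y hy
    refine ⟨fun a b hab => ?_, fun w => ?_⟩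
    · have h := congrArg (stalkLin j y) hab
      rw [map_smul, map_smul, hu, ← map_smul, ← map_smul] at h
      have h' := congrArg (thetaY p K φ y) ((bijective_vecY p A K y).1 h)
      rw [map_smul, map_smul, hθ] at h'
      have h'' := congrFun (congrFun h' 0) c
      simpa [Matrix.smul_apply, Matrix.vecMulVec_apply, hvc] using h''
    · obtain ⟨u', hu'⟩ := (bijective_vecY p A K y).2 (stalkLin j y w)
      obtain ⟨h1, h2⟩ := (hrange y u').1 ⟨w, hu'.symm⟩
      rw [hN] at h1
      obtain ⟨a, ha⟩ := h1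
      refine ⟨a 0, hjinj y ?_⟩
      show stalkLin j y (a 0 • _) = _
      rw [map_smul, hu, ← hu', ← map_smul]
      refine congrArg (vecY p A K y) ((thetaY p K φ y).injective ?_)
      rw [map_smul, hθ, ← h2, ← ha]
      ext e b
      rcases eq_or_ne e 0 with rfl | he
      · simp [Matrix.mul_apply, Matrix.single_apply, Matrix.vecMulVec_apply]
      · simp [Matrix.mul_apply, Matrix.single_apply, Matrix.vecMulVec_apply, he, Ne.symm he]
  have hrel : ∀ c y (h0 : y ∈ uOpen p K φ s 0) (hc : y ∈ uOpen p K φ s c),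
      L.presheaf.germ (uOpen p K φ s 0) y h0 (l 0) =
        vAt p K φ s 0 y h0 c • L.presheaf.germ (uOpen p K φ s c) y hc (l c) := by
    intro c y h0 hc
    letI := algk p K y
    obtain ⟨hv0, hN0⟩ := N_point p K φ s 0 y h0
    obtain ⟨hvc, hNc⟩ := N_point p K φ s c y hc
    obtain ⟨-, hmul⟩ := SBSplitLib.exists_unit_of_rows_eq hvc hv0 (hN0.symm.trans hNc)
    obtain ⟨u₀, hu₀, hθ₀⟩ := hjl 0 y h0
    obtain ⟨uc, huc, hθc⟩ := hjl c y hc
    refine hjinj y ?_
    rw [hu₀, map_smul, huc, ← map_smul]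
    refine congrArg (vecY p A K y) ((thetaY p K φ y).injective ?_)
    rw [map_smul, hθ₀, hθc]
    ext e b
    simp only [Matrix.vecMulVec_apply, Matrix.smul_apply, smul_eq_mul]
    rw [hmul b]
    ring
  -- transport to projective space
  let e := splitT p K φ s
  have hcov : ∀ y, ∃ c, y ∈ uOpen p K φ s c := fun y => by
    obtain ⟨c, hc⟩ := Opens.mem_iSup.1 ((iSup_stdOpen m K).ge (Opens.mem_top (e.iso.hom y)))
    exact ⟨c, hc⟩
  have hLinv : PicF.IsInvertible L := isInvertible_of_gen fun y => by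
    obtain ⟨c, hc⟩ := hcov y
    exact ⟨_, l c, hc, hgen c⟩
  let g := e.iso.inv
  have hle : ∀ c, stdOpen m K c ≤ g ⁻¹ᵁ uOpen p K φ s c := fun c x hx => by
    show e.iso.hom (e.iso.inv x) ∈ stdOpen m K c
    rw [← Scheme.Hom.comp_apply, e.iso.inv_hom_id]
    exact hx
  let gg : ∀ c, Γ((Scheme.Modules.pullback g).obj L, stdOpen m K c) := fun c => pullMap g L (hle c) (l c)
  haveI : Coh.IsQCoh L := InvExt.isQCoh_of_isInvertible hLinv
  have hgg : ∀ c, Gen (stdOpen m K c) (gg c) := fun c => gen_of_germ fun x hx => by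
    rw [show ((Scheme.Modules.pullback g).obj L).presheaf.germ (stdOpen m K c) x hx (gg c) =
      pullStalk g L x (L.presheaf.germ (uOpen p K φ s c) (g x) (hle c hx) (l c)) from
        (pullStalk_germ' g L x (hle c hx) hx (hle c) (l c)).symm]
    exact bijective_pullStalk g x ((hgen c).bijective_germ _ _)
  have hdeg : HasDeg ((Scheme.Modules.pullback g).obj L) (-1) := by
    refine ⟨gg, hgg, fun c => ⟨1, ?_⟩⟩
    rw [cst_one, _root_.one_mul, zpow_neg, zpow_one]
    let η := gen m K
    have h0 : g η ∈ uOpen p K φ s 0 := hle 0 (gen_mem m K)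
    have hc : g η ∈ uOpen p K φ s c := hle c (gen_mem m K)
    have hγ : ∀ d (hd : g η ∈ uOpen p K φ s d), γ (gg d) = pullStalk g L η (L.presheaf.germ _ (g η) hd (l d)) :=
      fun d hd => (pullStalk_germ' g L η hd (gen_mem m K) (hle d) (l d)).symm
    rw [hγ 0 h0, hγ c hc, hrel c (g η) h0 hc, pullStalk_smul]
    refine congrArg (· • _) ?_
    have ht : (t m K c 0)⁻¹ = t m K 0 c := by
      refine inv_eq_of_mul_eq_one_right ?_
      rw [t_mul, t_self]
    rw [ht, vAt, germ_stalkMap_appLE g η h0 (gen_mem m K) (hle 0)]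
    refine congrArg ((CohB1.ProjSpace m K).presheaf.germ (stdOpen m K 0) η (gen_mem m K)) ?_
    show (e.iso.hom.app (stdOpen m K 0) ≫ g.appLE _ _ (hle 0)) (coordRatio m K 0 c) = _
    rw [Scheme.Hom.app_eq_appLE, Scheme.Hom.appLE_comp_appLE]
    have h1 : (g ≫ e.iso.hom).appLE (stdOpen m K 0) (stdOpen m K 0) (fun x hx => hle 0 hx) =
        (CohB1.ProjSpace m K).presheaf.map (𝟙 _) := by
      exact appLE_of_eq_id _ e.iso.inv_hom_id _ _
    rw [h1, CategoryTheory.Functor.map_id]
    rfl
  obtain ⟨d, ⟨ψ⟩⟩ := exists_iso_twist (isInvertible_pullback g hLinv)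
  obtain rfl : d = -1 := by
    have h1 := (hasDeg_twist hm d).of_iso ψ.symm
    obtain ⟨χ⟩ := triv_of_hasDeg_zero (show HasDeg (CohB1.tensorMod ((Scheme.Modules.pullback g).obj L)
      (Twist.twistProjSpace m K 1)) 0 by simpa using hdeg.tensor hasDeg_twistOne)
    have h2 := eq_zero_of_hasDeg_structureModule hm ((h1.tensor hasDeg_twistOne).of_iso χ)
    omega
  have eL : L ≅ e.twist (-1) :=
    (Scheme.Modules.pullbackId _).symm.app L ≪≫ (Scheme.Modules.pullbackCongr e.iso.hom_inv_id.symm).app L ≪≫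
      ((Scheme.Modules.pullbackComp e.iso.hom e.iso.inv).app L).symm ≪≫
      (Scheme.Modules.pullback e.iso.hom).mapIso ψ
  -- the decomposition
  let dec : G ≅ pow L (m + 1) :=
    { hom := ∑ a, ρ (E 0 a) ≫ r ≫ Sigma.ι (fun _ : Fin (m + 1) => L) a
      inv := Sigma.desc fun a => i ≫ ρ (E a 0)
      hom_inv_id := by
        rw [Preadditive.sum_comp]
        have h : ∀ a, (ρ (E 0 a) ≫ r ≫ Sigma.ι (fun _ : Fin (m + 1) => L) a) ≫
            Sigma.desc (fun a => i ≫ ρ (E a 0)) = ρ (E a a) := fun a => by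
          simp only [Category.assoc, Sigma.ι_desc]
          rw [← Category.assoc r, hri, ← hρ, ← hρ, hE, if_pos rfl, hE, if_pos rfl]
        simp only [h]
        have h1 : ∑ a, E a a = 1 := by
          simp only [E, ← map_sum]
          rw [Matrix.sum_single_one, map_one]
        calc ∑ a, ρ (E a a) = (actK p A K s (∑ a, E a a) : G ⟶ G) := (map_sum (actK p A K s) _ _).symm
          _ = 𝟙 G := by rw [h1, map_one]; rfl
      inv_hom_id := by
        refine Sigma.hom_ext _ _ fun a => ?_
        rw [Sigma.ι_desc_assoc, Category.comp_id, Preadditive.comp_sum, Finset.sum_eq_single a]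
        · rw [Category.assoc, ← Category.assoc (ρ (E a 0)), ← hρ, hE, if_pos rfl, ← Category.assoc, hi,
            ← Category.assoc, hir, Category.id_comp]
        · intro b _ hb
          rw [Category.assoc, ← Category.assoc (ρ (E a 0)), ← hρ, hE, if_neg hb,
            show ρ 0 = 0 from map_zero (actK p A K s), zero_comp, comp_zero]
        · simp }
  exact ⟨dec ≪≫ powIso eL (m + 1)⟩

end Groth.Agent.ASBunKS
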