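import Groth.Agent.ASBunKS.Taut
import Groth.Agent.ASBunKS.TensorEnd

/-!
# The tautological module and its endomorphisms
-/

set_option autoImplicit false
set_option backward.isDefEq.respectTransparency false
set_option linter.style.haveILetI false
set_option linter.unusedSectionVars false

universe u

open CategoryTheory CategoryTheory.Limits AlgebraicGeometry TopologicalSpace Opposite
open Groth.Agent.PullbackMod Groth.Agent.DegDevLib Groth.Agent.GrassShLib
open scoped TensorProduct

noncomputable section

namespace Groth.Agent.ASBunKS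

theorem stalkLin_add' {X : Scheme.{u}} {M N : X.Modules} (φ ψ : M ⟶ N) (x : X) :
    stalkLin (φ + ψ) x = stalkLin φ x + stalkLin ψ x := by
  refine LinearMap.ext fun z => ?_
  obtain ⟨U, hxU, m, rfl⟩ := TopCat.Presheaf.exists_germ_eq M.presheaf z
  rw [LinearMap.add_apply, stalkLin_germ, stalkLin_germ, stalkLin_germ, Scheme.Modules.Hom.add_app, ← map_add]
  rfl

section SubLift

variable {X : Scheme.{u}} {M M' : X.Modules} (N : SubLib.StalkSub M) (g : M' ⟶ M)
  (h : ∀ (x : X) (z : M'.presheaf.stalk x), stalkLin g x z ∈ N x)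

/-- A morphism landing in a subsheaf factors through it. -/
def subLift : M' ⟶ SubLib.subMod N where
  val := PresheafOfModules.homMk
    { app := fun U => AddCommGrpCat.ofHom
        { toFun := fun s => (⟨g.app U.unop s, fun x hx => by
            rw [← stalkLin_germ]; exact h x _⟩ : SubLib.sec N U.unop)
          map_zero' := Subtype.ext (map_zero (g.app U.unop).hom)
          map_add' := fun a b => Subtype.ext (map_add (g.app U.unop).hom a b) }
      naturality := fun U V i => AddCommGrpCat.hom_ext (AddMonoidHom.ext fun s =>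
        Subtype.ext (ConcreteCategory.congr_hom (g.mapPresheaf.naturality i) s)) }
    fun U r s => Subtype.ext (Scheme.Modules.Hom.app_smul g r s)

theorem subLift_ι : subLift N g h ≫ SubLib.subι N = g := by
  refine Scheme.Modules.hom_ext _ _ fun U => AddCommGrpCat.hom_ext (AddMonoidHom.ext fun s => ?_)
  rfl

end SubLift

variable {k : Type u} [Field k] {X : Scheme.{u}} (p : X ⟶ Spec (CommRingCat.of k)) (A : Type u) [Ring A]
  [Algebra k A] [Module.Finite k A] {c : ℕ} (s : BrSev.SBStr k A c p)

/-- The tautological module. -/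
def taut : X.Modules := SubLib.subMod (tautSt p s)

/-- Its inclusion in the free module. -/
def tautι : taut p A s ⟶ freeA k A := SubLib.subι (tautSt p s)

instance mono_tautι : Mono (tautι p A s) := inferInstanceAs (Mono (SubLib.subι _))

theorem exists_genOn_cover : ∀ x : X, ∃ W : X.Opens, IsAffineOpen W ∧ x ∈ W ∧ SubLib.GenOn (tautSt p s) W := fun x => by
  obtain ⟨W, hW, hxW, -⟩ := exists_isAffineOpen_mem_and_subset (U := (⊤ : X.Opens)) (x := x) trivial
  exact ⟨W, hW, hxW, genOn p s hW⟩

theorem isCoh_taut : Coh.IsCoh (taut p A s) := by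
  haveI : Coh.IsQCoh (freeA k A (X := X)) :=
    (isQCoh_and_isFP_of_isFinLocFree _ (DCohLib.isFinLocFree_freeMod _)).1
  exact ⟨SubLib.isQCoh_subMod _ (exists_genOn_cover p A s), SubLib.isFT_subMod _ (exists_genOn_cover p A s)⟩

theorem range_stalk_tautι (x : X) : LinearMap.range (stalkLin (tautι p A s) x) = tautSt p s x := by
  refine le_antisymm ?_ ?_
  · rintro _ ⟨z, rfl⟩
    obtain ⟨U, hxU, m, rfl⟩ := TopCat.Presheaf.exists_germ_eq (taut p A s).presheaf z
    rw [stalkLin_germ]
    exact SubLib.mem_sec_of_app (tautSt p s) U m x hxU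
  · obtain ⟨W, hW, hxW, G, hG⟩ := exists_genOn_cover p A s x
    rw [hG x hxW, Submodule.span_le]
    rintro _ ⟨t, ht, rfl⟩
    have hmem : t ∈ SubLib.sec (tautSt p s) W := fun y hy => hG y hy ▸ Submodule.subset_span (Set.mem_image_of_mem _ ht)
    exact ⟨(taut p A s).presheaf.germ W x hxW (⟨t, hmem⟩ : SubLib.sec (tautSt p s) W),
      stalkLin_germ (tautι p A s) x hxW _⟩

theorem lmulA_mem (a : A) (x : X) (z : (taut p A s).presheaf.stalk x) :
    stalkLin (tautι p A s ≫ lmulA p A a) x z ∈ tautSt p s x := by
  letI := algPt p (X.fromSpecStalk x)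
  rw [stalkLin_comp, LinearMap.comp_apply]
  have h : stalkLin (tautι p A s) x z ∈ tautSt p s x := range_stalk_tautι p A s x ▸ LinearMap.mem_range_self _ z
  obtain ⟨w, hw, hwz⟩ := h
  rw [← hwz, stalk_lmulA]
  exact Submodule.mem_map_of_mem (mul_mem_idealPt p s _ _ _ hw)

/-- Left multiplication on the tautological module. -/
def lmulT (a : A) : End (taut p A s) := subLift (tautSt p s) (tautι p A s ≫ lmulA p A a) (lmulA_mem p A s a)

theorem lmulT_ι (a : A) : (lmulT p A s a : taut p A s ⟶ taut p A s) ≫ tautι p A s = tautι p A s ≫ lmulA p A a :=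
  subLift_ι _ _ _

theorem hom_ext_vec {φ ψ : freeA k A (X := X) ⟶ freeA k A (X := X)}
    (h : ∀ (x : X), letI := algPt p (X.fromSpecStalk x)
      ∀ z, stalkLin φ x (vecSt k A x z) = stalkLin ψ x (vecSt k A x z)) : φ = ψ := by
  refine hom_ext_stalk fun x => LinearMap.ext fun v => ?_
  letI := algPt p (X.fromSpecStalk x)
  obtain ⟨z, rfl⟩ := (bijective_vecSt k A x).2 v
  exact h x z

theorem lmulA_one : lmulA p A (1 : A) = 𝟙 (freeA k A (X := X)) :=
  hom_ext_vec p A fun x z => by
    letI := algPt p (X.fromSpecStalk x)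
    rw [stalk_lmulA, stalkLin_id, ← Algebra.TensorProduct.one_def, one_mul, LinearMap.id_apply]

theorem lmulA_mul (a b : A) : lmulA p A (a * b) = lmulA p A b ≫ lmulA p A a :=
  hom_ext_vec p A fun x z => by
    letI := algPt p (X.fromSpecStalk x)
    rw [stalkLin_comp, LinearMap.comp_apply, stalk_lmulA, stalk_lmulA, stalk_lmulA, ← mul_assoc,
      Algebra.TensorProduct.tmul_mul_tmul, one_mul]

theorem lmulA_add (a b : A) : lmulA p A (a + b) = lmulA p A a + lmulA p A b :=
  hom_ext_vec p A fun x z => by
    letI := algPt p (X.fromSpecStalk x)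
    rw [stalk_lmulA, TensorProduct.tmul_add, add_mul, map_add, ← stalk_lmulA, ← stalk_lmulA, ← LinearMap.add_apply,
      ← stalkLin_add']

theorem lmulA_algebraMap (r : k) : lmulA p A (algebraMap k A r) = (cE p (freeA k A (X := X)) r : _ ⟶ _) :=
  hom_ext_vec p A fun x z => by
    letI := algPt p (X.fromSpecStalk x)
    rw [stalk_lmulA, stalkLin_cE]
    have h : (X.presheaf.germ ⊤ x trivial).hom (Coh.toGlobal (A := k) p r) = algebraMap k (X.presheaf.stalk x) r := by
      rw [← germ_secHom]
      congr 1
      show Coh.toGlobal (A := k) p r = X.presheaf.map _ (Coh.toGlobal (A := k) p r)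
      rw [show (homOfLE (le_top : (⊤ : X.Opens) ≤ ⊤)) = 𝟙 _ from Subsingleton.elim _ _, op_id,
        CategoryTheory.Functor.map_id]
      rfl
    rw [h, ← map_smul, Algebra.algebraMap_eq_smul_one, TensorProduct.tmul_smul, ← Algebra.TensorProduct.one_def,
      smul_mul_assoc, one_mul, algebraMap_smul]

/-- The action of the algebra on the tautological module. -/
def tautAct : letI := endAlg p (taut p A s); A →ₐ[k] End (taut p A s) :=
  letI := endAlg p (taut p A s)
  { toFun := lmulT p A s
    map_one' := (cancel_mono (tautι p A s)).1 (by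
      rw [lmulT_ι, lmulA_one, Category.comp_id]
      exact (Category.id_comp _).symm)
    map_mul' := fun a b => (cancel_mono (tautι p A s)).1 (by
      rw [lmulT_ι, lmulA_mul]
      show _ = ((lmulT p A s b : taut p A s ⟶ taut p A s) ≫ (lmulT p A s a : taut p A s ⟶ taut p A s)) ≫ _
      rw [Category.assoc, lmulT_ι, ← Category.assoc (lmulT p A s b : taut p A s ⟶ taut p A s), lmulT_ι,
        Category.assoc])
    map_zero' := (cancel_mono (tautι p A s)).1 (by
      rw [lmulT_ι]
      have h := lmulA_add p A (0 : A) 0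
      rw [add_zero, left_eq_add] at h
      rw [h, comp_zero]
      exact zero_comp.symm)
    map_add' := fun a b => (cancel_mono (tautι p A s)).1 (by
      rw [lmulT_ι, lmulA_add, Preadditive.comp_add]
      show _ = ((lmulT p A s a : taut p A s ⟶ taut p A s) + (lmulT p A s b : taut p A s ⟶ taut p A s)) ≫ _
      rw [Preadditive.add_comp, lmulT_ι, lmulT_ι])
    commutes' := fun r => (cancel_mono (tautι p A s)).1 (by
      rw [lmulT_ι, lmulA_algebraMap]
      exact (cE_natural p (tautι p A s) r).symm) }

theorem tautAct_ι (a : A) :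
    letI := endAlg p (taut p A s)
    (tautAct p A s a : taut p A s ⟶ taut p A s) ≫ tautι p A s = tautι p A s ≫ lmulA p A a :=
  lmulT_ι p A s a

end Groth.Agent.ASBunKS
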