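import Groth.Agent.ASBunKS.Types
import Groth.Agent.ASBunKS.TensorPowSum
import Groth.Agent.ASBunKS.Coherent
import Groth.Agent.DCohLib.ProjFlf
import Groth.Agent.AmpleLib.Pullback
import Groth.Agent.NormHomLib.Cases
import Groth.Agent.EtAlgEasy.PrinPartPush
import Groth.Agent.KoszShLib.AffHom
import Mathlib.RingTheory.Trace.Basic

/-!
# Bundles trivialised by a finite surjection are finite in the sense of Weil (characteristic zero)
-/

set_option autoImplicit false
set_option backward.isDefEq.respectTransparency false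
set_option linter.style.haveILetI false
set_option linter.unusedSectionVars false
set_option maxHeartbeats 1000000

universe u

open CategoryTheory CategoryTheory.Limits AlgebraicGeometry TopologicalSpace Opposite
open W4c1astiltbs12

noncomputable section

namespace Groth.Agent.ASBunKS

section Trace

variable {Z X : Scheme.{u}} [IsIntegral Z] [IsIntegral X] (g : Z ⟶ X) [IsFinite g] [Surjective g]

/-- In characteristic zero the structure module of a normal scheme is a direct summand of the direct image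
along a finite surjection. -/
theorem exists_split_finite (hX : Pi1.IsNormalScheme X) (hn : ∀ n : ℕ, 0 < n → IsUnit (n : Γ(X, ⊤))) :
    ∃ (s : Coh.structureModule X ⟶ (Scheme.Modules.pushforward g).obj (Coh.structureModule Z))
      (t : (Scheme.Modules.pushforward g).obj (Coh.structureModule Z) ⟶ Coh.structureModule X), s ≫ t = 𝟙 _ := by
  classical
  letI := NormHomLib.ffAlg g
  haveI := NormHomLib.finite_functionField g
  let d := Module.finrank X.functionField Z.functionField
  have hd : 0 < d := Module.finrank_pos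
  have hgen : ∀ (U : X.Opens) [Nonempty U], genericPoint X ∈ U := fun U _ => NormalSch.genericPoint_mem U
  have hdU : ∀ U : X.Opens, IsUnit (d : Γ(X, U)) := fun U => by
    simpa using (hn d hd).map (X.presheaf.map (homOfLE (le_top : U ≤ ⊤)).op).hom
  let tr : ∀ {U : X.Opens}, genericPoint X ∈ U → Γ(Z, g ⁻¹ᵁ U) → X.functionField := fun {U} hU a =>
    (d : X.functionField)⁻¹ *
      Algebra.trace X.functionField Z.functionField (Z.presheaf.germ (g ⁻¹ᵁ U) _ (NormHomLib.gen_preimage g hU) a)
  have hdK : (d : X.functionField) ≠ 0 := by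
    have h := (hdU ⊤).map (X.presheaf.germ ⊤ (genericPoint X) trivial).hom
    rw [map_natCast] at h
    exact h.ne_zero
  have hpiece : ∀ (W : X.Opens) (_ : IsAffineOpen W) (hη : genericPoint X ∈ W) (a : Γ(Z, g ⁻¹ᵁ W)),
      ∃ c : Γ(X, W), X.presheaf.germ W _ hη c = tr hη a := by
    intro W hW hη a
    haveI : Nonempty W := ⟨⟨_, hη⟩⟩
    haveI := functionField_isFractionRing_of_isAffineOpen X W hW
    haveI : IsIntegrallyClosed Γ(X, W) := NormalSch.isIntegrallyClosed_section hX W
    letI : Algebra Γ(X, W) Γ(Z, g ⁻¹ᵁ W) := (g.app W).hom.toAlgebra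
    haveI : Module.Finite Γ(X, W) Γ(Z, g ⁻¹ᵁ W) := g.finite_app W hW
    let γ : Γ(Z, g ⁻¹ᵁ W) →+* Z.functionField :=
      (Z.presheaf.germ (g ⁻¹ᵁ W) (genericPoint Z) (NormHomLib.gen_preimage g hη)).hom
    letI : Algebra Γ(X, W) Z.functionField := (γ.comp (g.app W).hom).toAlgebra
    haveI : IsScalarTower Γ(X, W) X.functionField Z.functionField :=
      .of_algebraMap_eq fun u => (NormHomLib.ffMap_germ g hη u).symm
    let γ' : Γ(Z, g ⁻¹ᵁ W) →ₐ[Γ(X, W)] Z.functionField := { γ with commutes' := fun _ => rfl }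
    have hi : IsIntegral Γ(X, W) (Algebra.trace X.functionField Z.functionField (γ a)) :=
      Algebra.isIntegral_trace ((IsIntegral.of_finite Γ(X, W) a).map γ')
    obtain ⟨c, hc⟩ := IsIntegrallyClosed.isIntegral_iff.1 hi
    obtain ⟨u, hu⟩ := hdU W
    refine ⟨(↑u⁻¹ : Γ(X, W)) * c, ?_⟩
    rw [map_mul]
    show _ = (d : X.functionField)⁻¹ * _
    congr 1
    refine eq_inv_of_mul_eq_one_left ?_
    rw [← map_natCast (X.presheaf.germ W (genericPoint X) hη).hom d, ← hu]
    rw [← map_mul, Units.inv_mul, map_one]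
  have hres : ∀ {U V : X.Opens} (i : V ≤ U) (hV : genericPoint X ∈ V) (a : Γ(Z, g ⁻¹ᵁ U)),
      tr hV (Z.presheaf.map (homOfLE (g.preimage_mono i)).op a) = tr (i hV) a := fun {U V} i hV a => by
    simp only [tr, TopCat.Presheaf.germ_res_apply]
  have hT : ∀ (U : X.Opens) (a : Γ(Z, g ⁻¹ᵁ U)), ∃ c : Γ(X, U), ∀ hη : genericPoint X ∈ U,
      X.presheaf.germ U _ hη c = tr hη a := by
    intro U a
    by_cases hη : genericPoint X ∈ U
    · haveI : Nonempty U := ⟨⟨_, hη⟩⟩
      obtain ⟨s, hs⟩ := NormalSch.exists_section U (tr hη a) fun y hy => by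
        obtain ⟨_, ⟨W : X.Opens, hW, rfl⟩, hyW, hWU⟩ := X.isBasis_affineOpens.exists_subset_of_mem_open hy U.2
        haveI : Nonempty W := ⟨⟨y, hyW⟩⟩
        obtain ⟨c, hc⟩ := hpiece W hW (hgen W) (Z.presheaf.map (homOfLE (g.preimage_mono (show W ≤ U from hWU))).op a)
        refine ⟨X.presheaf.germ W y hyW c, ?_⟩
        rw [Scheme.algebraMap_germ_eq_germToFunctionField (hx := hyW)]
        exact hc.trans (hres hWU (hgen W) a)
      exact ⟨s, fun _ => hs⟩
    · exact ⟨0, fun h => absurd h hη⟩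
  choose T hT using hT
  have hext : ∀ (U : X.Opens) (c c' : Γ(X, U)),
      (∀ hη : genericPoint X ∈ U, X.presheaf.germ U _ hη c = X.presheaf.germ U _ hη c') → c = c' := by
    intro U c c' h
    rcases isEmpty_or_nonempty U with he | hne
    · exact TopCat.Presheaf.section_ext X.sheaf U _ _ fun y hy => (he.false ⟨y, hy⟩).elim
    · exact X.germToFunctionField_injective U (h (hgen U))
  have hsmul : ∀ (U : X.Opens) (r : Γ(X, U)) (a : Γ(Z, g ⁻¹ᵁ U)), T U (g.app U r * a) = r * T U a :=
    fun U r a => hext U _ _ fun hη => by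
      rw [map_mul, hT, hT]
      simp only [tr, map_mul]
      rw [← NormHomLib.ffMap_germ g hη r]
      show _ * Algebra.trace X.functionField Z.functionField
        (algebraMap X.functionField Z.functionField _ * _) = _
      rw [← Algebra.smul_def, map_smul, smul_eq_mul]
      ring
  have hadd : ∀ (U : X.Opens) (a b : Γ(Z, g ⁻¹ᵁ U)), T U (a + b) = T U a + T U b :=
    fun U a b => hext U _ _ fun hη => by
      rw [map_add, hT, hT, hT]
      simp only [tr, map_add, mul_add]
  have hone : ∀ U : X.Opens, T U 1 = 1 := fun U => hext U _ _ fun hη => by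
    rw [map_one, hT]
    simp only [tr, map_one]
    rw [← map_one (algebraMap X.functionField Z.functionField), Algebra.trace_algebraMap, nsmul_eq_mul, mul_one]
    exact inv_mul_cancel₀ hdK
  have hTres : ∀ {U V : X.Opens} (i : V ≤ U) (a : Γ(Z, g ⁻¹ᵁ U)),
      T V (Z.presheaf.map (homOfLE (g.preimage_mono i)).op a) = X.presheaf.map (homOfLE i).op (T U a) :=
    fun {U V} i a => hext V _ _ fun hη => by
      rw [TopCat.Presheaf.germ_res_apply, hT, hT]
      exact hres i hη a
  obtain ⟨s, hs⟩ := KoszShLib.exists_hom_of_affine (M := Coh.structureModule X)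
    (N := (Scheme.Modules.pushforward g).obj (Coh.structureModule Z))
    (fun W => { toFun := fun x : Γ(X, W.1) => g.app W.1 x
                map_add' := fun a b => map_add _ a b
                map_smul' := fun r a => (map_mul (g.app W.1).hom r a :) })
    fun V W h t => ConcreteCategory.congr_hom (g.naturality (homOfLE h).op) t
  obtain ⟨t, ht⟩ := KoszShLib.exists_hom_of_affine (M := (Scheme.Modules.pushforward g).obj (Coh.structureModule Z))
    (N := Coh.structureModule X)
    (fun W => { toFun := fun x : Γ(Z, g ⁻¹ᵁ W.1) => T W.1 x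
                map_add' := hadd W.1
                map_smul' := fun r a => hsmul W.1 r a })
    fun V W h t => hTres h t
  refine ⟨s, t, KoszShLib.hom_ext_affine _ _ fun W x => ?_⟩
  show t.app W.1 (s.app W.1 x) = x
  rw [hs, ht]
  change T W.1 (g.app W.1 x) = x
  have h := hsmul W.1 x 1
  rwa [mul_one, hone, mul_one] at h

end Trace

/-- A bundle made free by a pull-back is a direct summand of a power of the direct image. -/
theorem exists_retract_push {Z X : Scheme.{u}} (g : Z ⟶ X)
    (s : Coh.structureModule X ⟶ (Scheme.Modules.pushforward g).obj (Coh.structureModule Z))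
    (t : (Scheme.Modules.pushforward g).obj (Coh.structureModule Z) ⟶ Coh.structureModule X) (hst : s ≫ t = 𝟙 _)
    {E : X.Modules} (hE : FlatMod.IsFinLocFree E) {r : ℕ}
    (e : (Scheme.Modules.pullback g).obj E ≅ FlatMod.freeMod Z r) :
    ∃ (i : E ⟶ pow ((Scheme.Modules.pushforward g).obj (Coh.structureModule Z)) r)
      (q : pow ((Scheme.Modules.pushforward g).obj (Coh.structureModule Z)) r ⟶ E), i ≫ q = 𝟙 E := by
  let B := (Scheme.Modules.pushforward g).obj (Coh.structureModule Z)
  let F := (DCoh.tensorBi (X := X)).flip.obj E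
  haveI := DCohLib.isIso_projMap_of_flf g hE (Coh.structureModule Z)
  let a : E ≅ F.obj (Coh.structureModule X) :=
    (AmpleLib.unitL E).symm
  let b : F.obj B ≅ pow B r :=
    asIso (DCohLib.projMap g (Coh.structureModule Z) E) ≪≫
      (Scheme.Modules.pushforward g).mapIso (AmpleLib.comm (Coh.structureModule Z) _ ≪≫
        DCohLib.tensorStructureIso _ ≪≫ e) ≪≫ mapPow _ _ r
  refine ⟨a.hom ≫ F.map s ≫ b.hom, b.inv ≫ F.map t ≫ a.inv, ?_⟩
  have h : F.map s ≫ F.map t = 𝟙 _ := by rw [← F.map_comp, hst, F.map_id]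
  simp [reassoc_of% h]

/-- Pulling back a tensor power of a bundle made free gives a free module. -/
theorem nonempty_pullback_tensorPow_free {Z X : Scheme.{u}} (g : Z ⟶ X) {E : X.Modules} {r : ℕ}
    (e : (Scheme.Modules.pullback g).obj E ≅ FlatMod.freeMod Z r) :
    ∀ n, Nonempty ((Scheme.Modules.pullback g).obj (CohB1.tensorPow E n) ≅ FlatMod.freeMod Z (r ^ n))
  | 0 => by
    rw [pow_zero]
    exact ⟨AmpleLib.pullO g ≪≫ (coproductUniqueIso fun _ : Fin 1 => Coh.structureModule Z).symm⟩
  | n + 1 => by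
    obtain ⟨a⟩ := nonempty_pullback_tensorPow_free g e n
    obtain ⟨b⟩ := nonempty_tensor_pow (Coh.structureModule Z) (Coh.structureModule Z) (r ^ n) r
    rw [pow_succ]
    let c : CohB1.tensorMod (Coh.structureModule Z) (Coh.structureModule Z) ≅ Coh.structureModule Z :=
      DCohLib.tensorStructureIso (Coh.structureModule Z)
    let d₁ : (Scheme.Modules.pullback g).obj (CohB1.tensorPow E (n + 1)) ≅
        CohB1.tensorMod ((Scheme.Modules.pullback g).obj (CohB1.tensorPow E n)) ((Scheme.Modules.pullback g).obj E) :=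
      AmpleLib.pullTensor g (CohB1.tensorPow E n) E
    exact ⟨d₁ ≪≫ AmpleLib.tIso a e ≪≫ b ≪≫ powIso c (r ^ n * r)⟩

theorem isFinLocFree_tensorPow' {X : Scheme.{u}} {E : X.Modules} (hE : FlatMod.IsFinLocFree E) :
    ∀ n, FlatMod.IsFinLocFree (CohB1.tensorPow E n)
  | 0 => DCohLib.isFinLocFree_iso (coproductUniqueIso fun _ : Fin 1 => Coh.structureModule X)
      (DCohLib.isFinLocFree_freeMod 1)
  | n + 1 => DCohLib.isFinLocFree_tensor (isFinLocFree_tensorPow' hE n) hE

/-- Two sums drawn from a family agree if the multiplicities agree. -/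
theorem nonempty_sigma_iso_of_card {X : Scheme.{u}} {n : ℕ} (Ls : Fin n → X.Modules) {S T : Type}
    [Fintype S] [Fintype T] (σ : S → Fin n) (τ : T → Fin n)
    (h : ∀ a, Fintype.card {s // σ s = a} = Fintype.card {t // τ t = a}) :
    Nonempty ((∐ fun s => Ls (σ s)) ≅ ∐ fun t => Ls (τ t)) := by
  let e : S ≃ T := Equiv.ofFiberEquiv (f := σ) (g := τ) fun a => Fintype.equivOfCardEq (h a)
  have he : ∀ s, τ (e s) = σ s := fun s => Equiv.ofFiberEquiv_map _ s
  exact ⟨Sigma.whiskerEquiv e fun s => eqToIso (congrArg Ls (he s))⟩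

/-- The main statement: a bundle made free by a finite surjection is finite in the sense of Weil. -/
theorem weilFinite_of_trivial_finite {k : Type u} [Field k] [CharZero k] {X : Scheme.{u}}
    (p : X ⟶ Spec (CommRingCat.of k)) [IsProper p] [IsIntegral X] (hX : Pi1.IsNormalScheme X)
    {W : Scheme.{u}} (f : W ⟶ X) [IsFinite f] [Surjective f] {r : ℕ} {E : X.Modules}
    (hE : FlatMod.IsFinLocFreeOfRank r E)
    (htriv : Nonempty ((Scheme.Modules.pullback f).obj E ≅ FlatMod.freeMod W r)) :
    ∃ P Q : Polynomial ℕ, P ≠ Q ∧ Nonempty ((∐ fun i : Fin (P.natDegree + 1) => ∐ fun _ : Fin (P.coeff ↑i) => CohB1.tensorPow E ↑i) ≅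
      (∐ fun i : Fin (Q.natDegree + 1) => ∐ fun _ : Fin (Q.coeff ↑i) => CohB1.tensorPow E ↑i)) := by
  classical
  haveI : IsLocallyNoetherian X := LocallyOfFiniteType.isLocallyNoetherian p
  obtain ⟨Z, j, hZ, hj, hjf⟩ := NormHomLib.exists_dominating_component f
  let g := j ≫ f
  haveI : Surjective g := hjf
  obtain ⟨e₀⟩ := htriv
  have e : (Scheme.Modules.pullback g).obj E ≅ FlatMod.freeMod Z r :=
    ((Scheme.Modules.pullbackComp j f).app E).symm ≪≫ (Scheme.Modules.pullback j).mapIso e₀ ≪≫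
      DCohLib.pullFreeIso j r
  obtain ⟨s, t, hst⟩ := exists_split_finite g hX fun n hn => by
    simpa using ((IsUnit.mk0 (n : k) (Nat.cast_ne_zero.2 hn.ne')).map (Coh.toGlobal p))
  let B := (Scheme.Modules.pushforward g).obj (Coh.structureModule Z)
  haveI : IsLocallyNoetherian Z := LocallyOfFiniteType.isLocallyNoetherian g
  have hB : Coh.IsCoh B := EtAlgEasy.PrinPartPush.isCoh_pushforward_finite g (DevLib.isCoh_structureModule Z)
  obtain ⟨n, Ls, hLs, ⟨eB⟩⟩ := exists_indec_coprod k p hB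
  have hLsC : ∀ a, Coh.IsCoh (Ls a) ∧ Indec (Ls a) := fun a =>
    ⟨isCoh_of_retract hB (Sigma.ι Ls a ≫ eB.inv) (eB.hom ≫ Sigma.desc fun b =>
      if h : b = a then eqToHom (congrArg Ls h) else 0) (by simp), hLs a⟩
  have hpow : ∀ i : ℕ, ∃ (m : ℕ) (σ : Fin m → Fin n),
      Nonempty (CohB1.tensorPow E i ≅ ∐ fun a => Ls (σ a)) := by
    intro i
    obtain ⟨ei⟩ := nonempty_pullback_tensorPow_free g e i
    have hEf : FlatMod.IsFinLocFree E := fun x => by
      obtain ⟨U, hx, hU⟩ := hE x
      exact ⟨U, r, hx, hU⟩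
    obtain ⟨u, v, huv⟩ := exists_retract_push g s t hst (isFinLocFree_tensorPow' hEf i) ei
    let θ : pow B (r ^ i) ≅ ∐ fun c : Fin (r ^ i * n) => Ls (finProdFinEquiv.symm c).2 :=
      powIso eB _ ≪≫ sigmaSigmaIso (fun _ : Fin (r ^ i) => Fin n) (fun _ a => Ls a) ≪≫
        Sigma.whiskerEquiv ((Equiv.sigmaEquivProd _ _).trans finProdFinEquiv) fun c =>
          eqToIso (congrArg Ls (by simp))
    obtain ⟨m, σ, ⟨ε⟩⟩ := exists_retract_sum p (fun c : Fin (r ^ i * n) => hLsC (finProdFinEquiv.symm c).2)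
      (u ≫ θ.hom) (θ.inv ≫ v) (by simp [huv])
    exact ⟨m, fun a => (finProdFinEquiv.symm (σ a)).2, ⟨ε⟩⟩
  choose m σ eσ using hpow
  let v : ℕ → Fin n → ℕ := fun i a => Fintype.card {b // σ i b = a}
  obtain ⟨c, hc, i₀, hi₀⟩ : ∃ c : Fin (n + 1) → ℤ, ∑ i, c i • (fun a => (v i a : ℤ)) = 0 ∧ ∃ i, c i ≠ 0 := by
    refine Fintype.not_linearIndependent_iff.1 fun h => ?_
    have := h.fintype_card_le_finrank
    simp at this
  let mk : (Fin (n + 1) → ℕ) → Polynomial ℕ := fun w => ∑ i : Fin (n + 1), Polynomial.monomial (i : ℕ) (w i)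
  have hmk : ∀ (w : Fin (n + 1) → ℕ) (i : Fin (n + 1)), (mk w).coeff i = w i := fun w i => by
    simp [mk, Polynomial.finset_sum_coeff, Polynomial.coeff_monomial, Fin.val_inj]
  have hdeg : ∀ w, (mk w).natDegree < n + 1 := fun w =>
    Nat.lt_succ_of_le (Polynomial.natDegree_sum_le_of_forall_le _ _ fun i _ =>
      (Polynomial.natDegree_monomial_le _).trans (Nat.lt_succ_iff.1 i.2))
  refine ⟨mk fun i => (c i).toNat, mk fun i => (-c i).toNat, fun h => hi₀ ?_, ?_⟩
  · have := congrArg (fun P : Polynomial ℕ => P.coeff i₀) h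
    simp only [hmk] at this
    omega
  let Ix : Polynomial ℕ → Type := fun P =>
    Σ i : Fin (P.natDegree + 1), Σ _ : Fin (P.coeff ↑i), Fin (m ↑i)
  let τ : ∀ P : Polynomial ℕ, Ix P → Fin n := fun P x => σ _ x.2.2
  have hiso : ∀ P : Polynomial ℕ,
      Nonempty ((∐ fun i : Fin (P.natDegree + 1) => ∐ fun _ : Fin (P.coeff ↑i) => CohB1.tensorPow E ↑i) ≅
        ∐ fun x : Ix P => Ls (τ P x)) := fun P =>
    ⟨(Sigma.mapIso fun i => (Sigma.mapIso fun _ => (eσ ↑i).some) ≪≫
        sigmaSigmaIso (fun _ : Fin (P.coeff ↑i) => Fin (m ↑i)) (fun _ b => Ls (σ ↑i b))) ≪≫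
      sigmaSigmaIso (fun i : Fin (P.natDegree + 1) => Σ _ : Fin (P.coeff ↑i), Fin (m ↑i))
        (fun i y => Ls (σ ↑i y.2))⟩
  have hcard : ∀ (w : Fin (n + 1) → ℕ) (a : Fin n),
      Fintype.card {x // τ (mk w) x = a} = ∑ i, w i * v i a := by
    intro w a
    have h1 : Fintype.card {x // τ (mk w) x = a} =
        ∑ i : Fin ((mk w).natDegree + 1), (mk w).coeff ↑i * v ↑i a := by
      simp only [Fintype.card_subtype, Finset.card_filter, v, τ, Ix]
      rw [Fintype.sum_sigma]
      refine Finset.sum_congr rfl fun i _ => ?_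
      rw [Fintype.sum_sigma]
      simp
    rw [h1, Fin.sum_univ_eq_sum_range (fun i => (mk w).coeff i * v i a),
      ← Polynomial.sum_over_range (p := mk w) (f := fun i c => c * v i a) (fun i => zero_mul _),
      Polynomial.sum_over_range' (p := mk w) (f := fun i c => c * v i a) (fun i => zero_mul _) (n + 1) (hdeg w),
      ← Fin.sum_univ_eq_sum_range (fun i => (mk w).coeff i * v i a)]
    simp [hmk]
  obtain ⟨eP⟩ := hiso (mk fun i => (c i).toNat)
  obtain ⟨eQ⟩ := hiso (mk fun i => (-c i).toNat)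
  obtain ⟨em⟩ := nonempty_sigma_iso_of_card Ls (τ (mk fun i => (c i).toNat)) (τ (mk fun i => (-c i).toNat)) fun a => by
    rw [hcard, hcard]
    have h := congrFun hc a
    simp only [Finset.sum_apply, Pi.smul_apply, smul_eq_mul, Pi.zero_apply] at h
    have h' : ((∑ i, (c i).toNat * v i a : ℕ) : ℤ) = ((∑ i, (-c i).toNat * v i a : ℕ) : ℤ) := by
      push_cast
      rw [← sub_eq_zero, ← Finset.sum_sub_distrib, ← h]
      refine Finset.sum_congr rfl fun i _ => ?_
      rw [← sub_mul, Int.toNat_sub_toNat_neg]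
    exact_mod_cast h'
  exact ⟨eP ≪≫ em ≪≫ eQ.symm⟩

end Groth.Agent.ASBunKS
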